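import Groth.Agent.CurvSt.K897.ContractFibre
import Groth.Agent.CurvSt.K896.TailBridge
import Groth.Agent.Ega2.Normal
import Groth.Agent.Sga5.ProjReg
import Groth.Agent.CurvesC.RegNormal
import Groth.Agent.Ega3B.ProjProper

/-!
# Contractions of curves: the component condition
-/

set_option autoImplicit false
universe u
open CategoryTheory CategoryTheory.Limits AlgebraicGeometry TopologicalSpace IsLocalRing

namespace K897.ContractComp

open Groth.Agent UnionTop NodeCross Contract DegUnion ContractFibre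
open Groth.Agent.CurvesC Groth.Agent.CurvesC.CurveNum Groth.Agent.CurvesC.TailNum Groth.Agent.CurvesC.TailGeom

section Loc

variable {X Y : Scheme.{u}} (c : X ⟶ Y) (V : Y.Opens) [IsIso (c ∣_ V)]

omit [IsIso (c ∣_ V)] in
theorem res_apply (x : X) (hx : c x ∈ V) : V.ι ((c ∣_ V) ⟨x, hx⟩) = c x :=
  congrArg (fun f : (c ⁻¹ᵁ V : Scheme.{u}) ⟶ Y => f ⟨x, hx⟩) (morphismRestrict_ι c V)

theorem exists_eq (y : Y) (hy : y ∈ V) : ∃ x, c x = y := by
  obtain ⟨⟨x, hx'⟩, hx⟩ := (c ∣_ V).homeomorph.surjective ⟨y, hy⟩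
  refine ⟨x, ?_⟩
  rw [← res_apply c V x hx']
  exact congrArg V.ι hx

theorem eq_of_eq {x x' : X} (hx : c x ∈ V) (h : c x = c x') : x = x' := by
  have hx' : c x' ∈ V := h ▸ hx
  have h1 : (c ∣_ V) ⟨x, hx⟩ = (c ∣_ V) ⟨x', hx'⟩ := by
    apply V.ι.isOpenEmbedding.injective
    rw [res_apply c V x hx, res_apply c V x' hx', h]
  have h2 := (c ∣_ V).homeomorph.injective h1
  exact congrArg Subtype.val h2

theorem specializes {x x' : X} (hx' : c x' ∈ V) (h : c x ⤳ c x') : x ⤳ x' := by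
  have hx : c x ∈ V := h.mem_open V.2 hx'
  have h1 : (c ∣_ V) ⟨x, hx⟩ ⤳ (c ∣_ V) ⟨x', hx'⟩ := by
    rw [← V.ι.isOpenEmbedding.isInducing.specializes_iff, res_apply c V x hx, res_apply c V x' hx']
    exact h
  have h2 : (⟨x, hx⟩ : (c ⁻¹ᵁ V : Scheme.{u})) ⤳ ⟨x', hx'⟩ :=
    ((c ∣_ V).homeomorph.isInducing.specializes_iff).1 h1
  exact h2.map (c ⁻¹ᵁ V).ι.continuous

end Loc

section Top

variable {X Y : Scheme.{u}} (c : X ⟶ Y) [IsNoetherian X] [IsProper c] (hdim : topologicalKrullDim X ≤ 1)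
  (hO : ∀ V : Y.Opens, IsIso (c.app V))

/-- near a point which is not the image of a contracted component, `c` is an isomorphism -/
theorem exists_nhd (hdim : topologicalKrullDim X ≤ 1) (hO : ∀ V : Y.Opens, IsIso (c.app V)) (y : Y)
    (hy : y ∉ c '' conE c) : ∃ V : Y.Opens, y ∈ V ∧ IsIso (c ∣_ V) := by
  refine exists_isIso c hO y ((finite_fibre_conD c c.isClosedMap hdim y).subset fun z hz => ⟨?_, hz⟩)
  have h := Set.eq_univ_iff_forall.1 (union_closure_compl (conD c)) z
  rw [← conE_eq c] at h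
  refine h.resolve_right fun h' => hy ⟨z, h', hz⟩

theorem notMem_of_generic {C : Set X} (_ : C ∈ irreducibleComponents (X : Type u)) (hn : ¬ IsCon c C) {ξ : X}
    (hξ : IsGenericPoint ξ C) : c ξ ∉ c '' conE c := by
  intro h
  have hcl := isClosed_of_mem_image c c.isClosedMap h
  apply hn
  refine ⟨c ξ, fun z hz => ?_⟩
  have h1 : ξ ⤳ z := hξ.specializes hz
  have h2 := h1.map c.continuous
  exact h2.mem_closed hcl rfl

omit [AlgebraicGeometry.IsNoetherian X] in
theorem isClosed_image {C : Set X} (hC : C ∈ irreducibleComponents (X : Type u)) : IsClosed (c '' C) :=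
  c.isClosedMap _ (isClosed_of_mem_irreducibleComponents C hC)

include hdim hO in
/-- the image of a noncontracted component is a component -/
theorem image_mem {C : Set X} (hC : C ∈ irreducibleComponents (X : Type u)) (hn : ¬ IsCon c C) :
    c '' C ∈ irreducibleComponents (Y : Type u) := by
  obtain ⟨ξ, hξ⟩ := QuasiSober.sober hC.1 (isClosed_of_mem_irreducibleComponents C hC)
  obtain ⟨V, hV, hVi⟩ := exists_nhd c hdim hO _ (notMem_of_generic c hC hn hξ)
  refine ⟨hC.1.image c c.continuous.continuousOn, fun Z hZ hCZ => ?_⟩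
  obtain ⟨ζ, hζ⟩ := QuasiSober.sober (S := closure Z) hZ.closure isClosed_closure
  have h1 : ζ ⤳ c ξ := hζ.specializes (subset_closure (hCZ ⟨ξ, hξ.mem, rfl⟩))
  obtain ⟨z, rfl⟩ := exists_eq c V ζ (h1.mem_open V.2 hV)
  have h2 : z ⤳ ξ := specializes c V hV h1
  have h3 : z = ξ := by
    have h4 : C ⊆ closure {z} := by
      rw [← hξ.def]
      exact (isClosed_closure.closure_subset_iff).2 (Set.singleton_subset_iff.2 h2.mem_closure)
    have h5 : closure {z} ⊆ C := hC.2 isIrreducible_singleton.closure h4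
    have h6 : IsGenericPoint z C := h5.antisymm h4
    exact h6.eq hξ
  subst h3
  intro y hy
  have h4 : y ∈ closure ({c z} : Set Y) := by
    rw [hζ.def]
    exact subset_closure hy
  exact (isClosed_image c hC).closure_subset_iff.2 (Set.singleton_subset_iff.2 ⟨z, hξ.mem, rfl⟩) h4

include hdim hO in
theorem image_injective {C C' : Set X} (hC : C ∈ irreducibleComponents (X : Type u)) (hn : ¬ IsCon c C)
    (hC' : C' ∈ irreducibleComponents (X : Type u)) (h : c '' C = c '' C') : C = C' := by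
  have hCc := isClosed_of_mem_irreducibleComponents C hC
  have hCc' := isClosed_of_mem_irreducibleComponents C' hC'
  obtain ⟨ξ, hξ⟩ := QuasiSober.sober hC.1 hCc
  obtain ⟨ξ', hξ'⟩ := QuasiSober.sober hC'.1 hCc'
  obtain ⟨V, hV, hVi⟩ := exists_nhd c hdim hO _ (notMem_of_generic c hC hn hξ)
  have h1 : IsGenericPoint (c ξ) (c '' C) := by
    have := hξ.image c.continuous
    rwa [(isClosed_image c hC).closure_eq] at this
  have h2 : IsGenericPoint (c ξ') (c '' C') := by
    have := hξ'.image c.continuous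
    rwa [(isClosed_image c hC').closure_eq] at this
  rw [← h] at h2
  have h3 := eq_of_eq c V hV (h1.eq h2)
  subst h3
  rw [← hξ.def, ← hξ'.def]

include hO in
/-- every component of `Y` is the image of a component -/
theorem exists_image {E : Set Y} (hE : E ∈ irreducibleComponents (Y : Type u)) :
    ∃ C ∈ irreducibleComponents (X : Type u), c '' C = E := by
  have hfin := NoetherianSpace.finite_irreducibleComponents (α := (X : Type u))
  have hsurj := Contract.surjective c hO c.isClosedMap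
  obtain ⟨D, hD, hED⟩ := isIrreducible_iff_sUnion_isClosed.1 hE.1 (hfin.image (c '' ·)).toFinset
    (fun D hD => by
      obtain ⟨C, hC, rfl⟩ := (Set.Finite.mem_toFinset _).1 hD
      exact isClosed_image c hC)
    (fun y _ => by
      rw [Set.Finite.coe_toFinset]
      obtain ⟨x, rfl⟩ := hsurj y
      have h1 : x ∈ ⋃₀ irreducibleComponents X := by rw [sUnion_irreducibleComponents]; trivial
      obtain ⟨C, hC, hxC⟩ := h1
      exact ⟨c '' C, ⟨C, hC, rfl⟩, x, hxC, rfl⟩)
  obtain ⟨C, hC, rfl⟩ := (Set.Finite.mem_toFinset _).1 hD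
  exact ⟨C, hC, (hE.2 (hC.1.image c c.continuous.continuousOn) hED).antisymm hED⟩

include hdim hO in
/-- every component of `Y` is the image of a noncontracted component -/
theorem exists_image' (h2 : ∀ y ∈ c '' conE c, (conD c ∩ c ⁻¹' {y}).Nonempty) {E : Set Y}
    (hE : E ∈ irreducibleComponents (Y : Type u)) :
    ∃ C ∈ irreducibleComponents (X : Type u), ¬ IsCon c C ∧ c '' C = E := by
  obtain ⟨C, hC, rfl⟩ := exists_image c hO hE
  by_cases hcon : IsCon c C
  · exfalso
    obtain ⟨x, hx⟩ := hC.1.1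
    obtain ⟨y', hy'⟩ := hcon
    have hxE : x ∈ conE c := ⟨C, ⟨hC, y', hy'⟩, hx⟩
    obtain ⟨z, ⟨C₃, ⟨hC₃, hn₃⟩, hz⟩, hzy⟩ := h2 (c x) ⟨x, hxE, rfl⟩
    have h3 := image_mem c hdim hO hC₃ hn₃
    have h4 : c '' C ⊆ c '' C₃ := by
      rintro _ ⟨w, hw, rfl⟩
      refine ⟨z, hz, ?_⟩
      have e1 : c w = y' := hy' hw
      have e2 : c x = y' := hy' hx
      have e3 : c z = c x := hzy
      rw [e1, e3, e2]
    have h5 : c '' C₃ ⊆ c '' C := hE.2 h3.1 h4
    apply hn₃
    refine ⟨y', fun w hw => ?_⟩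
    obtain ⟨v, hv, hvw⟩ := h5 ⟨w, hw, rfl⟩
    rw [Set.mem_preimage, ← hvw]
    exact hy' hv
  · exact ⟨C, hC, hcon, rfl⟩

end Top

section Rat

attribute [local instance] subOver

variable (k : Type u) [Field k] (X : Scheme.{u})
  {Y : Scheme.{u}} (c : X ⟶ Y) [IsNoetherian X] [IsProper c]

theorem isNormal_P1 : Pi1.IsNormalScheme (CohB1.ProjSpace 1 k) := by
  intro y
  have h := Groth.Agent.Sga5.ProjReg.isRegularLocalRing_stalk 1 k y
  exact ⟨inferInstance, Groth.Agent.CurvesC.RegNormal.isIntegrallyClosed _⟩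

/-- the restriction of `c` to a noncontracted component is finite -/
theorem isFinite_comp (hdim : topologicalKrullDim X ≤ 1) {C : Set X} (hC : C ∈ irreducibleComponents (X : Type u))
    (hn : ¬ IsCon c C) : IsFinite ((compIdeal C hC).subschemeι ≫ c) := by
  have : LocallyQuasiFinite ((compIdeal C hC).subschemeι ≫ c) := by
    refine LocallyQuasiFinite.of_finite_preimage_singleton _ fun y => ?_
    have h1 := finite_fibre_component c c.isClosedMap hdim hC hn y
    have h2 : ((compIdeal C hC).subschemeι ≫ c) ⁻¹' {y} = (compIdeal C hC).subschemeι ⁻¹' (C ∩ c ⁻¹' {y}) := by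
      ext z
      simp only [Set.mem_preimage, Set.mem_inter_iff, Scheme.Hom.comp_apply, Set.mem_singleton_iff]
      constructor
      · intro h
        exact ⟨(Set.ext_iff.1 (range_comp C hC) _).1 ⟨z, rfl⟩, h⟩
      · exact fun h => h.2
    rw [h2]
    exact h1.preimage (compIdeal C hC).subschemeι.isClosedEmbedding.injective.injOn
  exact IsFinite.of_isProper_of_locallyQuasiFinite _

/-- A noncontracted component over a smooth rational component is a projective line. -/
theorem exists_iso (hdim : topologicalKrullDim X ≤ 1) (hO : ∀ V : Y.Opens, IsIso (c.app V))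
    {C : Set X} (hC : C ∈ irreducibleComponents (X : Type u)) (hn : ¬ IsCon c C)
    (e : CohB1.ProjSpace 1 k ⟶ Y) [IsClosedImmersion e] (he : Set.range e = c '' C) :
    ∃ g : (compIdeal C hC).subscheme ⟶ CohB1.ProjSpace 1 k, IsIso g ∧ g ≫ e = (compIdeal C hC).subschemeι ≫ c := by
  have hint : IsIntegral (compIdeal C hC).subscheme := CompGeom.isIntegral_C X C hC
  obtain ⟨g, hg⟩ := Groth.Agent.Ega1.ReducedSub.exists_factor_of_range_subset
    ((compIdeal C hC).subschemeι ≫ c) e (by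
      rw [he, Scheme.Hom.comp_base, TopCat.coe_comp, Set.range_comp, range_comp])
  refine ⟨g, ?_, hg⟩
  have hfin := isFinite_comp X c hdim hC hn
  rw [← hg] at hfin
  have hfin' : IsFinite g := IsFinite.of_comp g e
  obtain ⟨ξ, hξ⟩ := QuasiSober.sober hC.1 (isClosed_of_mem_irreducibleComponents C hC)
  obtain ⟨V, hV, hVi⟩ := exists_nhd c hdim hO _ (notMem_of_generic c hC hn hξ)
  have hr : Set.range ((e ∣_ V) ≫ inv (c ∣_ V) ≫ (c ⁻¹ᵁ V).ι) ⊆ Set.range (compIdeal C hC).subschemeι := by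
    rw [range_comp]
    rintro _ ⟨z, rfl⟩
    have h1 : c (((e ∣_ V) ≫ inv (c ∣_ V) ≫ (c ⁻¹ᵁ V).ι) z) = e ((e ⁻¹ᵁ V).ι z) := by
      have h2 : ((e ∣_ V) ≫ inv (c ∣_ V) ≫ (c ⁻¹ᵁ V).ι) ≫ c = (e ⁻¹ᵁ V).ι ≫ e := by
        rw [Category.assoc, Category.assoc, ← morphismRestrict_ι, IsIso.inv_hom_id_assoc, morphismRestrict_ι]
      exact congrArg (fun f : (e ⁻¹ᵁ V : Scheme.{u}) ⟶ Y => f z) h2
    have h2 : e ((e ⁻¹ᵁ V).ι z) ∈ c '' C := by rw [← he]; exact ⟨_, rfl⟩
    have h3 : e ((e ⁻¹ᵁ V).ι z) ∈ V := z.2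
    obtain ⟨w, hw, hwe⟩ := h2
    rw [← h1] at hwe
    have h4 := eq_of_eq c V (x := w) (x' := ((e ∣_ V) ≫ inv (c ∣_ V) ≫ (c ⁻¹ᵁ V).ι) z)
      (by rw [hwe, h1]; exact h3) hwe
    rw [← h4]
    exact hw
  obtain ⟨s, hs⟩ := Groth.Agent.Ega1.ReducedSub.exists_factor_of_range_subset
    ((e ∣_ V) ≫ inv (c ∣_ V) ≫ (c ⁻¹ᵁ V).ι) (compIdeal C hC).subschemeι hr
  have hs' : s ≫ g = (e ⁻¹ᵁ V).ι := by
    rw [← cancel_mono e, Category.assoc, hg, ← Category.assoc, hs, Category.assoc, Category.assoc,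
      ← morphismRestrict_ι, IsIso.inv_hom_id_assoc, morphismRestrict_ι]
  refine Groth.Agent.Ega2.Normal.isIso_of_integral_hom_of_rational_section (isNormal_P1 k) g (e ⁻¹ᵁ V) ?_ s hs'
  have h5 : c ξ ∈ Set.range e := by rw [he]; exact ⟨ξ, hξ.mem, rfl⟩
  obtain ⟨z, hz⟩ := h5
  refine ⟨z, ?_⟩
  change e z ∈ V
  rw [hz]
  exact hV

end Rat

section Main

attribute [local instance] subOver

variable (k : Type u) [Field k] [IsAlgClosed k] (X : Scheme.{u}) [X.Over (Spec (CommRingCat.of k))]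
  [IsProper (X ↘ (Spec (CommRingCat.of k)))] [ConnectedSpace X] [IsReduced X]
  {Y : Scheme.{u}} (fY : Y ⟶ Spec (CommRingCat.of k)) (c : X ⟶ Y) [IsProper c]

/-- The number of special points of a component of genus zero on which `w` has positive degree. -/
theorem three_le (hdim : topologicalKrullDim X = 1) (hX : Curv2.AtWorstNodal k X) (w : X.Modules)
    (hform : Form k X w) {C : Set X} (hC : C ∈ irreducibleComponents (X : Type u))
    (h1 : Subsingleton (Coh.HH (compIdeal C hC).subscheme (Coh.structureModule (compIdeal C hC).subscheme) 1))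
    (hpos : 0 < cdeg k X w C hC) : 3 ≤ (C ∩ closure Cᶜ).ncard := by
  have hN : IsNoetherian X := VarietyB.DegFin.isNoetherian_of_isProper k X
  have hint : IsIntegral (compIdeal C hC).subscheme := CompGeom.isIntegral_C X C hC
  have hP : IsProper ((compIdeal C hC).subscheme ↘ Spec (CommRingCat.of k)) :=
    inferInstanceAs (IsProper ((compIdeal C hC).subschemeι ≫ (X ↘ (Spec (CommRingCat.of k)))))
  have hJN : IsNoetherian (compIdeal C hC).subscheme := VarietyB.DegFin.isNoetherian_of_isProper k _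
  have hd1 : topologicalKrullDim (compIdeal C hC).subscheme = 1 := dim_sub k X hdim _ hC (le_refl C)
  have h2 := hform (compIdeal C hC) inferInstance (TailMain.pure_of_connected _ hd1)
  unfold TailMain.DegFormula at h2
  rw [coe_support_compIdeal] at h2
  have h3 : Module.finrank k (Coh.HH X (ClSub.quotMod (compIdeal C hC ⊔ complIdeal (compCloseds C hC))) 0) =
      (C ∩ closure Cᶜ).ncard :=
    K326.DegPts.finrank_inter k X hdim.le hX (compCloseds C hC) (subset_closure_interior (isUnion_component hC))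
  have h4 : Module.finrank k (Coh.HH X (ClSub.quotMod (compIdeal C hC)) 0) = 1 := by
    rw [← finrank_quotMod k X (compIdeal C hC) 0]
    exact K326.DegPts.finrank_zero k (compIdeal C hC).subscheme
  have h5 : Module.finrank k (Coh.HH X (ClSub.quotMod (compIdeal C hC)) 1) = 0 := by
    rw [← finrank_quotMod k X (compIdeal C hC) 1]
    exact Module.finrank_zero_of_subsingleton
  rw [h4, h5] at h2
  have h6 : cdeg k X w C hC = ((C ∩ closure Cᶜ).ncard : ℤ) - 2 := by
    rw [cdeg, h2, h3]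
    push_cast
    ring
  omega

/-- **The component condition.** -/
theorem three_le_meetPts (hdim : topologicalKrullDim X = 1) (hX : Curv2.AtWorstNodal k X) (w : X.Modules)
    (hform : Form k X w)
    (hO : ∀ V : Y.Opens, IsIso (c.app V))
    (hfib : ∀ y ∈ c '' conE c, (conD c ∩ c ⁻¹' {y}).ncard = 2)
    (hpos : ∀ (C : Set X) (hC : C ∈ irreducibleComponents (X : Type u)), ¬ IsCon c C → 0 < cdeg k X w C hC)
    (E : Set Y) (hE : CurvSt.IsSmRatComp k Y fY E) : (3 : ℕ∞) ≤ (CurvSt.meetPts Y E).encard := by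
  have hN : IsNoetherian X := VarietyB.DegFin.isNoetherian_of_isProper k X
  have hne : ∀ y ∈ c '' conE c, (conD c ∩ c ⁻¹' {y}).Nonempty := by
    intro y hy
    rw [← Set.ncard_pos (finite_fibre_conD c c.isClosedMap hdim.le y), hfib y hy]
    exact two_pos
  obtain ⟨C, hC, hn, hCE⟩ := exists_image' c hdim.le hO hne hE.1
  obtain ⟨hE1, e, hec, -, her⟩ := hE
  obtain ⟨g, hgi, hg⟩ := exists_iso k X c hdim.le hO hC hn e (her.trans hCE.symm)
  have h1 : Subsingleton (Coh.HH (compIdeal C hC).subscheme (Coh.structureModule (compIdeal C hC).subscheme) 1) :=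
    K896.TailBridge.subsingleton_of_iso_P1 (asIso g).symm
  have h3 := three_le k X hdim hX w hform hC h1 (hpos C hC hn)
  -- `c` is injective on `C`
  have hinj : Set.InjOn c C := by
    intro x hx x' hx' hxx
    obtain ⟨z, rfl⟩ : x ∈ Set.range (compIdeal C hC).subschemeι := (Set.ext_iff.1 (range_comp C hC) _).2 hx
    obtain ⟨z', rfl⟩ : x' ∈ Set.range (compIdeal C hC).subschemeι := (Set.ext_iff.1 (range_comp C hC) _).2 hx'
    have h4 : ∀ z, c ((compIdeal C hC).subschemeι z) = e (g z) := fun z =>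
      congrArg (fun f : (compIdeal C hC).subscheme ⟶ Y => f z) hg.symm
    rw [h4, h4] at hxx
    rw [g.homeomorph.injective (e.isClosedEmbedding.injective hxx)]
  have himg : c '' (C ∩ closure Cᶜ) ⊆ CurvSt.meetPts Y E := by
    rintro _ ⟨x, ⟨hxC, hx⟩, rfl⟩
    refine ⟨by rw [← hCE]; exact ⟨x, hxC, rfl⟩, ?_⟩
    obtain ⟨C₂, hC₂, hne₂, hx₂⟩ := (K896.CompMeet.mem_closure_compl_iff hC x).1 hx
    by_cases hcon : IsCon c C₂
    · obtain ⟨y', hy'⟩ := hcon
      have hy : c x ∈ c '' conE c := ⟨x, ⟨C₂, ⟨hC₂, y', hy'⟩, hx₂⟩, rfl⟩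
      obtain ⟨x₁, x₂, hx12, heq⟩ := Set.ncard_eq_two.1 (hfib _ hy)
      have hxm : x ∈ conD c ∩ c ⁻¹' {c x} := ⟨⟨C, ⟨hC, hn⟩, hxC⟩, rfl⟩
      obtain ⟨x', hx'm, hx'⟩ : ∃ x' ∈ conD c ∩ c ⁻¹' {c x}, x' ≠ x := by
        rw [heq] at hxm ⊢
        rcases hxm with rfl | h
        · exact ⟨x₂, Or.inr rfl, fun h => hx12 h.symm⟩
        · rw [Set.mem_singleton_iff] at h
          subst h
          exact ⟨x₁, Or.inl rfl, hx12⟩
      obtain ⟨⟨C₃, ⟨hC₃, hn₃⟩, hx'3⟩, hcx'⟩ := hx'm
      refine ⟨c '' C₃, image_mem c hdim.le hO hC₃ hn₃, ?_, ⟨x', hx'3, hcx'⟩⟩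
      intro h
      rw [← hCE] at h
      have h5 := image_injective c hdim.le hO hC₃ hn₃ hC h
      subst h5
      exact hx' (hinj hx'3 hxC hcx')
    · refine ⟨c '' C₂, image_mem c hdim.le hO hC₂ hcon, ?_, ⟨x, hx₂, rfl⟩⟩
      intro h
      rw [← hCE] at h
      exact hne₂ (image_injective c hdim.le hO hC₂ hcon hC h)
  have hfin : (C ∩ closure Cᶜ).Finite := (TailGeom.finite_inter hdim.le hC).1
  calc (3 : ℕ∞) ≤ ((C ∩ closure Cᶜ).ncard : ℕ∞) := by exact_mod_cast h3
    _ = (C ∩ closure Cᶜ).encard := hfin.cast_ncard_eq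
    _ = (c '' (C ∩ closure Cᶜ)).encard := ((hinj.mono Set.inter_subset_left).encard_image).symm
    _ ≤ _ := Set.encard_le_encard himg

end Main

end K897.ContractComp
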