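import Groth.Agent.CurvSt.K897.FamContr
import Groth.Agent.CurvSt.K897.ContractComp

/-!
# The generic fibre of the contraction
-/

set_option autoImplicit false
universe u
open CategoryTheory CategoryTheory.Limits AlgebraicGeometry TopologicalSpace Opposite

namespace K897.GenIso

open Groth.Agent Contract

theorem isIso_of_noCon {X Y : Scheme.{u}} (c : X ⟶ Y) [IsNoetherian X] [IsProper c]
    (hdim : topologicalKrullDim X ≤ 1) (hO : ∀ V : Y.Opens, IsIso (c.app V))
    (hn : ∀ C ∈ irreducibleComponents (X : Type u), ¬ IsCon c C) : IsIso c := by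
  have h : ∀ y : Y, ∃ V : Y.Opens, y ∈ V ∧ IsIso (c ∣_ V) := fun y =>
    ContractComp.exists_nhd c hdim hO y (by
      rintro ⟨x, ⟨C, ⟨hC, hcon⟩, -⟩, -⟩
      exact hn C hC hcon)
  choose V hV hVi using h
  have h1 : ⨆ y, V y = ⊤ := by
    rw [eq_top_iff]
    exact fun y _ => Opens.mem_iSup.2 ⟨y, hV y⟩
  exact (IsZariskiLocalAtTarget.iff_of_iSup_eq_top (P := MorphismProperty.isomorphisms Scheme.{u}) V h1).2 hVi

theorem isIso_of_dim {X Y : Scheme.{u}} (c : X ⟶ Y) [IsNoetherian X] [IrreducibleSpace X] [IsProper c]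
    (hdim : topologicalKrullDim X ≤ 1) (hO : ∀ V : Y.Opens, IsIso (c.app V)) (hY : topologicalKrullDim Y = 1) :
    IsIso c := by
  refine isIso_of_noCon c hdim hO fun C hC hcon => ?_
  rw [irreducibleComponents_eq_singleton, Set.mem_singleton_iff] at hC
  subst hC
  obtain ⟨y, hy⟩ := hcon
  have h1 : Subsingleton Y := by
    refine ⟨fun a b => ?_⟩
    obtain ⟨a, rfl⟩ := Contract.surjective c hO c.isClosedMap a
    obtain ⟨b, rfl⟩ := Contract.surjective c hO c.isClosedMap b
    exact (hy (Set.mem_univ a)).trans (hy (Set.mem_univ b)).symm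
  have h2 : topologicalKrullDim Y ≤ 0 := by
    have h3 : Subsingleton (IrreducibleCloseds Y) := by
      refine ⟨fun A B => ?_⟩
      ext z
      obtain ⟨a, ha⟩ := A.2.nonempty
      obtain ⟨b, hb⟩ := B.2.nonempty
      exact ⟨fun _ => Subsingleton.elim b z ▸ hb, fun _ => Subsingleton.elim a z ▸ ha⟩
    exact Order.krullDim_nonpos_of_subsingleton
  rw [hY] at h2
  exact absurd h2 (by norm_num)

variable {R : Type u} [CommRing R] [IsDomain R] [IsDiscreteValuationRing R] {X Y : Scheme.{u}}
  (c : X ⟶ Y) (q : Y ⟶ Spec (CommRingCat.of R)) [IsProper c] [IsProper q]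

/-- the contraction is a model -/
theorem isModel {C : Scheme.{u}} {f : C ⟶ Spec (CommRingCat.of (FractionRing R))}
    (hC : Curve.IsSmoothProperCurve (FractionRing R) C f) (gC : C ⟶ X)
    (hgC : IsPullback gC f (c ≫ q) (Spec.map (CommRingCat.ofHom (algebraMap R (FractionRing R)))))
    (hO : ∀ V : Y.Opens, IsIso (c.app V)) (hp : Curv2.IsNodalFamily (c ≫ q)) {g : ℕ}
    (hgeo : K898.StabFam.GeoGenus g (c ≫ q)) {L : X.Modules} (hL : PicF.IsInvertible L)
    (hvan : ∀ n : ℕ, 1 ≤ n → Subsingleton (Coh.HH X L n))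
    {J : Type*} (s : J → (Coh.structureModule X ⟶ L)) (V : J → Y.Opens) (hcov : ⨆ j, V j = ⊤)
    (hs : ∀ j, c ⁻¹ᵁ V j = CohB1.genLocus L (s j)) (hgeoY : K898.StabFam.GeoGenus g q) :
    Models.IsModel R Y q C f := by
  have hfl : Flat (c ≫ q) := hp.1
  have hflq : Flat q := FamContr.flat c q hO hp
  refine ⟨hflq, inferInstance, inferInstance, gC ≫ c, ?_⟩
  set b := Spec.map (CommRingCat.ofHom (algebraMap R (FractionRing R))) with hb
  have hP := IsPullback.of_hasPullback q b
  have hw : (gC ≫ c) ≫ q = f ≫ b := by rw [Category.assoc, hgC.w]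
  let cK : C ⟶ pullback q b := pullback.lift (gC ≫ c) f hw
  have hcK1 : cK ≫ pullback.fst q b = gC ≫ c := pullback.lift_fst _ _ _
  have hcK2 : cK ≫ pullback.snd q b = f := pullback.lift_snd _ _ _
  have hX : IsPullback gC cK c (pullback.fst q b) := by
    refine IsPullback.of_bot ?_ hcK1.symm hP
    rw [hcK2]
    exact hgC
  have hdim := FamContr.dim_fiber_le c q hgeo
  have hH1 := FamContr.fibre_H1 c q hp hgeo hL hvan s V hcov hs
  have hO' : ∀ W : (pullback q b).Opens, IsIso (cK.app W) := fun W =>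
    SteinAcyc.isIso_app c q hO hdim hH1 hP hX W
  have hdY : topologicalKrullDim (pullback q b : Scheme.{u}) = 1 := by
    rw [Flat2G.ProperDim.topologicalKrullDim_field_point q (Field.toIsField (FractionRing R)) _ _ _ hP
      (IsLocalRing.closedPoint (FractionRing R))]
    exact K898.StabFam.dim_fiber q hgeoY _
  obtain ⟨hCp, hCs, hCi, hCd⟩ := hC
  have hpcK : IsProper cK := MorphismProperty.of_isPullback (P := @IsProper) hX inferInstance
  have hNC : IsNoetherian C := by
    let _ : C.Over (Spec (CommRingCat.of (FractionRing R))) := ⟨f⟩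
    have : IsProper (C ↘ Spec (CommRingCat.of (FractionRing R))) := hCp
    exact VarietyB.DegFin.isNoetherian_of_isProper (FractionRing R) C
  have hiso : IsIso cK := isIso_of_dim cK hCd.le hO' hdY
  exact IsPullback.of_iso hP (asIso cK).symm (Iso.refl _) (Iso.refl _) (Iso.refl _)
    (by simp [← hcK1]) (by simp [← hcK2]) (by simp) (by simp)

end K897.GenIso
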