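import Groth.Agent.VarietyA.ProjMor
import Groth.Agent.Ega1.GlobGenPt
import Groth.Agent.S1297
import Groth.Agent.S1340
import Groth.Prelude.Def_Curv2

/-!
# The Stein factorization of the morphism defined by a globally generated invertible module
-/

set_option autoImplicit false
universe u
open CategoryTheory CategoryTheory.Limits AlgebraicGeometry TopologicalSpace Opposite
set_option backward.isDefEq.respectTransparency false

namespace K897.SteinMap

open Groth.Agent

theorem exists_fin_cover {X : Scheme.{u}} [CompactSpace X] {M : X.Modules} (hM : PicF.IsInvertible M)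
    (hg : Curv2.IsGloballyGenerated M) : ∃ (n : ℕ) (s : Fin (n + 1) → (Coh.structureModule X ⟶ M)),
      ⨆ i, CohB1.genLocus M (s i) = ⊤ := by
  choose τ hτ using fun x => Ega1.GlobGenPt.exists_mem_genLocus hM hg x
  obtain ⟨F, hF⟩ := isCompact_univ.elim_finite_subcover (fun x => (CohB1.genLocus M (τ x) : Set X))
    (fun x => (CohB1.genLocus M (τ x)).isOpen) (fun x _ => Set.mem_iUnion.2 ⟨x, hτ x⟩)
  obtain ⟨N, ⟨e⟩⟩ := Finite.exists_equiv_fin F
  refine ⟨N, fun i => if h : i.1 < N then τ (e.symm ⟨i.1, h⟩) else 0, ?_⟩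
  rw [eq_top_iff]
  intro x _
  obtain ⟨y, hy, hxy⟩ := Set.mem_iUnion₂.1 (hF (Set.mem_univ x))
  refine Opens.mem_iSup.2 ⟨⟨(e ⟨y, hy⟩).1, by omega⟩, ?_⟩
  have h : ((⟨(e ⟨y, hy⟩).1, by omega⟩ : Fin (N + 1)) : ℕ) < N := (e ⟨y, hy⟩).2
  simp only [h, dif_pos]
  have h2 : e.symm (e ⟨y, hy⟩) = ⟨y, hy⟩ := e.symm_apply_apply _
  simpa [h2] using hxy

/-- **Stein factorization.** -/
theorem exists_stein {R : Type u} [CommRing R] [IsNoetherianRing R] {X : Scheme.{u}}
    (p : X ⟶ Spec (CommRingCat.of R)) [IsProper p] {L : X.Modules} (hL : PicF.IsInvertible L)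
    (hgg : Curv2.IsGloballyGenerated L) :
    ∃ (Y : Scheme.{u}) (c : X ⟶ Y) (q : Y ⟶ Spec (CommRingCat.of R)) (n : ℕ)
      (s : Fin (n + 1) → (Coh.structureModule X ⟶ L)) (V : Fin (n + 1) → Y.Opens),
      c ≫ q = p ∧ IsProper c ∧ IsProper q ∧ (∀ U : Y.Opens, IsIso (c.app U)) ∧ ⨆ j, V j = ⊤ ∧
      (∀ j, IsAffineOpen (V j)) ∧ ∀ j, c ⁻¹ᵁ V j = CohB1.genLocus L (s j) := by
  have hcs : CompactSpace X := QuasiCompact.compactSpace_of_compactSpace p
  obtain ⟨n, s, hcov⟩ := exists_fin_cover hL hgg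
  obtain ⟨φ, hφ, hk⟩ := VarietyA.ProjMor.exists_hom_projSpace p s hcov
  have hsep : IsSeparated (CohB1.ProjSpace.toSpec n R) := inferInstance
  have hprop : IsProper (φ ≫ CohB1.ProjSpace.toSpec n R) := by rw [hφ]; infer_instance
  have hφp : IsProper φ := IsProper.of_comp φ (CohB1.ProjSpace.toSpec n R)
  have hNoeth : IsLocallyNoetherian (CohB1.ProjSpace n R) :=
    LocallyOfFiniteType.isLocallyNoetherian (CohB1.ProjSpace.toSpec n R)
  have hfin : IsFinite φ.fromNormalization := S1297.result φ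
  let P : Fin (n + 1) → (CohB1.ProjSpace n R).Opens := fun k =>
    Proj.basicOpen (CohB1.polyGrading n R) (MvPolynomial.X k : MvPolynomial (Fin (n + 1)) R)
  have hPaff : ∀ k, IsAffineOpen (P k) := fun k =>
    Proj.isAffineOpen_basicOpen (CohB1.polyGrading n R) (m := 1) _
      (MvPolynomial.isHomogeneous_X _ k) Nat.one_pos
  have hPk : ∀ k, φ ⁻¹ᵁ (P k) = CohB1.genLocus L (s k) := hk
  have hf1 : φ.toNormalization ≫ φ.fromNormalization = φ := Scheme.Hom.toNormalization_fromNormalization φ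
  have hsepN : IsSeparated φ.fromNormalization := inferInstance
  have hfp : IsProper φ.toNormalization := by
    have : IsProper (φ.toNormalization ≫ φ.fromNormalization) := by rw [hf1]; exact hφp
    exact IsProper.of_comp _ φ.fromNormalization
  refine ⟨φ.normalization, φ.toNormalization, φ.fromNormalization ≫ CohB1.ProjSpace.toSpec n R, n, s,
    fun k => φ.fromNormalization ⁻¹ᵁ P k, ?_, hfp, ?_, fun U => S1340.result φ U, ?_,
    fun k => (hPaff k).preimage _, fun k => ?_⟩
  · rw [← Category.assoc, hf1, hφ]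
  · exact MorphismProperty.comp_mem (W := @IsProper) _ _ inferInstance inferInstance
  · rw [eq_top_iff]
    intro y _
    obtain ⟨j, hj⟩ := PerfB.ProjSpaceCover.exists_mem_basicOpen_X n R (φ.fromNormalization y)
    exact Opens.mem_iSup.2 ⟨j, hj⟩
  · rw [← Scheme.Hom.comp_preimage, hf1, hPk]

end K897.SteinMap
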