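import Groth.Agent.CurvesB.NodeLike
import Mathlib.RingTheory.DiscreteValuationRing.Basic
import Mathlib.RingTheory.DiscreteValuationRing.TFAE

/-!
# Two branches of a node meet transversally

`sup_eq`: in a node-like local ring, two ideals `I`, `J` with `I ⊓ J = ⊥` and discrete valuation rings as quotients
satisfy `I ⊔ J = 𝔪`.
-/

set_option autoImplicit false

open IsLocalRing

namespace K897.NodeBranch

open Groth.Agent.CurvesB.Node

variable {A : Type*} [CommRing A] [IsLocalRing A]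

/-- a uniformizer of a quotient which is a discrete valuation ring -/
theorem exists_unif (J : Ideal A) [IsDomain (A ⧸ J)] [IsDiscreteValuationRing (A ⧸ J)] :
    ∃ x ∈ maximalIdeal A, Irreducible (Ideal.Quotient.mk J x) ∧
      ∀ a ∈ maximalIdeal A, ∃ b : A, a - b * x ∈ J := by
  have hJm : J ≤ maximalIdeal A := IsLocalRing.le_maximalIdeal (Ideal.Quotient.nontrivial_iff.1 inferInstance)
  have hunit : ∀ a : A, a ∈ maximalIdeal A → ¬ IsUnit (Ideal.Quotient.mk J a) := by
    intro a ha hu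
    obtain ⟨b, hb⟩ := hu.exists_left_inv
    obtain ⟨b, rfl⟩ := Ideal.Quotient.mk_surjective b
    rw [← map_mul, ← map_one (Ideal.Quotient.mk J), Ideal.Quotient.eq] at hb
    have h1 : (1 : A) ∈ maximalIdeal A := by
      have := (maximalIdeal A).sub_mem (Ideal.mul_mem_left _ b ha) (hJm hb)
      rwa [sub_sub_cancel] at this
    exact (Ideal.ne_top_iff_one _).1 (maximalIdeal.isMaximal A).ne_top h1
  obtain ⟨ϖ, hϖ⟩ := IsDiscreteValuationRing.exists_irreducible (A ⧸ J)
  obtain ⟨x, rfl⟩ := Ideal.Quotient.mk_surjective ϖ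
  have hxm : x ∈ maximalIdeal A := by
    rw [mem_maximalIdeal, mem_nonunits_iff]
    intro hx
    exact hϖ.not_isUnit (hx.map _)
  refine ⟨x, hxm, hϖ, fun a ha => ?_⟩
  have h1 : Ideal.Quotient.mk J a ∈ maximalIdeal (A ⧸ J) := by
    rw [mem_maximalIdeal, mem_nonunits_iff]
    exact hunit a ha
  rw [hϖ.maximalIdeal_eq, Ideal.mem_span_singleton'] at h1
  obtain ⟨b, hb⟩ := h1
  obtain ⟨b, rfl⟩ := Ideal.Quotient.mk_surjective b
  rw [← map_mul] at hb
  exact ⟨b, Ideal.Quotient.eq.1 hb.symm⟩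

theorem sup_eq (hA : NodeLike A) (I J : Ideal A) (hIJ : I ⊓ J = ⊥) [IsDomain (A ⧸ I)]
    [IsDiscreteValuationRing (A ⧸ I)] [IsDomain (A ⧸ J)] [IsDiscreteValuationRing (A ⧸ J)] :
    I ⊔ J = maximalIdeal A := by
  have hIm : I ≤ maximalIdeal A := IsLocalRing.le_maximalIdeal (Ideal.Quotient.nontrivial_iff.1 inferInstance)
  have hJm : J ≤ maximalIdeal A := IsLocalRing.le_maximalIdeal (Ideal.Quotient.nontrivial_iff.1 inferInstance)
  obtain ⟨x, hxm, hx, hxgen⟩ := exists_unif J
  obtain ⟨z, hzm, hz, hzgen⟩ := exists_unif I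
  have hle : I ⊔ J ≤ maximalIdeal A := sup_le hIm hJm
  by_contra hne
  have hlt : ¬ maximalIdeal A ≤ I ⊔ J := fun h => hne (le_antisymm hle h)
  have hxnot : x ∉ I ⊔ J := by
    intro h
    apply hlt
    intro a ha
    obtain ⟨b, hb⟩ := hxgen a ha
    have := (I ⊔ J).add_mem ((le_sup_right : J ≤ I ⊔ J) hb) ((I ⊔ J).mul_mem_left b h)
    rwa [sub_add_cancel] at this
  have hznot : z ∉ I ⊔ J := by
    intro h
    apply hlt
    intro a ha
    obtain ⟨b, hb⟩ := hzgen a ha
    have := (I ⊔ J).add_mem ((le_sup_left : I ≤ I ⊔ J) hb) ((I ⊔ J).mul_mem_left b h)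
    rwa [sub_add_cancel] at this
  -- `I` is not contained in `J`
  have hInJ : ¬ I ≤ J := by
    intro h
    have h0 : I = ⊥ := by rw [← hIJ]; exact (inf_eq_left.2 h).symm
    apply hA.not_principal 1 le_rfl
    rw [pow_one]
    refine ⟨z, le_antisymm (fun a ha => ?_) ?_⟩
    · obtain ⟨b, hb⟩ := hzgen a ha
      rw [h0, Ideal.mem_bot, sub_eq_zero] at hb
      exact Ideal.mem_span_singleton'.2 ⟨b, hb.symm⟩
    · rw [Ideal.submodule_span_eq, Ideal.span_le, Set.singleton_subset_iff]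
      exact hzm
  have hmap : I.map (Ideal.Quotient.mk J) ≠ ⊥ := by
    intro h
    apply hInJ
    intro i hi
    have := Ideal.mem_map_of_mem (Ideal.Quotient.mk J) hi
    rw [h, Ideal.mem_bot, Ideal.Quotient.eq_zero_iff_mem] at this
    exact this
  obtain ⟨n, hn⟩ := IsDiscreteValuationRing.ideal_eq_span_pow_irreducible hmap hx
  obtain ⟨y, hyI, hy⟩ : ∃ y ∈ I, Ideal.Quotient.mk J y = Ideal.Quotient.mk J x ^ n := by
    have h1 : Ideal.Quotient.mk J x ^ n ∈ I.map (Ideal.Quotient.mk J) := by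
      rw [hn]; exact Ideal.mem_span_singleton_self _
    exact (Ideal.mem_map_iff_of_surjective _ Ideal.Quotient.mk_surjective).1 h1
  have hyJ : y - x ^ n ∈ J := by
    rw [← map_pow] at hy
    exact Ideal.Quotient.eq.1 hy
  have hrel : y * (y - x ^ n) = 0 := by
    have : y * (y - x ^ n) ∈ I ⊓ J := ⟨I.mul_mem_right _ hyI, J.mul_mem_left _ hyJ⟩
    rwa [hIJ, Ideal.mem_bot] at this
  have hIy : ∀ i ∈ I, ∃ c : A, i = c * y := by
    intro i hi
    have h1 := Ideal.mem_map_of_mem (Ideal.Quotient.mk J) hi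
    rw [hn, Ideal.mem_span_singleton'] at h1
    obtain ⟨c, hc⟩ := h1
    obtain ⟨c, rfl⟩ := Ideal.Quotient.mk_surjective c
    rw [← hy, ← map_mul] at hc
    have h2 : i - c * y ∈ I ⊓ J := ⟨I.sub_mem hi (I.mul_mem_left _ hyI), Ideal.Quotient.eq.1 hc.symm⟩
    rw [hIJ, Ideal.mem_bot, sub_eq_zero] at h2
    exact ⟨c, h2⟩
  -- `x` is a uniformizer of `A ⧸ I`
  have hgen : maximalIdeal A = Ideal.span {x, y} := by
    apply le_antisymm
    · obtain ⟨b, hb⟩ := hxgen z hzm
      obtain ⟨c, hc⟩ := hzgen x hxm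
      have h1 : z * (1 - b * c) ∈ I ⊔ J := by
        have : z * (1 - b * c) = b * (x - c * z) + (z - b * x) := by ring
        rw [this]
        exact (I ⊔ J).add_mem ((le_sup_left : I ≤ I ⊔ J) (I.mul_mem_left _ hc)) ((le_sup_right : J ≤ I ⊔ J) hb)
      have h2 : ¬ IsUnit (1 - b * c) := by
        intro hu
        apply hznot
        obtain ⟨d, hd⟩ := hu.exists_left_inv
        have : z = d * (z * (1 - b * c)) := by linear_combination (-z) * hd
        rw [this]
        exact (I ⊔ J).mul_mem_left _ h1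
      have h3 : IsUnit (b * c) := (IsLocalRing.isUnit_or_isUnit_one_sub_self (b * c)).resolve_right h2
      have h4 : IsUnit c := (IsUnit.mul_iff.1 h3).2
      obtain ⟨d, hd⟩ := h4.exists_left_inv
      obtain ⟨e, he⟩ := hIy _ hc
      intro a ha
      obtain ⟨f, hf⟩ := hzgen a ha
      obtain ⟨g, hg⟩ := hIy _ hf
      rw [Ideal.mem_span_pair]
      refine ⟨f * d, g - f * d * e, ?_⟩
      linear_combination (-1 : A) * hg + f * d * he + f * z * hd
    · rw [Ideal.span_le]
      rintro w (rfl | rfl)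
      exacts [hxm, hIm hyI]
  rcases n with _ | n
  · rw [pow_zero] at hyJ
    have h1 : (1 : A) ∈ maximalIdeal A := by
      have := (maximalIdeal A).sub_mem (hIm hyI) (hJm hyJ)
      rwa [sub_sub_cancel] at this
    exact (Ideal.ne_top_iff_one _).1 (maximalIdeal.isMaximal A).ne_top h1
  · have h1 : (0 : A) * x ^ 2 + (-x ^ n) * x * y + 1 * y ^ 2 = 0 := by
      linear_combination hrel
    have h2 := isUnit_disc_of_relation hA hgen (Or.inr (Or.inr isUnit_one)) h1
    rcases n with _ | n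
    · apply hxnot
      have : x = y - (y - x ^ (0 + 1)) := by ring
      rw [this]
      exact (I ⊔ J).sub_mem ((le_sup_left : I ≤ I ⊔ J) hyI) ((le_sup_right : J ≤ I ⊔ J) hyJ)
    · have h3 : 4 * (0 : A) * 1 - (-x ^ (n + 1)) ^ 2 ∈ maximalIdeal A := by
        have : 4 * (0 : A) * 1 - (-x ^ (n + 1)) ^ 2 = (-(x ^ (2 * n + 1))) * x := by ring
        rw [this]
        exact Ideal.mul_mem_left _ _ hxm
      exact h3 h2

end K897.NodeBranch
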