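import Mathlib.Topology.NoetherianSpace
import Mathlib.Topology.Sober
import Mathlib.Topology.KrullDimension

/-!
# Unions of irreducible components of a Noetherian space
-/

set_option autoImplicit false

open TopologicalSpace

namespace K897.UnionTop

variable {T : Type*} [TopologicalSpace T]

theorem isIrreducible_of_image {S : Type*} [TopologicalSpace S] {f : S → T} (hf : Topology.IsInducing f) {s : Set S}
    (h : IsIrreducible (f '' s)) : IsIrreducible s := by
  refine ⟨Set.image_nonempty.1 h.1, fun u v hu hv ⟨a, ha, hau⟩ ⟨b, hb, hbv⟩ => ?_⟩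
  obtain ⟨u', hu', rfl⟩ := hf.isOpen_iff.1 hu
  obtain ⟨v', hv', rfl⟩ := hf.isOpen_iff.1 hv
  obtain ⟨c, ⟨c, hc, rfl⟩, h1, h2⟩ := h.2 u' v' hu' hv' ⟨f a, ⟨a, ha, rfl⟩, hau⟩ ⟨f b, ⟨b, hb, rfl⟩, hbv⟩
  exact ⟨c, hc, h1, h2⟩

/-- a union of irreducible components -/
def IsUnion (Y : Set T) : Prop := ∀ x ∈ Y, ∃ C ∈ irreducibleComponents T, C ⊆ Y ∧ x ∈ C

/-- a closed subset which does not contain the component `C` does not contain a nonempty open part of it -/
theorem subset_closure_compl {C Y : Set T} (hC : IsIrreducible C) (hCY : ¬ C ⊆ Y) (hY : IsClosed Y) :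
    C ⊆ closure Yᶜ := by
  intro x hx
  rw [mem_closure_iff]
  intro o ho hxo
  obtain ⟨y, hy, hyY⟩ := Set.not_subset.1 hCY
  obtain ⟨z, hz, hz2, hz3⟩ := hC.2 o Yᶜ ho hY.isOpen_compl ⟨x, hx, hxo⟩ ⟨y, hy, hyY⟩
  exact ⟨z, hz2, hz3⟩

theorem IsUnion.eq_sUnion {Y : Set T} (hY : IsUnion Y) : Y = ⋃₀ {C | C ∈ irreducibleComponents T ∧ C ⊆ Y} := by
  ext x
  constructor
  · intro hx
    obtain ⟨C, hC, hCY, hxC⟩ := hY x hx
    exact ⟨C, ⟨hC, hCY⟩, hxC⟩
  · rintro ⟨C, ⟨-, hCY⟩, hxC⟩
    exact hCY hxC

theorem isUnion_sUnion {I : Set (Set T)} (hI : I ⊆ irreducibleComponents T) : IsUnion (⋃₀ I) := by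
  rintro x ⟨C, hC, hx⟩
  exact ⟨C, hI hC, Set.subset_sUnion_of_mem hC, hx⟩

theorem isUnion_component {C : Set T} (hC : C ∈ irreducibleComponents T) : IsUnion C :=
  fun _ hx => ⟨C, hC, subset_rfl, hx⟩

theorem union_closure_compl (Y : Set T) : Y ∪ closure Yᶜ = Set.univ := by
  rw [Set.eq_univ_iff_forall]
  intro x
  by_cases h : x ∈ Y
  · exact Or.inl h
  · exact Or.inr (subset_closure h)

variable [NoetherianSpace T]

theorem isClosed_sUnion {I : Set (Set T)} (hI : I ⊆ irreducibleComponents T) : IsClosed (⋃₀ I) := by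
  rw [Set.sUnion_eq_biUnion]
  exact (NoetherianSpace.finite_irreducibleComponents.subset hI).isClosed_biUnion
    fun C hC => isClosed_of_mem_irreducibleComponents C (hI hC)

theorem IsUnion.isClosed {Y : Set T} (hY : IsUnion Y) : IsClosed Y := by
  rw [hY.eq_sUnion]
  exact isClosed_sUnion fun C hC => hC.1

/-- The closure of the complement of a closed set is the union of the components not contained in it. -/
theorem closure_compl {Y : Set T} (hY : IsClosed Y) :
    closure Yᶜ = ⋃₀ {C | C ∈ irreducibleComponents T ∧ ¬ C ⊆ Y} := by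
  apply Set.Subset.antisymm
  · refine closure_minimal ?_ (isClosed_sUnion fun C hC => hC.1)
    intro x hx
    have h1 : x ∈ ⋃₀ irreducibleComponents T := by rw [sUnion_irreducibleComponents]; trivial
    obtain ⟨C, hC, hxC⟩ := h1
    exact ⟨C, ⟨hC, fun h => hx (h hxC)⟩, hxC⟩
  · rintro x ⟨C, ⟨hC, hCY⟩, hxC⟩
    exact subset_closure_compl hC.1 hCY hY hxC

theorem isUnion_closure_compl {Y : Set T} (hY : IsClosed Y) : IsUnion (closure Yᶜ) := by
  rw [closure_compl hY]
  exact isUnion_sUnion fun C hC => hC.1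

/-- components contained in a union of components -/
theorem mem_of_subset_sUnion {I : Set (Set T)} (hI : I ⊆ irreducibleComponents T) {C : Set T}
    (hC : C ∈ irreducibleComponents T) (h : C ⊆ ⋃₀ I) : C ∈ I := by
  have hfin : I.Finite := NoetherianSpace.finite_irreducibleComponents.subset hI
  obtain ⟨D, hD, hCD⟩ := isIrreducible_iff_sUnion_isClosed.1 hC.1 hfin.toFinset
    (fun D hD => isClosed_of_mem_irreducibleComponents D (hI (hfin.mem_toFinset.1 hD)))
    (by rwa [hfin.coe_toFinset])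
  have hD' := hfin.mem_toFinset.1 hD
  have h1 : D = C := Set.Subset.antisymm (hC.2 (hI hD').1 hCD) hCD
  rwa [h1] at hD'

/-- A component contained in a closed set is not contained in the closure of the complement. -/
theorem not_subset_closure_compl {Y C : Set T} (hY : IsClosed Y) (hC : C ∈ irreducibleComponents T) (hCY : C ⊆ Y) :
    ¬ C ⊆ closure Yᶜ := by
  rw [closure_compl hY]
  intro h
  exact (mem_of_subset_sUnion (fun C hC => hC.1) hC h).2 hCY

/-- the double complement -/
theorem closure_compl_closure_compl {Y : Set T} (hY : IsUnion Y) : closure (closure Yᶜ)ᶜ = Y := by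
  rw [closure_compl isClosed_closure]
  conv_rhs => rw [hY.eq_sUnion]
  congr 1
  ext C
  constructor
  · rintro ⟨hC, h⟩
    refine ⟨hC, ?_⟩
    by_contra h'
    exact h (subset_closure_compl hC.1 h' hY.isClosed)
  · rintro ⟨hC, h⟩
    exact ⟨hC, not_subset_closure_compl hY.isClosed hC h⟩

theorem subset_closure_interior {Y : Set T} (hY : IsUnion Y) : Y ⊆ closure (interior Y) := by
  have h := closure_compl_closure_compl hY
  conv_lhs => rw [← h]
  apply closure_mono
  rw [← interior_eq_compl_closure_compl]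

end K897.UnionTop
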