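import Groth.Agent.CurvesB.NodeSub
import Groth.Agent.CurvesB.NodeCriterion
import Groth.Agent.CurvesC.DualIdeals
import Groth.Agent.CurvSt.K897.NodeBranch
import Groth.Agent.CurvSt.K897.UnionTop

/-!
# Complementary subcurves of a nodal curve

`X` an at-worst-nodal curve over an algebraically closed field, `Y` a union of irreducible components and `Z` the
closure of its complement.  At a point of `Y ∩ Z` the local rings of `Y` and `Z` are discrete valuation rings and
the maximal ideal of `X` is the sum of the ideals of `Y` and `Z`.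
-/

set_option autoImplicit false
universe u
open CategoryTheory CategoryTheory.Limits AlgebraicGeometry TopologicalSpace IsLocalRing

namespace K897.NodeCross

open Groth.Agent Groth.Agent.Divis.CartierBasic Groth.Agent.CurvesB UnionTop

variable {X : Scheme.{u}}

/-- components of a closed subscheme supported on a union of components -/
theorem image_mem [IsNoetherian X] (J : X.IdealSheafData) (hJ : IsUnion (J.support : Set X))
    (C : Set J.subscheme) (hC : C ∈ irreducibleComponents (J.subscheme : Type u)) :
    J.subschemeι '' C ∈ irreducibleComponents (X : Type u) := by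
  have hemb := J.subschemeι.isClosedEmbedding
  have hirr : IsIrreducible (J.subschemeι '' C) := hC.1.image _ J.subschemeι.continuous.continuousOn
  have hsub : J.subschemeι '' C ⊆ ⋃₀ {D | D ∈ irreducibleComponents (X : Type u) ∧ D ⊆ (J.support : Set X)} := by
    rw [← hJ.eq_sUnion, ← Scheme.IdealSheafData.range_subschemeι]
    exact Set.image_subset_range _ _
  have hfin : {D | D ∈ irreducibleComponents (X : Type u) ∧ D ⊆ (J.support : Set X)}.Finite :=
    NoetherianSpace.finite_irreducibleComponents.subset fun D hD => hD.1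
  obtain ⟨D, hD, hCD⟩ := isIrreducible_iff_sUnion_isClosed.1 hirr hfin.toFinset
    (fun D hD => isClosed_of_mem_irreducibleComponents D (hfin.mem_toFinset.1 hD).1)
    (by rwa [hfin.coe_toFinset])
  obtain ⟨hD1, hD2⟩ := hfin.mem_toFinset.1 hD
  have hDr : D ⊆ Set.range J.subschemeι := by rwa [Scheme.IdealSheafData.range_subschemeι]
  have hpre : J.subschemeι '' (J.subschemeι ⁻¹' D) = D := by
    rw [Set.image_preimage_eq_inter_range, Set.inter_eq_left.2 hDr]
  have hDirr : IsIrreducible (J.subschemeι ⁻¹' D) := by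
    have h1 := hD1.1
    rw [← hpre] at h1
    exact isIrreducible_of_image hemb.isEmbedding.isInducing h1
  have h2 : J.subschemeι ⁻¹' D ⊆ C := hC.2 hDirr (Set.image_subset_iff.1 hCD)
  have h3 : J.subschemeι '' C = D := by
    apply Set.Subset.antisymm hCD
    rw [← hpre]
    exact Set.image_mono h2
  rw [h3]
  exact hD1

theorem dim_component [IsNoetherian X] (hpure : ∀ C ∈ irreducibleComponents (X : Type u), topologicalKrullDim C = 1)
    (J : X.IdealSheafData) (hJ : IsUnion (J.support : Set X)) :
    ∀ C ∈ irreducibleComponents (J.subscheme : Type u), topologicalKrullDim C = 1 := by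
  intro C hC
  have hemb := J.subschemeι.isClosedEmbedding
  have h1 : Topology.IsEmbedding (C.domRestrict J.subschemeι) := hemb.isEmbedding.comp .subtypeVal
  have h2 : Set.range (C.domRestrict J.subschemeι) = J.subschemeι '' C := Set.range_domRestrict _ _
  have h3 := hpure _ (image_mem J hJ C hC)
  rw [← h2, ← IsHomeomorph.topologicalKrullDim_eq _ h1.toHomeomorph.isHomeomorph] at h3
  exact h3

/-- The stalk ideal is nonzero at a specialization of a point outside of the closed subscheme. -/
theorem stalkIdeal_ne_bot (J : X.IdealSheafData) {ξ x : X} (h : ξ ⤳ x) (hξ : ξ ∉ J.support) :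
    stalkIdeal J x ≠ ⊥ := by
  intro h0
  obtain ⟨V, hxV⟩ := exists_affine x
  have hξV : ξ ∈ V.1 := h.mem_open V.1.isOpen hxV
  obtain ⟨b, hb, hξb⟩ := CurvesC.DualIdeals.exists_mem_of_notMem_support hξV hξ
  have h1 : X.presheaf.germ V.1 x hxV b = 0 := by
    have h2 : X.presheaf.germ V.1 x hxV b ∈ stalkIdeal J x := by
      rw [stalkIdeal_eq J V hxV]
      exact Ideal.mem_map_of_mem _ hb
    rw [h0] at h2
    exact h2
  have h3 : X.presheaf.germ V.1 ξ hξV b = 0 := by
    have h4 := ConcreteCategory.congr_hom (X.presheaf.germ_stalkSpecializes hxV h) b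
    rw [← h4]
    change X.presheaf.stalkSpecializes h (X.presheaf.germ V.1 x hxV b) = 0
    rw [h1, map_zero]
  rw [Scheme.mem_basicOpen _ _ _ hξV, h3] at hξb
  exact not_isUnit_zero hξb

/-- the generic point of a component through `x` -/
theorem exists_generic {C : Set X} (hC : C ∈ irreducibleComponents (X : Type u)) {x : X} (hx : x ∈ C) :
    ∃ ξ : X, closure {ξ} = C ∧ ξ ⤳ x := by
  obtain ⟨ξ, hξ⟩ := QuasiSober.sober hC.1 (isClosed_of_mem_irreducibleComponents C hC)
  refine ⟨ξ, hξ, ?_⟩
  rw [specializes_iff_mem_closure, hξ.def]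
  exact hx

theorem one_le_of_not_le {d : WithBot ℕ∞} (h : ¬ d ≤ 0) : 1 ≤ d := by
  cases d with
  | bot => exact absurd bot_le h
  | coe n =>
    have h1 : ¬ n ≤ 0 := fun h' => h (by exact_mod_cast h')
    have h2 : 1 ≤ n := ENat.one_le_iff_ne_zero.2 (fun h0 => h1 h0.le)
    exact_mod_cast h2

theorem preimage_singleton {Y : Scheme.{u}} (i : Y ⟶ X) [IsClosedImmersion i] {y : Y} {x : X} (h : i y = x) :
    i ⁻¹' {x} = {y} := by
  ext z
  constructor
  · intro hz
    exact i.isClosedEmbedding.injective (Eq.trans hz h.symm)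
  · rintro rfl
    exact h

section Main

variable {k : Type u} [Field k] [IsAlgClosed k] [X.Over (Spec (CommRingCat.of k))]
  [LocallyOfFiniteType (X ↘ Spec (CommRingCat.of k))] [IsNoetherian X] [IsReduced X]
  (hpure : ∀ C ∈ irreducibleComponents (X : Type u), topologicalKrullDim C = 1)
  (hX : Curv2.AtWorstNodal k X)

include hpure in
theorem dvr_of_node {J : X.IdealSheafData} [IsReduced J.subscheme] (hJ : IsUnion (J.support : Set X)) (y : J.subscheme)
    (hx : IsClosed ({J.subschemeι y} : Set X)) (h0 : stalkIdeal J (J.subschemeι y) ≠ ⊥)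
    (hn : Curv2.IsNode k X (J.subschemeι y)) :
    ∃ (_ : IsDomain (J.subscheme.presheaf.stalk y)), IsDiscreteValuationRing (J.subscheme.presheaf.stalk y) := by
  let _ : J.subscheme.Over (Spec (CommRingCat.of k)) := ⟨J.subschemeι ≫ (X ↘ Spec (CommRingCat.of k))⟩
  have hft : LocallyOfFiniteType (J.subscheme ↘ Spec (CommRingCat.of k)) :=
    inferInstanceAs (LocallyOfFiniteType (J.subschemeι ≫ (X ↘ Spec (CommRingCat.of k))))
  have hfp : LocallyOfFinitePresentation (J.subscheme ↘ Spec (CommRingCat.of k)) :=
    NodeSch2.locallyOfFinitePresentation_of_field _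
  have hdim := dim_component hpure J hJ
  have hy : IsClosed ({y} : Set J.subscheme) := by
    have h1 := hx.preimage J.subschemeι.continuous
    rwa [preimage_singleton J.subschemeι rfl] at h1
  have hT := NodeSub.not_isField_stalk hdim y hy
  have h1 := NodeSub.eq_bot_or_mem_smoothLocus k J.subschemeι rfl y inferInstance hT hn
  rw [Scheme.IdealSheafData.ker_subschemeι] at h1
  have h2 := h1.resolve_left h0
  have h3 : IsRegularLocalRing (J.subscheme.presheaf.stalk y) :=
    (VarietyA.SmoothReg.mem_smoothLocus_iff_of_perfectField _ y).1 h2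
  have hd : IsDomain (J.subscheme.presheaf.stalk y) := CalgA.RegBasic.isDomain _
  refine ⟨hd, VarietyA.SmoothReg.isDiscreteValuationRing_of_isRegularLocalRing _ ?_⟩
  have h4 : ringKrullDim (J.subscheme.presheaf.stalk y) ≤ 1 :=
    (CurvesB.DimPts.ringKrullDim_stalk_le y).trans (NodeSch2.topologicalKrullDim_le_one_of_components hdim)
  have h5 : ¬ ringKrullDim (J.subscheme.presheaf.stalk y) ≤ 0 := by
    intro h5
    apply hT
    have : Ring.KrullDimLE 0 (J.subscheme.presheaf.stalk y) := (Ring.krullDimLE_iff).2 h5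
    exact Ring.KrullDimLE.isField_of_isDomain
  exact le_antisymm h4 (one_le_of_not_le h5)

theorem nonempty_equiv' {J : X.IdealSheafData} {x : X} (y : J.subscheme) (hy : J.subschemeι y = x) :
    Nonempty ((X.presheaf.stalk x ⧸ stalkIdeal J x) ≃+* J.subscheme.presheaf.stalk y) := by
  have h := NodeSub.nonempty_equiv J.subschemeι y x hy
  rwa [Scheme.IdealSheafData.ker_subschemeι] at h

theorem isReduced_quot {A B : Type*} [CommRing A] [CommRing B] [_root_.IsReduced B] (e : A ≃+* B) :
    _root_.IsReduced A := isReduced_of_injective e.toRingHom e.injective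

include hpure in
theorem bot_of_smooth {J : X.IdealSheafData} [IsReduced J.subscheme] (hJ : IsUnion (J.support : Set X)) {x : X}
    (hx : IsClosed ({x} : Set X)) (y : J.subscheme) (hy : J.subschemeι y = x)
    (h : ∃ U : X.Opens, x ∈ U ∧ Smooth (U.ι ≫ (X ↘ Spec (CommRingCat.of k)))) : stalkIdeal J x = ⊥ := by
  have h1 := NodeSch2.isRegularLocalRing_of_exists k x h
  have h2 := NodeSch2.krullDimLE_one_stalk
    (NodeSch2.topologicalKrullDim_le_one_of_components hpure) x
  obtain ⟨e⟩ := nonempty_equiv' y hy
  have hT : ¬ IsField (J.subscheme.presheaf.stalk y) := by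
    refine NodeSub.not_isField_stalk (dim_component hpure J hJ) y ?_
    have h3 := hx.preimage J.subschemeι.continuous
    rwa [preimage_singleton J.subschemeι hy] at h3
  have i1 : _root_.IsReduced (J.subscheme.presheaf.stalk y) := inferInstance
  have i2 : _root_.IsReduced (X.presheaf.stalk x ⧸ stalkIdeal J x) := isReduced_quot e
  have i3 : Nontrivial (X.presheaf.stalk x ⧸ stalkIdeal J x) := e.toEquiv.nontrivial
  have i4 : ¬ IsField (X.presheaf.stalk x ⧸ stalkIdeal J x) :=
    fun hf => hT (MulEquiv.isField hf e.symm.toMulEquiv)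
  exact NodeSub.eq_bot_of_isRegularLocalRing (stalkIdeal J x) i2 i3 i4

theorem dvr_quot {A B : Type*} [CommRing A] [CommRing B] (e : A ≃+* B)
    (h : ∃ (_ : IsDomain B), IsDiscreteValuationRing B) : ∃ (_ : IsDomain A), IsDiscreteValuationRing A := by
  obtain ⟨h1, h2⟩ := h
  have i1 : IsDomain A := e.toMulEquiv.isDomain _
  exact ⟨i1, _root_.IsDiscreteValuationRing.RingEquivClass.isDiscreteValuationRing e.symm⟩

/-- functions in the product of the ideals of two subschemes covering a reduced scheme vanish -/
theorem stalk_inf_eq_bot {X : Scheme.{u}} [IsReduced X] (J K : X.IdealSheafData)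
    (hJK : (J.support : Set X) ∪ K.support = Set.univ) (x : X) : stalkIdeal J x ⊓ stalkIdeal K x = ⊥ := by
  have hprod : stalkIdeal J x * stalkIdeal K x = ⊥ := by
    obtain ⟨V, hxV⟩ := exists_affine x
    rw [← stalkIdeal_mul, stalkIdeal_eq _ V hxV, eq_bot_iff, Ideal.map_le_iff_le_comap]
    intro b hb
    have hb0 : b = 0 := by
      have h1 : b ∈ J.ideal V * K.ideal V := hb
      refine Submodule.mul_induction_on h1 ?_ ?_
      · intro c hc d hd
        apply CurvesC.DualIdeals.eq_zero_of_basicOpen
        intro w hw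
        rw [Scheme.basicOpen_mul] at hw
        have h2 : w ∈ (J.support : Set X) ∪ K.support := by rw [hJK]; trivial
        rcases h2 with h2 | h2
        · have h3 := (Scheme.IdealSheafData.mem_support_iff_of_mem (U := V) (X.basicOpen_le c hw.1)).mp h2
          rw [Scheme.mem_zeroLocus_iff] at h3
          exact h3 c hc hw.1
        · have h3 := (Scheme.IdealSheafData.mem_support_iff_of_mem (U := V) (X.basicOpen_le d hw.2)).mp h2
          rw [Scheme.mem_zeroLocus_iff] at h3
          exact h3 d hd hw.2
      · rintro c d rfl rfl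
        exact add_zero 0
    rw [hb0]
    exact Ideal.zero_mem _
  rw [eq_bot_iff]
  intro a ha
  have h1 : a * a ∈ stalkIdeal J x * stalkIdeal K x := Ideal.mul_mem_mul ha.1 ha.2
  rw [hprod, Ideal.mem_bot] at h1
  have h2 : IsNilpotent a := ⟨2, by rw [pow_two]; exact h1⟩
  exact Ideal.mem_bot.2 h2.eq_zero

include hpure hX in
/-- **Complementary subcurves** at a common point. -/
theorem cross (J K : X.IdealSheafData) [IsReduced J.subscheme] [IsReduced K.subscheme]
    (hJ : IsUnion (J.support : Set X)) (hK : (K.support : Set X) = closure (J.support : Set X)ᶜ)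
    (x : X) (hxJ : x ∈ J.support) (hxK : x ∈ K.support) (hx : IsClosed ({x} : Set X)) :
    (∀ y : J.subscheme, J.subschemeι y = x → ∃ (_ : IsDomain (J.subscheme.presheaf.stalk y)),
        IsDiscreteValuationRing (J.subscheme.presheaf.stalk y)) ∧
    (∀ y : K.subscheme, K.subschemeι y = x → ∃ (_ : IsDomain (K.subscheme.presheaf.stalk y)),
        IsDiscreteValuationRing (K.subscheme.presheaf.stalk y)) ∧
    stalkIdeal J x ⊔ stalkIdeal K x = maximalIdeal (X.presheaf.stalk x) := by
  have hKu : IsUnion (K.support : Set X) := by rw [hK]; exact isUnion_closure_compl J.support.isClosed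
  -- the stalk ideals are nonzero
  have hJ0 : stalkIdeal J x ≠ ⊥ := by
    have hxK' : x ∈ (K.support : Set X) := hxK
    obtain ⟨C, hC, hCZ, hxC⟩ := hKu x hxK'
    obtain ⟨ξ, hξ, hξx⟩ := exists_generic hC hxC
    refine stalkIdeal_ne_bot J hξx fun h => ?_
    have h2 : C ⊆ (J.support : Set X) := by
      rw [← hξ]
      exact closure_minimal (Set.singleton_subset_iff.2 h) J.support.isClosed
    rw [hK] at hCZ
    exact not_subset_closure_compl J.support.isClosed hC h2 hCZ
  have hK0 : stalkIdeal K x ≠ ⊥ := by
    have hxJ' : x ∈ (J.support : Set X) := hxJ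
    obtain ⟨C, hC, hCY, hxC⟩ := hJ x hxJ'
    obtain ⟨ξ, hξ, hξx⟩ := exists_generic hC hxC
    refine stalkIdeal_ne_bot K hξx fun h => ?_
    have h2 : C ⊆ (K.support : Set X) := by
      rw [← hξ]
      exact closure_minimal (Set.singleton_subset_iff.2 h) K.support.isClosed
    rw [hK] at h2
    exact not_subset_closure_compl J.support.isClosed hC hCY h2
  obtain ⟨y, hy⟩ : x ∈ Set.range J.subschemeι := by rw [Scheme.IdealSheafData.range_subschemeι]; exact hxJ
  obtain ⟨z, hz⟩ : x ∈ Set.range K.subschemeι := by rw [Scheme.IdealSheafData.range_subschemeι]; exact hxK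
  -- `x` is a node
  have hn : Curv2.IsNode k X x := by
    rcases hX x hx with h | h
    · exact (hJ0 (bot_of_smooth hpure hJ hx y hy h)).elim
    · exact h
  have hdJ : ∀ y' : J.subscheme, J.subschemeι y' = x →
      ∃ (_ : IsDomain (J.subscheme.presheaf.stalk y')), IsDiscreteValuationRing (J.subscheme.presheaf.stalk y') := by
    rintro y' rfl
    exact dvr_of_node hpure hJ y' hx hJ0 hn
  have hdK : ∀ z' : K.subscheme, K.subschemeι z' = x →
      ∃ (_ : IsDomain (K.subscheme.presheaf.stalk z')), IsDiscreteValuationRing (K.subscheme.presheaf.stalk z') := by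
    rintro z' rfl
    exact dvr_of_node hpure hKu z' hx hK0 hn
  refine ⟨hdJ, hdK, ?_⟩
  have hNL := ((CurvesB.Node.isNode_iff k X x).1 hn).2
  obtain ⟨e⟩ := nonempty_equiv' y hy
  obtain ⟨e'⟩ := nonempty_equiv' z hz
  obtain ⟨i1, i2⟩ := dvr_quot e (hdJ y hy)
  obtain ⟨i3, i4⟩ := dvr_quot e' (hdK z hz)
  refine NodeBranch.sup_eq hNL _ _ (stalk_inf_eq_bot J K ?_ x)
  rw [hK]
  exact union_closure_compl _

end Main

end K897.NodeCross
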