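import Groth.Agent.CurvesC.CanonGG
import Groth.Agent.CurvesB.VanAsm464

/-!
# Powers of the dualizing module without rational tails: global generation and vanishing
-/

set_option autoImplicit false
universe u
open CategoryTheory CategoryTheory.Limits AlgebraicGeometry TopologicalSpace

namespace K897.CanonVan

open Groth.Agent
open Groth.Agent.CurvesC Groth.Agent.CurvesC.CurveNum Groth.Agent.CurvesC.TailNum Groth.Agent.CurvesC.TailGeom
  Groth.Agent.CurvesC.CanonGG

attribute [local instance] subOver

variable (k : Type u) [Field k] (X : Scheme.{u}) [X.Over (Spec (CommRingCat.of k))]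

theorem degHyp_pow [IsProper (X ↘ (Spec (CommRingCat.of k)))] [ConnectedSpace X] [IsReduced X]
    (hdim : topologicalKrullDim X = 1) (h0 : Module.finrank k (Coh.HH X (Coh.structureModule X) 0) = 1)
    (w : X.Modules) (hw : PicF.IsInvertible w)
    (hform : ∀ J : X.IdealSheafData, IsReduced J.subscheme →
      (∀ Z ∈ irreducibleComponents (J.subscheme : Type u), topologicalKrullDim Z = 1) → TailMain.DegFormula k X w J)
    (hnt : ∀ (C : Set X) (hC : C ∈ irreducibleComponents (X : Type u)), ¬ Curv2.IsRationalTail X C hC)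
    (hg : 2 ≤ Curv2.genus k X) (m : ℕ) (hm : 2 ≤ m) :
    CurvesB.VanAsm464.DegHyp k (CohB1.tensorPow w m) := by
  intro J hJr hJc hJd
  have hgen : Curv2.genus k J.subscheme = Module.finrank k (Coh.HH X (ClSub.quotMod J) 1) :=
    finrank_quotMod k X J 1
  rw [deg_restrict_pow k X w hw J hJd.le m, hgen]
  by_cases hJ : J = ⊥
  · subst hJ
    have hLN : IsLocallyNoetherian X := LocallyOfFiniteType.isLocallyNoetherian (X ↘ (Spec (CommRingCat.of k)))
    have hP : IsProper ((⊥ : X.IdealSheafData).subscheme ↘ Spec (CommRingCat.of k)) :=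
      inferInstanceAs (IsProper ((⊥ : X.IdealSheafData).subschemeι ≫ (X ↘ (Spec (CommRingCat.of k)))))
    have hN : IsNoetherian (⊥ : X.IdealSheafData).subscheme :=
      Groth.Agent.Fga.SnapperTwist.isNoetherian_of_proper k _
    have h1 := le_deg_bot k X h0 w (hform ⊥ hJr (TailMain.pure_of_connected _ hJd))
    rw [finrank_bot X k 1]
    have h3 : (2 : ℤ) ≤ m := by exact_mod_cast hm
    have h4 : (2 : ℤ) ≤ Curv2.genus k X := by exact_mod_cast hg
    change 2 * (Curv2.genus k X : ℤ) ≤ _
    nlinarith
  · have h1 := TailMain.main k X hdim w hw hform hnt J hJd hJ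
    have h2 : (0 : ℤ) ≤ Module.finrank k (Coh.HH X (ClSub.quotMod J) 1) := Nat.cast_nonneg _
    have h3 : (2 : ℤ) ≤ m := by exact_mod_cast hm
    nlinarith

theorem H1_pow [IsProper (X ↘ (Spec (CommRingCat.of k)))] [ConnectedSpace X] [IsReduced X]
    (hdim : topologicalKrullDim X = 1) (h0 : Module.finrank k (Coh.HH X (Coh.structureModule X) 0) = 1)
    (w : X.Modules) (hw : PicF.IsInvertible w)
    (hform : ∀ J : X.IdealSheafData, IsReduced J.subscheme →
      (∀ Z ∈ irreducibleComponents (J.subscheme : Type u), topologicalKrullDim Z = 1) → TailMain.DegFormula k X w J)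
    (hnt : ∀ (C : Set X) (hC : C ∈ irreducibleComponents (X : Type u)), ¬ Curv2.IsRationalTail X C hC)
    (hg : 2 ≤ Curv2.genus k X) (m : ℕ) (hm : 2 ≤ m) :
    Subsingleton (Coh.HH X (CohB1.tensorPow w m) 1) :=
  CurvesB.VanAsm464.subsingleton_H1 k hdim _ (Groth.Agent.Fdesc.LocGen.isInvertible_tensorPow hw m)
    (degHyp_pow k X hdim h0 w hw hform hnt hg m hm)

end K897.CanonVan
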