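import Groth.Agent.Picfga.LiftFam
import Groth.Agent.AbSch.K449.FibVan
import Groth.Agent.Ega1.GlobGenPt
import Groth.Agent.VarietyB.GlobGen
import Groth.Agent.Ega1.AmpFam
import Groth.Agent.S0459
import Groth.Agent.CurvesC.DegIso
import Groth.Agent.Fga.HShift

/-!
# Vanishing and global generation over a local ring from the closed fibre
-/

set_option autoImplicit false
universe u
open CategoryTheory CategoryTheory.Limits AlgebraicGeometry TopologicalSpace

namespace K897.LiftGG

open Groth.Agent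
open Fdesc.LocGen (pullHom pullSec sec_pullHom homOf)

theorem subsingleton_of_iso {X X₀ Y : Scheme.{u}} {i : X₀ ⟶ X} {j : Y ⟶ X} (e : Y ≅ X₀) (he : e.hom ≫ i = j)
    {L : X.Modules} (n : ℕ) (h : Subsingleton (Coh.HH X₀ ((Scheme.Modules.pullback i).obj L) n)) :
    Subsingleton (Coh.HH Y ((Scheme.Modules.pullback j).obj L) n) := by
  subst he
  obtain ⟨a⟩ := S0459.result (X := Y.toTopCat) (Y := X₀.toTopCat) e.hom.base e.hom.isClosedEmbedding
    (Coh.toAb ((Scheme.Modules.pullback (e.hom ≫ i)).obj L)) n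
  refine a.toEquiv.subsingleton_congr.2 ?_
  have e1 : (Scheme.Modules.pullback i).obj L ≅
      (Coh.push e.hom).obj ((Scheme.Modules.pullback (e.hom ≫ i)).obj L) :=
    CurvesC.DegIso.unitIso e ((Scheme.Modules.pullback i).obj L) ≪≫
      (Scheme.Modules.pushforward e.hom).mapIso ((Scheme.Modules.pullbackComp e.hom i).app L)
  exact Fga.HShift.subsingleton_of_iso e1 n h

/-- over a local ring, vanishing of the higher cohomology follows from the closed fibre -/
theorem vanish {R : Type u} [CommRing R] [IsLocalRing R] {X X₀ : Scheme.{u}} (p : X ⟶ Spec (CommRingCat.of R))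
    [IsProper p] [Flat p] [LocallyOfFinitePresentation p] {i : X₀ ⟶ X}
    {q : X₀ ⟶ Spec (CommRingCat.of (IsLocalRing.ResidueField R))}
    (hc : IsPullback i q p (Spec.map (CommRingCat.ofHom (IsLocalRing.residue R))))
    {L : X.Modules} (hL : PicF.IsInvertible L)
    (hv : ∀ n : ℕ, 1 ≤ n → Subsingleton (Coh.HH X₀ ((Scheme.Modules.pullback i).obj L) n)) :
    ∀ n : ℕ, 1 ≤ n → Subsingleton (Coh.HH X L n) := by
  let _ : X.Over (Spec (CommRingCat.of R)) := ⟨p⟩
  have i1 : IsProper (X ↘ Spec (CommRingCat.of R)) := ‹IsProper p›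
  have i2 : Flat (X ↘ Spec (CommRingCat.of R)) := ‹Flat p›
  have i3 : LocallyOfFinitePresentation (X ↘ Spec (CommRingCat.of R)) := ‹LocallyOfFinitePresentation p›
  refine (K449.FibVan.affine R X L hL fun m hm Y _ j hj n hn => ?_).1
  obtain rfl := IsLocalRing.eq_maximalIdeal hm
  let e : Y ≅ X₀ := hj.isoIsPullback _ _ hc
  have he : e.hom ≫ i = j := hj.isoIsPullback_hom_fst _ _ hc
  exact subsingleton_of_iso e he n (hv n hn)

/-- over a local ring, global generation follows from the closed fibre if the higher cohomology vanishes -/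
theorem gg {R : Type u} [CommRing R] [IsLocalRing R] {X X₀ : Scheme.{u}} (p : X ⟶ Spec (CommRingCat.of R))
    [IsProper p] [Flat p] [LocallyOfFinitePresentation p] {i : X₀ ⟶ X}
    {q : X₀ ⟶ Spec (CommRingCat.of (IsLocalRing.ResidueField R))}
    (hc : IsPullback i q p (Spec.map (CommRingCat.ofHom (IsLocalRing.residue R))))
    {L : X.Modules} (hL : PicF.IsInvertible L)
    (hv : ∀ n : ℕ, 1 ≤ n → Subsingleton (Coh.HH X₀ ((Scheme.Modules.pullback i).obj L) n))
    (hgg : Curv2.IsGloballyGenerated ((Scheme.Modules.pullback i).obj L)) : Curv2.IsGloballyGenerated L := by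
  have hq : Coh.IsQCoh L := Ega2.QCohLocal.isQCoh_of_isInvertible hL
  have hL₀ := Fdesc.LocGen.isInvertible_pullback i hL
  have hlift : ∀ m : Γ((Scheme.Modules.pullback i).obj L, ⊤), ∃ m' : Γ(L, ⊤),
      VarietyB.PullSec.sec i L (le_top : (⊤ : X₀.Opens) ≤ i ⁻¹ᵁ ⊤) m' = m :=
    (Picfga.LiftFam.lift_global (IsLocalRing.residue R) IsLocalRing.residue_surjective q p i hc L hq
      (Picfga.LiftFam.isFlatOver_of_isInvertible p hL) fun n => vanish p hc hL hv (n + 1) (by omega)).1
  have hmor : ∀ s : Coh.structureModule X₀ ⟶ (Scheme.Modules.pullback i).obj L,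
      ∃ t : Coh.structureModule X ⟶ L, pullHom i t = s := by
    intro s
    obtain ⟨m, hm⟩ := hlift (Fdesc.LocGen.sec s ⊤)
    refine ⟨homOf m, ?_⟩
    apply Fdesc.LocGen.hom_ext_sec
    have h2 := sec_pullHom i (homOf m) ⊤
    rw [Fdesc.LocGen.sec_homOf, Fdesc.LocGen.res_refl] at h2
    have h3 : VarietyB.PullSec.sec i L (le_top : (⊤ : X₀.Opens) ≤ i ⁻¹ᵁ ⊤) m = pullSec i m :=
      Picfga.LiftFam.sec_eq_pullSec i m
    rw [h3] at hm
    exact h2.trans hm
  have hcl : ∀ x : X₀, ∃ t : Coh.structureModule X ⟶ L, i x ∈ CohB1.genLocus L t := by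
    intro x
    obtain ⟨s, hs⟩ := Ega1.GlobGenPt.exists_mem_genLocus hL₀ hgg x
    obtain ⟨t, rfl⟩ := hmor s
    refine ⟨t, ?_⟩
    rw [Ega1.AmpFam.genLocus_pullHom i hL] at hs
    exact hs
  have hall : ∀ x : X, ∃ t : Coh.structureModule X ⟶ L, x ∈ CohB1.genLocus L t := by
    intro x
    -- a specialization of `x` in the closed fibre
    have h1 : p x ⤳ IsLocalRing.closedPoint R := IsLocalRing.specializes_closedPoint (p x)
    obtain ⟨y, hxy, hy⟩ := p.isClosedMap.specializingMap h1
    obtain ⟨z, hz⟩ : ∃ z : X₀, i z = y := by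
      have h2 : IsLocalRing.closedPoint R ∈ Set.range (Spec.map (CommRingCat.ofHom (IsLocalRing.residue R))) := by
        refine ⟨IsLocalRing.closedPoint (IsLocalRing.ResidueField R), ?_⟩
        exact IsLocalRing.comap_closedPoint (IsLocalRing.residue R)
      obtain ⟨w, hw⟩ := h2
      obtain ⟨z, hz, -⟩ := Scheme.Pullback.exists_preimage_pullback y w (hy.trans hw.symm)
      refine ⟨hc.isoPullback.inv z, ?_⟩
      rw [← Scheme.Hom.comp_apply, hc.isoPullback_inv_fst, hz]
    obtain ⟨t, ht⟩ := hcl z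
    refine ⟨t, ?_⟩
    rw [hz] at ht
    exact hxy.mem_open (CohB1.genLocus L t).isOpen ht
  choose t ht using hall
  exact VarietyB.GlobGen.isGloballyGenerated_of_cover t fun x => ⟨x, ht x⟩

end K897.LiftGG
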