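import Groth.Agent.CurvSt.K897.OmegaForm
import Groth.Agent.Deform.K682.RelDual
import Groth.Agent.S1589

/-!
# The relative dualizing module of a nodal family
-/

set_option autoImplicit false
universe u
open CategoryTheory CategoryTheory.Limits AlgebraicGeometry TopologicalSpace
attribute [local instance] HasDerivedCategory.standard

namespace K897.OmegaFam

open Groth.Agent ContractFibre

theorem isGorensteinMor {X S : Scheme.{u}} (p : X ⟶ S) (hp : Curv2.IsNodalFamily p) :
    Dual3.IsGorensteinMor p := by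
  obtain ⟨h1, h2, h3⟩ := hp
  intro x
  refine ⟨(Flat.iff_flat_stalkMap p).1 h1 x, ?_⟩
  obtain ⟨hdim, hn⟩ := h3 (p x)
  let _ : (p.fiber (p x)).Over (Spec (CommRingCat.of (S.residueField (p x)))) := ⟨p.fiberToSpecResidueField (p x)⟩
  have hft : LocallyOfFiniteType (p.fiber (p x) ↘ Spec (CommRingCat.of (S.residueField (p x)))) :=
    (MorphismProperty.pullback_snd p (S.fromSpecResidueField (p x)) (inferInstance : LocallyOfFiniteType p) :
      LocallyOfFiniteType (pullback.snd p (S.fromSpecResidueField (p x))))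
  exact (S1589.result (S.residueField (p x)) (p.fiber (p x)) hdim hn).1 (p.asFiber x)

/-- **The relative dualizing module of a proper nodal family.** -/
theorem exists_omega {S : Scheme.{u}} [IsNoetherian S] {X : Scheme.{u}} (p : X ⟶ S) [IsProper p]
    (hp : Curv2.IsNodalFamily p) :
    ∃ w : X.Modules, PicF.IsInvertible w ∧ ∀ (Ω : Type u) [Field Ω] (t : Spec (CommRingCat.of Ω) ⟶ S)
      (X' : Scheme.{u}) [X'.Over (Spec (CommRingCat.of Ω))] (i : X' ⟶ X),
      IsPullback i (X' ↘ Spec (CommRingCat.of Ω)) p t → topologicalKrullDim X' = 1 →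
      Module.finrank Ω (Coh.HH X' (Coh.structureModule X') 0) = 1 → Curv2.AtWorstNodal Ω X' →
      Form Ω X' ((Scheme.Modules.pullback i).obj w) := by
  have h1 : Flat p := hp.1
  have h2 : LocallyOfFinitePresentation p := hp.2.1
  have hr : DCoh.HasRpush p := Groth.Agent.Dcoh.DerSch.hasRpush p
  have hX : IsNoetherian X := LoccohB.AdStruct.isNoetherian_of_finiteType p
  obtain ⟨L, hL, hRD⟩ := K682.RelDual.exists_isRD p (isGorensteinMor p hp) 1 (fun y Z hZ => by
    rw [(hp.2.2 y).1 Z hZ]; rfl)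
  refine ⟨L, hL, fun Ω _ t X' _ i hi hdim h0 hn => ?_⟩
  have hpr : IsProper (X' ↘ Spec (CommRingCat.of Ω)) := MorphismProperty.of_isPullback hi ‹_›
  have hc1 : CompactSpace X' := QuasiCompact.compactSpace_of_compactSpace (X' ↘ Spec (CommRingCat.of Ω))
  have hqs : QuasiSeparatedSpace X' :=
    quasiSeparatedSpace_of_quasiSeparated (X' ↘ Spec (CommRingCat.of Ω))
  have hr' : DCoh.HasRpush (X' ↘ Spec (CommRingCat.of Ω)) := Groth.Agent.Dcoh.DerSch.hasRpush _
  have hb := K682.RelDual.IsRD.baseChange hi hL hRD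
  have hf : DCoh.RpushPreservesQCoh (X' ↘ Spec (CommRingCat.of Ω)) := fun K hK => S0998.result _ K hK
  have hNX' : IsNoetherian X' := VarietyB.DegFin.isNoetherian_of_isProper Ω X'
  have hs : DCoh.HasShriek (X' ↘ Spec (CommRingCat.of Ω)) hf := S1766.result _ _ _ hf
  have hq : DCoh.IsQCohD (DCoh.inD (Spec (CommRingCat.of Ω)) (Coh.structureModule (Spec (CommRingCat.of Ω)))) :=
    PerfA.QCohD.isQCohD_inD _ (Fdesc.StructMod.isQCoh_structureModule _)
  let OY : DCoh.DQCoh (Spec (CommRingCat.of Ω)) := ⟨DCoh.inD _ (Coh.structureModule _), hq⟩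
  have hOY : Nonempty (OY.obj ≅ DCoh.inD (Spec (CommRingCat.of Ω))
      (Coh.structureModule (Spec (CommRingCat.of Ω)))) := ⟨Iso.refl _⟩
  exact OmegaForm.form Ω X' hf OY hOY hdim h0 hn (K682.RelDual.nonempty_iso_dualizingMod _ hf OY hOY hb)

end K897.OmegaFam
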