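import Groth.Agent.CurvSt.K898.FamH0
import Groth.Agent.Curves.K327.NefMain
import Groth.Agent.ArSurf.K479.SecTriv
import Groth.Agent.LoccohA.OmFinTop
import Groth.Agent.Flat2G.FibDimVanish
import Groth.Agent.CohqA.ContrBij
import Groth.Agent.Flat2G.ProperDim
import Groth.Agent.S0002
import Groth.Agent.CohqA.DirectSum

/-!
# Vanishing of `H¹` of the fibres of the morphism defined by a module with `H¹ = 0`

`c : X ⟶ Y` over `S`, both proper over `S`, fibres of `X` over `S` of dimension at most one, `L` invertible on `X`, trivial along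
the fibre of `c` over `y`, with `H¹(X_s, L) = 0` for `s` below `y`. Then `H¹(X_y, O) = 0`.
-/

set_option autoImplicit false
universe u
open CategoryTheory CategoryTheory.Limits AlgebraicGeometry Opposite TopologicalSpace

namespace K897.FibreVan

open Groth.Agent

theorem subsingleton_of_hRank {k : Type u} [Field k] {Z : Scheme.{u}} (g : Z ⟶ Spec (CommRingCat.of k)) [IsProper g]
    (h : Models.hRank k Z g (Coh.structureModule Z) 1 = 0) : Subsingleton (Coh.HH Z (Coh.structureModule Z) 1) := by
  let _ : Z.Over (Spec (CommRingCat.of k)) := ⟨g⟩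
  have hP : IsProper (Z ↘ Spec (CommRingCat.of k)) := ‹IsProper g›
  have hf := S0002.result k Z (Coh.structureModule Z) (CurvesC.UnitCoh.isCoh_unit Z) 1
  exact Module.finrank_zero_iff.1 h

theorem hRank_of_subsingleton {k : Type u} [Field k] {Z : Scheme.{u}} (g : Z ⟶ Spec (CommRingCat.of k))
    (h : Subsingleton (Coh.HH Z (Coh.structureModule Z) 1)) : Models.hRank k Z g (Coh.structureModule Z) 1 = 0 := by
  let _ : Z.Over (Spec (CommRingCat.of k)) := ⟨g⟩
  exact Module.finrank_zero_of_subsingleton

variable {S X Y : Scheme.{u}} (c : X ⟶ Y) (q : Y ⟶ S)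

theorem dim_fiber_le (s : S) (hdim : topologicalKrullDim ↥((c ≫ q).fiber s) ≤ 1) [IsProper c]
    (y : Y) (hy : q y = s) : topologicalKrullDim ↥(c.fiber y) ≤ 1 := by
  have h1 : topologicalKrullDim ↥(c.fiber y) = topologicalKrullDim (c ⁻¹' {y}) :=
    IsHomeomorph.topologicalKrullDim_eq _ (c.fiberHomeo y).isHomeomorph
  have h2 : topologicalKrullDim ↥((c ≫ q).fiber s) = topologicalKrullDim ((c ≫ q) ⁻¹' {s}) :=
    IsHomeomorph.topologicalKrullDim_eq _ ((c ≫ q).fiberHomeo s).isHomeomorph
  rw [h1]
  rw [h2] at hdim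
  refine le_trans ?_ hdim
  refine (Topology.IsEmbedding.inclusion (s := c ⁻¹' {y}) (t := (c ≫ q) ⁻¹' {s}) ?_).isInducing.topologicalKrullDim_le
  intro x hx
  have hx' : c x = y := hx
  change (c ≫ q) x = s
  rw [Scheme.Hom.comp_apply, hx', hy]

/-- **Vanishing of `H¹(X_y, O)`.** -/
theorem fibre_H1 [IsProper c] [IsProper q] {L : X.Modules} (hL : PicF.IsInvertible L) (y : Y)
    (t : Coh.structureModule X ⟶ L) (ht : c ⁻¹' {y} ⊆ (CohB1.genLocus L t : Set X))
    (hdim : topologicalKrullDim ↥((c ≫ q).fiber (q y)) ≤ 1)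
    (h1 : Subsingleton (Coh.HH ((c ≫ q).fiber (q y))
      ((Scheme.Modules.pullback ((c ≫ q).fiberι (q y))).obj L) 1)) :
    Subsingleton (Coh.HH (c.fiber y) (Coh.structureModule (c.fiber y)) 1) := by
  obtain ⟨s, hs⟩ : ∃ s, s = q y := ⟨_, rfl⟩
  rw [← hs] at hdim h1
  obtain ⟨ys, hys⟩ : ∃ ys : q.fiber s, q.fiberι s ys = y := by
    have : y ∈ Set.range (q.fiberι s) := by
      rw [Scheme.Hom.range_fiberι]
      exact hs.symm
    exact this
  have hcs := CohqA.ContrBij.isPullback_fiberMap c q s
  set cs := MoreMor.fiberMap c q s with hcsd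
  have hpcs : IsProper cs := MorphismProperty.of_isPullback (P := @IsProper) hcs inferInstance
  -- reduction to the fibre of `cs`
  suffices H : Subsingleton (Coh.HH (cs.fiber ys) (Coh.structureModule (cs.fiber ys)) 1) by
    have h2 := K898.FamH0.hRank_fiber_baseChange hcs ys 1
    rw [hRank_of_subsingleton _ H] at h2
    have hp : IsProper (c.fiberToSpecResidueField (q.fiberι s ys)) :=
      MorphismProperty.pullback_snd (P := @IsProper) _ _ ‹IsProper c›
    have h3 := subsingleton_of_hRank (k := Y.residueField (q.fiberι s ys))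
      (c.fiberToSpecResidueField (q.fiberι s ys)) h2.symm
    rwa [hys] at h3
  -- the module is trivial on the fibre
  have htriv : Nonempty ((Scheme.Modules.pullback (cs.fiberι ys ≫ (c ≫ q).fiberι s)).obj L ≅
      Coh.structureModule (cs.fiber ys)) := by
    refine K479.SecTriv.nonempty_iso_of_range _ hL t ?_
    rintro _ ⟨z, rfl⟩
    apply ht
    change c ((cs.fiberι ys ≫ (c ≫ q).fiberι s) z) = y
    rw [← Scheme.Hom.comp_apply, Category.assoc, hcs.w, ← Category.assoc, Scheme.Hom.comp_apply, ← hys,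
      Scheme.Hom.fiber_fac, Scheme.Hom.comp_apply, Scheme.fromSpecResidueField_apply]
  obtain ⟨e⟩ := htriv
  have hNZ : IsNoetherian ((c ≫ q).fiber s) := by
    let _ : ((c ≫ q).fiber s).Over (Spec (CommRingCat.of (S.residueField s))) :=
      ⟨(c ≫ q).fiberToSpecResidueField s⟩
    have hP : IsProper (((c ≫ q).fiber s) ↘ Spec (CommRingCat.of (S.residueField s))) :=
      MorphismProperty.pullback_snd (P := @IsProper) _ _ inferInstance
    exact VarietyB.DegFin.isNoetherian_of_isProper (S.residueField s) _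
  by_cases hcl : IsClosed ({ys} : Set (q.fiber s))
  · have hci : IsClosedImmersion ((q.fiber s).fromSpecResidueField ys) :=
      isClosed_singleton_iff_isClosedImmersion.1 hcl
    have hci' : IsClosedImmersion (cs.fiberι ys) :=
      MorphismProperty.pullback_fst (P := @IsClosedImmersion) _ _ hci
    let _ : ((c ≫ q).fiber s).Over (Spec (CommRingCat.of (S.residueField s))) :=
      ⟨(c ≫ q).fiberToSpecResidueField s⟩
    let _ : (cs.fiber ys).Over (Spec (CommRingCat.of (S.residueField s))) :=
      ⟨cs.fiberι ys ≫ (c ≫ q).fiberToSpecResidueField s⟩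
    have h3 := Groth.Agent.Curves.K327.NefMain.subsingleton_H1_pullback (k := S.residueField s) hdim (cs.fiberι ys) rfl
      (Ega2.QCohLocal.isQCoh_of_isInvertible
        (Fdesc.LocGen.isInvertible_pullback ((c ≫ q).fiberι s) hL)) h1
    exact CohqA.DirectSum.subsingleton_of_iso
      ((Scheme.Modules.pullbackComp (cs.fiberι ys) ((c ≫ q).fiberι s)).app L ≪≫ e) 1 h3
  · have hd0 : topologicalKrullDim ↥(cs.fiber ys) ≤ 0 := by
      have h2 : topologicalKrullDim ↥(cs.fiber ys) = topologicalKrullDim (cs ⁻¹' {ys}) :=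
        IsHomeomorph.topologicalKrullDim_eq _ (cs.fiberHomeo ys).isHomeomorph
      rw [h2]
      refine LoccohA.OmFinTop.topologicalKrullDim_le 0 (by simpa using hdim) _ fun w hw hwc => hcl ?_
      have h4 := cs.isClosedMap _ hwc
      rw [Set.image_singleton] at h4
      rwa [(hw : cs w = ys)] at h4
    have hp : IsProper (cs.fiberToSpecResidueField ys) :=
      MorphismProperty.pullback_snd (P := @IsProper) _ _ hpcs
    refine Flat2G.FibDimVanish.subsingleton_HH (cs.fiberToSpecResidueField ys) 0 (fun z => ?_) _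
      (CurvesC.UnitCoh.isQCoh_unit _) 1 one_pos
    exact ((cs.fiberToSpecResidueField ys).fiberι z).isEmbedding.isInducing.topologicalKrullDim_le.trans hd0

end K897.FibreVan
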