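import Mathlib.AlgebraicGeometry.Morphisms.Flat
import Mathlib.RingTheory.Flat.TorsionFree
import Mathlib.RingTheory.Regular.Flat

/-!
# Flatness over a principal ideal domain descends along morphisms with `O_Y = c_* O_X`
-/

set_option autoImplicit false
universe u

open AlgebraicGeometry CategoryTheory CategoryTheory.Limits TopologicalSpace

namespace K897.FlatPush

variable {R : Type u} [CommRing R]

/-- the structure map on sections -/
noncomputable def str {X : Scheme.{u}} (f : X ⟶ Spec (CommRingCat.of R)) (U : X.Opens) : R →+* Γ(X, U) :=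
  (f.appLE ⊤ U le_top).hom.comp (Scheme.ΓSpecIso (CommRingCat.of R)).inv.hom

theorem str_flat {X : Scheme.{u}} (f : X ⟶ Spec (CommRingCat.of R)) [Flat f] {U : X.Opens} (hU : IsAffineOpen U) :
    (str f U).Flat := by
  have h1 := f.flat_appLE (isAffineOpen_top _) hU le_top
  have h2 : (Scheme.ΓSpecIso (CommRingCat.of R)).inv.hom.Flat :=
    RingHom.Flat.of_bijective (ConcreteCategory.bijective_of_isIso (Scheme.ΓSpecIso (CommRingCat.of R)).inv)
  exact RingHom.Flat.comp h2 h1

theorem map_str {X : Scheme.{u}} (f : X ⟶ Spec (CommRingCat.of R)) {U V : X.Opens} (h : V ≤ U) (r : R) :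
    X.presheaf.map (homOfLE h).op (str f U r) = str f V r := by
  have := f.appLE_map (U := ⊤) (V := U) (V' := V) le_top (homOfLE h).op
  exact congr($(this) ((Scheme.ΓSpecIso (CommRingCat.of R)).inv r))

/-- sections of a flat scheme have no torsion -/
theorem eq_zero_of_mul {X : Scheme.{u}} (f : X ⟶ Spec (CommRingCat.of R)) [Flat f] {r : R}
    (hr : IsSMulRegular R r) (U : X.Opens) (a : Γ(X, U)) (h : str f U r * a = 0) : a = 0 := by
  apply TopCat.Presheaf.section_ext X.sheaf U
  intro x hx
  obtain ⟨W, hW, hxW, hWU'⟩ := exists_isAffineOpen_mem_and_subset (X := X) (x := x) (U := U) hx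
  have hWU : W ≤ U := hWU'
  have hfl := str_flat f hW
  have h0 : X.presheaf.map (homOfLE hWU).op a = 0 := by
    have h1 : str f W r * X.presheaf.map (homOfLE hWU).op a = 0 := by
      rw [← map_str f hWU, ← map_mul, h, map_zero]
    let _ := (str f W).toAlgebra
    have h2 : Module.Flat R Γ(X, W) := hfl
    have h3 : IsSMulRegular Γ(X, W) r := by
      have := (Module.Flat.lTensor_preserves_injective_linearMap (M := Γ(X, W))
        (LinearMap.lsmul R R r) hr)
      intro b b' hb
      have h4 : (LinearMap.lTensor Γ(X, W) (LinearMap.lsmul R R r)) (b ⊗ₜ 1) =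
          (LinearMap.lTensor Γ(X, W) (LinearMap.lsmul R R r)) (b' ⊗ₜ 1) := by
        rw [LinearMap.lTensor_tmul, LinearMap.lTensor_tmul, LinearMap.lsmul_apply, TensorProduct.tmul_smul,
          TensorProduct.tmul_smul, TensorProduct.smul_tmul', TensorProduct.smul_tmul']
        exact congrArg (· ⊗ₜ[R] (1 : R)) hb
      have h5 := this h4
      have h6 := congrArg (TensorProduct.rid R Γ(X, W)) h5
      simpa using h6
    apply h3
    change r • _ = r • _
    rw [smul_zero, Algebra.smul_def]
    exact h1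
  have h1 := X.presheaf.germ_res_apply (homOfLE hWU) x hxW a
  change X.presheaf.germ U x hx a = X.presheaf.germ U x hx 0
  rw [← h1, map_zero]
  exact (congrArg _ h0).trans (map_zero _)

variable [IsDomain R] [IsPrincipalIdealRing R]

/-- **Flatness descends along a morphism with `O_Y = c_* O_X`** -/
theorem flat {X Y : Scheme.{u}} (c : X ⟶ Y) (q : Y ⟶ Spec (CommRingCat.of R)) (hO : ∀ V : Y.Opens, IsIso (c.app V))
    [Flat (c ≫ q)] : Flat q := by
  refine HasRingHomProperty.of_iSup_eq_top (P := @Flat) (fun U : Y.affineOpens => U) (iSup_affineOpens_eq_top Y)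
    fun U => ?_
  have h2 : (Scheme.ΓSpecIso (CommRingCat.of R)).hom.hom.Flat :=
    RingHom.Flat.of_bijective (ConcreteCategory.bijective_of_isIso (Scheme.ΓSpecIso (CommRingCat.of R)).hom)
  have h3 : (str q U.1).Flat := by
    let _ := (str q U.1).toAlgebra
    change Module.Flat R Γ(Y, U.1)
    rw [Module.Flat.flat_iff_torsion_eq_bot_of_isBezout, ← Submodule.isTorsionFree_iff_torsion_eq_bot]
    refine ⟨fun r hr => ?_⟩
    rw [isSMulRegular_iff_right_eq_zero_of_smul]
    intro a ha
    rw [Algebra.smul_def] at ha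
    have hr' : IsSMulRegular R r := hr.isSMulRegular
    have h4 : c.app U.1 a = 0 := by
      refine eq_zero_of_mul (c ≫ q) hr' _ _ ?_
      have h5 : str (c ≫ q) (c ⁻¹ᵁ U.1) r = c.app U.1 (str q U.1 r) := by
        have h6 : q.appLE ⊤ U.1 le_top ≫ c.app U.1 = (c ≫ q).appLE ⊤ (c ⁻¹ᵁ U.1) le_top := by
          rw [c.app_eq_appLE, Scheme.Hom.appLE_comp_appLE]
        exact congr($(h6) ((Scheme.ΓSpecIso (CommRingCat.of R)).inv r)).symm
      rw [h5, ← map_mul]
      exact (congrArg _ ha).trans (map_zero _)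
    have h5 : Function.Injective (c.app U.1) := (ConcreteCategory.bijective_of_isIso (c.app U.1)).1
    exact h5 (h4.trans (map_zero _).symm)
  have h4 : (q.appLE ⊤ U.1 le_top).hom = (str q U.1).comp (Scheme.ΓSpecIso (CommRingCat.of R)).hom.hom := by
    ext a
    have h5 := congr($((Scheme.ΓSpecIso (CommRingCat.of R)).hom_inv_id) a)
    change _ = (q.appLE ⊤ U.1 le_top) ((Scheme.ΓSpecIso (CommRingCat.of R)).inv
      ((Scheme.ΓSpecIso (CommRingCat.of R)).hom a))
    exact congrArg (q.appLE ⊤ U.1 le_top) h5.symm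
  rw [h4]
  exact RingHom.Flat.comp h2 h3

end K897.FlatPush
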