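import Groth.Agent.VarietyB.HHPush
import Groth.Agent.CohqA.HOpen
import Groth.Agent.CurvSt.K898.FamH0
import Groth.Agent.CurvesA.HHMap

/-!
# Cohomology of the structure sheaf under an acyclic morphism
-/

set_option autoImplicit false
universe u
open CategoryTheory CategoryTheory.Limits AlgebraicGeometry TopologicalSpace

namespace K897.GenusEq

open Groth.Agent VarietyB.HHPush VarietyB.HHLes

theorem finrank_eq (k : Type u) [Field k] {X Y : Scheme.{u}} [X.Over (Spec (CommRingCat.of k))]
    [Y.Over (Spec (CommRingCat.of k))] (c : X ⟶ Y)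
    (hc : c ≫ (Y ↘ Spec (CommRingCat.of k)) = X ↘ Spec (CommRingCat.of k))
    (hO : ∀ V : Y.Opens, IsIso (c.app V))
    (hac : ∀ W : Y.Opens, IsAffineOpen W → ∀ n : ℕ,
      Subsingleton (Coh.HHon X (Coh.structureModule X) (c ⁻¹ᵁ W) (n + 1))) (n : ℕ) :
    Module.finrank k (Coh.HH Y (Coh.structureModule Y) n) = Module.finrank k (Coh.HH X (Coh.structureModule X) n) := by
  have hA : Acyc c (Coh.structureModule X) := fun W hW m x =>
    (((CohqA.HOpen.HHonEquiv (Coh.structureModule X) (c ⁻¹ᵁ W) (m + 1)).toEquiv.subsingleton_congr).2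
      (hac W hW m)).elim x 0
  obtain ⟨e⟩ := exists_equiv c k hc n (Coh.structureModule X) hA
  have hi : IsIso (ClSub.unitToPush c) := K898.FamH0.isIso_unitToPush c hO
  have e1 : Module.finrank k (Coh.HH Y (Coh.structureModule Y) n) =
      Module.finrank k (Coh.HH Y ((Coh.push c).obj (Coh.structureModule X)) n) :=
    (CurvesA.HHMap.equivOver k (asIso (ClSub.unitToPush c)) n).finrank_eq
  rw [e1]
  exact ((toHH k _ n).symm.trans (e.trans (toHH k (Coh.structureModule X) n))).finrank_eq

end K897.GenusEq
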