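import Mathlib.AlgebraicGeometry.ResidueField
import Mathlib.AlgebraicGeometry.Properties
import Groth.Agent.Divis.CartierBasic

/-!
# Gluing functions on the union of two closed subschemes meeting transversally

`X` reduced, `U` open in `X` covered by the closed subscheme `J` and the closed subset `F`, such that the maximal ideal
at the points of `J ∩ F` is the sum of the ideals of `J` and `F`.  A function on `J ∩ U` vanishing on `J ∩ F`
is the restriction of a function on `U` vanishing on `F`.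
-/

set_option autoImplicit false
universe u
open CategoryTheory CategoryTheory.Limits AlgebraicGeometry TopologicalSpace IsLocalRing Opposite

namespace K897.GlueSec

open Groth.Agent.Divis.CartierBasic

variable {X : Scheme.{u}}

/-- extension of a function on `J ∩ W` by zero on `F` -/
structure Ext (J : X.IdealSheafData) (F : Set X) (W : X.Opens) (σ : Γ(J.subscheme, J.subschemeι ⁻¹ᵁ W))
    (s : Γ(X, W)) : Prop where
  app : J.subschemeι.app W s = σ
  van : ∀ x ∈ F, x ∉ X.basicOpen s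

variable {J : X.IdealSheafData} {F : Set X}

/-- Uniqueness. -/
theorem Ext.eq [IsReduced X] {W : X.Opens} (hcov : ∀ x ∈ W, x ∈ J.support ∨ x ∈ F)
    {σ : Γ(J.subscheme, J.subschemeι ⁻¹ᵁ W)} {s s' : Γ(X, W)} (h : Ext J F W σ s) (h' : Ext J F W σ s') :
    s = s' := by
  rw [← sub_eq_zero, ← AlgebraicGeometry.basicOpen_eq_bot_iff, eq_bot_iff]
  intro x hx
  have hxW := X.basicOpen_le _ hx
  rcases hcov x hxW with h1 | h1
  · have h2 : x ∈ (J.support : Set X) := h1
    rw [← Scheme.IdealSheafData.range_subschemeι] at h2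
    obtain ⟨z, rfl⟩ := h2
    have h3 : z ∈ J.subschemeι ⁻¹ᵁ X.basicOpen (s - s') := hx
    rw [Scheme.preimage_basicOpen, map_sub, h.app, h'.app, sub_self, Scheme.basicOpen_zero] at h3
    exact h3
  · have h2 : X.basicOpen (s + -s') ≤ X.basicOpen s ⊔ X.basicOpen (-s') := X.basicOpen_add_le _ _
    rw [sub_eq_add_neg] at hx
    rcases h2 hx with h3 | h3
    · exact (h.van x h1 h3).elim
    · rw [show (-s' : Γ(X, W)) = (-1 : Γ(X, W)) * s' by ring, Scheme.basicOpen_mul] at h3
      exact (h'.van x h1 h3.2).elim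

/-- Restriction. -/
theorem Ext.res {W V : X.Opens} (hV : V ≤ W) {σ : Γ(J.subscheme, J.subschemeι ⁻¹ᵁ W)} {s : Γ(X, W)}
    (h : Ext J F W σ s) : Ext J F V
      (J.subscheme.presheaf.map (homOfLE (J.subschemeι.preimage_mono hV)).op σ) (X.presheaf.map (homOfLE hV).op s) where
  app := by
    rw [← h.app]
    exact (ConcreteCategory.congr_hom (J.subschemeι.naturality (homOfLE hV).op) s)
  van x hx hx' := by
    rw [Scheme.basicOpen_res] at hx'
    exact h.van x hx hx'.2

/-- Extensions glue. -/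
theorem exists_of_local [IsReduced X] {U : X.Opens} (hcov : ∀ x ∈ U, x ∈ J.support ∨ x ∈ F)
    (σ : Γ(J.subscheme, J.subschemeι ⁻¹ᵁ U))
    (h : ∀ x ∈ U, ∃ (W : X.Opens) (hW : W ≤ U) (s : Γ(X, W)), x ∈ W ∧
      Ext J F W (J.subscheme.presheaf.map (homOfLE (J.subschemeι.preimage_mono hW)).op σ) s) :
    ∃ s : Γ(X, U), Ext J F U σ s := by
  choose W hW s hxW hs using h
  let W' : U → X.Opens := fun x => W x.1 x.2
  have hcomp : TopCat.Presheaf.IsCompatible X.sheaf.1 W' (fun x => s x.1 x.2) := by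
    intro x y
    have h1 := (hs x.1 x.2).res (V := W' x ⊓ W' y) inf_le_left
    have h2 := (hs y.1 y.2).res (V := W' x ⊓ W' y) inf_le_right
    refine Ext.eq (W := W' x ⊓ W' y) (fun z hz => hcov z (hW x.1 x.2 hz.1)) h1 ?_
    have h3 : J.subscheme.presheaf.map (homOfLE (J.subschemeι.preimage_mono (inf_le_left : W' x ⊓ W' y ≤ W' x))).op
        (J.subscheme.presheaf.map (homOfLE (J.subschemeι.preimage_mono (hW x.1 x.2))).op σ) =
      J.subscheme.presheaf.map (homOfLE (J.subschemeι.preimage_mono (inf_le_right : W' x ⊓ W' y ≤ W' y))).op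
        (J.subscheme.presheaf.map (homOfLE (J.subschemeι.preimage_mono (hW y.1 y.2))).op σ) := by
      rw [← ConcreteCategory.comp_apply, ← ConcreteCategory.comp_apply, ← Functor.map_comp, ← Functor.map_comp]
      rfl
    rw [h3]
    exact h2
  obtain ⟨t, ht, -⟩ := X.sheaf.existsUnique_gluing' W' U (fun x => homOfLE (hW x.1 x.2))
    (fun x hx => Opens.mem_iSup.2 ⟨⟨x, hx⟩, hxW x hx⟩) (fun x => s x.1 x.2) hcomp
  refine ⟨t, ?_, ?_⟩
  · refine J.subscheme.sheaf.eq_of_locally_eq' (fun x : U => J.subschemeι ⁻¹ᵁ W' x) (J.subschemeι ⁻¹ᵁ U)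
      (fun x => homOfLE (J.subschemeι.preimage_mono (hW x.1 x.2))) ?_ _ _ ?_
    · intro z hz
      exact Opens.mem_iSup.2 ⟨⟨J.subschemeι z, hz⟩, hxW _ hz⟩
    · intro x
      have h1 := (hs x.1 x.2).app
      rw [← ht x] at h1
      refine Eq.trans ?_ h1
      exact (ConcreteCategory.congr_hom (J.subschemeι.naturality (homOfLE (hW x.1 x.2)).op) t).symm
  · intro x hxF hx
    have hxU := X.basicOpen_le _ hx
    apply (hs x hxU).van x hxF
    have h1 : s x hxU = X.presheaf.map (homOfLE (hW x hxU)).op t := (ht ⟨x, hxU⟩).symm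
    rw [h1, Scheme.basicOpen_res]
    exact ⟨hxW x hxU, hx⟩

/-- The local extension at a point of `J ∩ F`. -/
theorem exists_local_inter (K : X.IdealSheafData) (hK : F ⊆ K.support) {U : X.Opens} (σ : Γ(J.subscheme, J.subschemeι ⁻¹ᵁ U))
    (x : X) (hxU : x ∈ U) (hxJ : x ∈ J.support)
    (hσ : ∀ z, J.subschemeι z = x → z ∉ J.subscheme.basicOpen σ)
    (hN : maximalIdeal (X.presheaf.stalk x) ≤ stalkIdeal J x ⊔ stalkIdeal K x) :
    ∃ (W : X.Opens) (hW : W ≤ U) (s : Γ(X, W)), x ∈ W ∧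
      Ext J F W (J.subscheme.presheaf.map (homOfLE (J.subschemeι.preimage_mono hW)).op σ) s := by
  obtain ⟨V, hV, hxV, hVU⟩ := exists_isAffineOpen_mem_and_subset (U := U) (x := x) hxU
  have hVU' : V ≤ U := hVU
  obtain ⟨s₀, hs₀⟩ := J.subschemeι_app_surjective ⟨V, hV⟩
    (J.subscheme.presheaf.map (homOfLE (J.subschemeι.preimage_mono hVU')).op σ)
  have hxJ' : x ∈ (J.support : Set X) := hxJ
  rw [← Scheme.IdealSheafData.range_subschemeι] at hxJ'
  obtain ⟨z, hz⟩ := hxJ'
  -- the germ of `s₀` is in the maximal ideal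
  have hm : X.presheaf.germ V x hxV s₀ ∈ maximalIdeal (X.presheaf.stalk x) := by
    rw [mem_maximalIdeal, mem_nonunits_iff, ← Scheme.mem_basicOpen]
    intro h
    apply hσ z hz
    subst hz
    have h1 : z ∈ J.subschemeι ⁻¹ᵁ X.basicOpen s₀ := h
    rw [Scheme.preimage_basicOpen, hs₀, Scheme.basicOpen_res] at h1
    exact h1.2
  have h1 := hN hm
  rw [stalkIdeal_eq J ⟨V, hV⟩ hxV, stalkIdeal_eq K ⟨V, hV⟩ hxV, ← Ideal.map_sup] at h1
  let _ : Algebra Γ(X, V) (X.presheaf.stalk x) := X.presheaf.algebra_section_stalk ⟨x, hxV⟩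
  have hloc : IsLocalization.AtPrime (X.presheaf.stalk x) (hV.primeIdealOf ⟨x, hxV⟩).asIdeal :=
    hV.isLocalization_stalk ⟨x, hxV⟩
  have h2 : algebraMap Γ(X, V) (X.presheaf.stalk x) s₀ ∈
      (J.ideal ⟨V, hV⟩ ⊔ K.ideal ⟨V, hV⟩).map (algebraMap Γ(X, V) (X.presheaf.stalk x)) := h1
  rw [IsLocalization.algebraMap_mem_map_algebraMap_iff (hV.primeIdealOf ⟨x, hxV⟩).asIdeal.primeCompl] at h2
  obtain ⟨t, ht, hts⟩ := h2
  obtain ⟨a, ha, b, hb, hab⟩ := Submodule.mem_sup.1 hts
  have hxt : x ∈ X.basicOpen t := by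
    rw [Scheme.mem_basicOpen _ _ _ hxV]
    exact IsLocalization.map_units (X.presheaf.stalk x) (⟨t, ht⟩ : (hV.primeIdealOf ⟨x, hxV⟩).asIdeal.primeCompl)
  have hle : X.basicOpen t ≤ V := X.basicOpen_le t
  -- the inverse of `t`
  have hut : IsUnit (X.presheaf.map (homOfLE hle).op t) := by
    have := RingedSpace.isUnit_res_basicOpen X.toRingedSpace t
    exact this
  obtain ⟨t', ht'⟩ := hut.exists_left_inv
  refine ⟨X.basicOpen t, hle.trans hVU', t' * X.presheaf.map (homOfLE hle).op b, hxt, ?_, ?_⟩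
  · have ha0 : J.subschemeι.app V a = 0 := by
      have h3 : a ∈ RingHom.ker (J.subschemeι.app V).hom := by
        rw [J.ker_subschemeι_app ⟨V, hV⟩]
        exact ha
      exact h3
    have h4 : J.subschemeι.app V t * J.subschemeι.app V s₀ = J.subschemeι.app V b := by
      rw [← map_mul, ← hab, map_add, ha0, zero_add]
    have hnat : ∀ c : Γ(X, V), J.subschemeι.app (X.basicOpen t) (X.presheaf.map (homOfLE hle).op c) =
        J.subscheme.presheaf.map (homOfLE (J.subschemeι.preimage_mono hle)).op (J.subschemeι.app V c) :=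
      fun c => ConcreteCategory.congr_hom (J.subschemeι.naturality (homOfLE hle).op) c
    rw [map_mul, hnat, ← h4, map_mul, ← hnat t, ← mul_assoc, ← map_mul, ht', map_one, one_mul, hs₀,
      ← ConcreteCategory.comp_apply, ← Functor.map_comp]
    rfl
  · intro y hyF hy
    rw [Scheme.basicOpen_mul, Scheme.basicOpen_res] at hy
    have hyV : y ∈ V := hle hy.2.1
    have h5 : y ∈ (K.support : Set X) := hK hyF
    have h6 := (K.mem_support_iff_of_mem (U := ⟨V, hV⟩) hyV).1 h5
    rw [Scheme.mem_zeroLocus_iff] at h6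
    exact h6 b hb hy.2.2

theorem exists_ext [IsReduced X] (K : X.IdealSheafData) (hK : F ⊆ K.support) (hF : IsClosed F) {U : X.Opens}
    (hcov : ∀ x ∈ U, x ∈ J.support ∨ x ∈ F)
    (σ : Γ(J.subscheme, J.subschemeι ⁻¹ᵁ U))
    (hσ : ∀ z, J.subschemeι z ∈ F → z ∉ J.subscheme.basicOpen σ)
    (hN : ∀ x ∈ U, x ∈ J.support → x ∈ F → maximalIdeal (X.presheaf.stalk x) ≤ stalkIdeal J x ⊔ stalkIdeal K x) :
    ∃ s : Γ(X, U), Ext J F U σ s := by
  refine exists_of_local hcov σ fun x hxU => ?_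
  by_cases hxJ : x ∈ J.support
  · by_cases hxF : x ∈ F
    · exact exists_local_inter K hK σ x hxU hxJ (fun z hz => hσ z (hz ▸ hxF)) (hN x hxU hxJ hxF)
    · obtain ⟨V, hV, hxV, hVU⟩ := exists_isAffineOpen_mem_and_subset
        (U := U ⊓ ⟨Fᶜ, hF.isOpen_compl⟩) (x := x) ⟨hxU, hxF⟩
      have hVU' : V ≤ U := fun y hy => (hVU hy).1
      obtain ⟨s₀, hs₀⟩ := J.subschemeι_app_surjective ⟨V, hV⟩
        (J.subscheme.presheaf.map (homOfLE (J.subschemeι.preimage_mono hVU')).op σ)
      refine ⟨V, hVU', s₀, hxV, hs₀, fun y hyF hy => ?_⟩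
      exact (hVU (X.basicOpen_le _ hy)).2 hyF
  · refine ⟨U ⊓ ⟨(J.support : Set X)ᶜ, J.support.isClosed.isOpen_compl⟩, inf_le_left, 0, ⟨hxU, hxJ⟩, ?_, ?_⟩
    · have hr : ∀ z, J.subschemeι z ∈ (J.support : Set X) := fun z => by
        rw [← Scheme.IdealSheafData.range_subschemeι]
        exact ⟨z, rfl⟩
      have hbot : (J.subschemeι ⁻¹ᵁ (U ⊓ ⟨(J.support : Set X)ᶜ, J.support.isClosed.isOpen_compl⟩) :
          J.subscheme.Opens) = ⊥ := by
        ext z
        simp only [Opens.coe_bot, Set.mem_empty_iff_false, iff_false]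
        intro hz
        exact hz.2 (hr z)
      have hsub : Subsingleton Γ(J.subscheme, J.subschemeι ⁻¹ᵁ (U ⊓ ⟨(J.support : Set X)ᶜ,
          J.support.isClosed.isOpen_compl⟩)) := by
        rw [hbot]
        infer_instance
      exact Subsingleton.elim _ _
    · intro y _ hy
      rw [Scheme.basicOpen_zero] at hy
      exact hy

end K897.GlueSec
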