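import Groth.Agent.Models.H58.MCLoc

/-!
# Multicross points with at most two branches

`O ⊆ A` the situation `MC O A` of the normalization of a multicross point: `A` has one maximal ideal iff `O` is regular
(a discrete valuation ring), and if `A` has exactly two maximal ideals then `O` is node-like.
-/

set_option autoImplicit false
universe u

open IsLocalRing

namespace K897.NodeTwo

open Groth.Agent.Models.H73 NodeLocal NodeLocal2 NodeLocal3 NodeLocal4
open Groth.Agent.Models.H58.MCLoc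

variable {O A : Type u} [CommRing O] [IsLocalRing O] [IsNoetherianRing O] [CommRing A] [Algebra O A]

/-- One branch: the ring is regular. -/
theorem regular_of_one (h : MC O A) {P : Ideal A} (hP : P.IsMaximal)
    (hall : ∀ N : Ideal A, N.IsMaximal → N = P) : IsRegularLocalRing O := by
  refine regular_of_surjective h fun a => ?_
  obtain ⟨o, ho⟩ := h.res P hP a
  obtain ⟨o', ho'⟩ := h.rad (a - algebraMap O A o) fun N hN => by rw [hall N hN]; exact ho
  exact ⟨o' + o, by rw [map_add, ho']; ring⟩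

/-- Two branches: the ring is node-like. -/
theorem isNodeLike_of_two [IsNoetherianRing A] [Algebra.IsIntegral O A] (h : MC O A) {P Q : Ideal A}
    (hP : P.IsMaximal) (hQ : Q.IsMaximal) (hPQ : P ≠ Q)
    (hall : ∀ N : Ideal A, N.IsMaximal → N = P ∨ N = Q) : IsNodeLike O := by
  obtain ⟨f, hf, hfA⟩ := exists_regular h
  obtain ⟨e, heP, heQ⟩ : ∃ e ∈ P, 1 - e ∈ Q := by
    have hsup : P ⊔ Q = ⊤ := hP.coprime_of_ne hQ hPQ
    obtain ⟨p, hp, q, hq, hpq⟩ := Submodule.mem_sup.1 (hsup ▸ (Submodule.mem_top : (1 : A) ∈ ⊤))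
    exact ⟨p, hp, by rw [← hpq, add_sub_cancel_left]; exact hq⟩
  have hgen : ∀ a : A, ∃ c o : O, a = c • e + algebraMap O A o := by
    intro a
    obtain ⟨o, ho⟩ := h.res P hP a
    obtain ⟨c, hc⟩ := h.res Q hQ (a - algebraMap O A o)
    obtain ⟨o', ho'⟩ := h.rad (a - algebraMap O A o - algebraMap O A c * e) (fun N hN => by
      rcases hall N hN with rfl | rfl
      · exact N.sub_mem ho (N.mul_mem_left _ heP)
      · have : a - algebraMap O A o - algebraMap O A c * e =
            (a - algebraMap O A o - algebraMap O A c) + algebraMap O A c * (1 - e) := by ring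
        rw [this]
        exact N.add_mem hc (N.mul_mem_left _ heQ))
    refine ⟨c, o + o', ?_⟩
    rw [map_add, ho', Algebra.smul_def]
    ring
  obtain ⟨t, ht, hdiv⟩ := exists_uniformizer hP hQ hPQ hall h.dvr
  have hJ : ∀ z : A, z ∈ P ⊓ Q → ∃ o : O, algebraMap O A o = z := by
    intro z hz
    apply h.rad
    intro N hN
    rcases hall N hN with rfl | rfl
    exacts [hz.1, hz.2]
  have hmem : ∀ o : O, algebraMap O A o ∈ P ⊓ Q ↔ o ∈ maximalIdeal O := fun o =>
    ⟨fun ho => (h.mem_iff hP).1 ho.1, fun ho => ⟨(h.mem_iff hP).2 ho, (h.mem_iff hQ).2 ho⟩⟩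
  have htreg : ∀ a : A, t * a = 0 → a = 0 := by
    intro a ha
    obtain ⟨w, hw⟩ := hdiv _ ((hmem f).2 hf)
    apply hfA
    rw [Algebra.smul_def, hw, mul_comm t w, mul_assoc, ha, mul_zero]
  obtain ⟨x, hx⟩ := hJ (t * e) (Ideal.mul_mem_right _ _ ht)
  obtain ⟨y, hy⟩ := hJ (t * (1 - e)) (Ideal.mul_mem_right _ _ ht)
  have hxm : x ∈ maximalIdeal O := (hmem x).1 (by rw [hx]; exact Ideal.mul_mem_right _ _ ht)
  have hym : y ∈ maximalIdeal O := (hmem y).1 (by rw [hy]; exact Ideal.mul_mem_right _ _ ht)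
  have hτ : algebraMap O A (x + y) = t := by
    rw [map_add, hx, hy]; ring
  have hτm : x + y ∈ maximalIdeal O := Ideal.add_mem _ hxm hym
  have hspan : maximalIdeal O ≤ Ideal.span {x, y} := by
    intro z hz
    obtain ⟨w, hw⟩ := hdiv _ ((hmem z).2 hz)
    obtain ⟨c, o, hco⟩ := hgen w
    have h1 : z = c * x + o * (x + y) := by
      apply h.inj
      rw [hw, hco, map_add, map_mul, map_mul, hτ, hx, Algebra.smul_def]
      ring
    rw [h1]
    exact Ideal.add_mem _ (Ideal.mul_mem_left _ _ (Ideal.subset_span (by simp)))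
      (Ideal.mul_mem_left _ _ (Ideal.add_mem _ (Ideal.subset_span (by simp))
        (Ideal.subset_span (by simp))))
  have hsq : ∀ z ∈ maximalIdeal O ^ 2, ∃ w : A, algebraMap O A z = t ^ 2 * w := by
    intro z hz
    rw [pow_two] at hz
    refine Submodule.mul_induction_on hz ?_ ?_
    · intro a ha b hb
      obtain ⟨w1, hw1⟩ := hdiv _ ((hmem a).2 ha)
      obtain ⟨w2, hw2⟩ := hdiv _ ((hmem b).2 hb)
      exact ⟨w1 * w2, by rw [map_mul, hw1, hw2]; ring⟩
    · rintro a b ⟨w1, hw1⟩ ⟨w2, hw2⟩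
      exact ⟨w1 + w2, by rw [map_add, hw1, hw2]; ring⟩
  refine ⟨finrank_cotangentSpace_eq_two hxm hym hspan ?_, x, y, 0, 1, 0, hxm, hym, ?_, ?_, ?_⟩
  · intro α β hαβ
    obtain ⟨w, hw⟩ := hsq _ hαβ
    have h1 : algebraMap O A α * e + algebraMap O A β * (1 - e) = t * w := by
      rw [← sub_eq_zero]
      apply htreg
      rw [map_add, map_mul, map_mul, hx, hy] at hw
      linear_combination hw
    have hw1 : t * w ∈ P := P.mul_mem_right _ ht.1
    have hw2 : t * w ∈ Q := Q.mul_mem_right _ ht.2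
    constructor
    · rw [← h.mem_iff hQ]
      have h2 : algebraMap O A α = t * w + (algebraMap O A α - algebraMap O A β) * (1 - e) := by
        rw [← h1]; ring
      rw [h2]
      exact Q.add_mem hw2 (Q.mul_mem_left _ heQ)
    · rw [← h.mem_iff hP]
      have h2 : algebraMap O A β = t * w + (algebraMap O A β - algebraMap O A α) * e := by
        rw [← h1]; ring
      rw [h2]
      exact P.add_mem hw1 (P.mul_mem_left _ heP)
  · apply le_antisymm
    · rw [sup_le_iff, Ideal.span_le]
      refine ⟨?_, Ideal.pow_le_self (by norm_num)⟩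
      rintro z (rfl | rfl)
      exacts [hxm, hym]
    · exact hspan.trans le_sup_left
  · simp
  · have h1 : e * (1 - e) ∈ P ⊓ Q := ⟨P.mul_mem_right _ heP, Q.mul_mem_left _ heQ⟩
    obtain ⟨z, hz⟩ := hJ _ h1
    have hzm : z ∈ maximalIdeal O := (hmem z).1 (by rw [hz]; exact h1)
    have h2 : (0 : O) * x ^ 2 + 1 * x * y + 0 * y ^ 2 = (x + y) ^ 2 * z := by
      apply h.inj
      rw [map_mul, map_pow, hτ, hz]
      simp only [zero_mul, one_mul, zero_add, add_zero, map_mul, hx, hy]
      ring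
    rw [h2]
    have h3 : (x + y) ^ 2 ∈ maximalIdeal O ^ 2 := Ideal.pow_mem_pow hτm 2
    have h4 := Ideal.mul_mem_mul h3 hzm
    rwa [← pow_succ] at h4

end K897.NodeTwo
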