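import Groth.Agent.Models.H58.NodalGlueGeo
import Groth.Agent.CurvSt.K897.NodeTwo

/-!
# Points with at most two smooth branches

`nodeLike_or_regular`: `f : Z ⟶ Spec k`, `k` algebraically closed, `ν : Z' ⟶ Z` finite over the affine open `V ∋ z`;
functions on `ν⁻¹ V` vanishing over `z` come from `V`; the local rings of `Z'` over `z` are discrete valuation rings.
If there is one point over `z` then `Z` is regular at `z`, if there are two then `Z` is node-like at `z`.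
-/

set_option autoImplicit false
universe u
open CategoryTheory CategoryTheory.Limits AlgebraicGeometry TopologicalSpace IsLocalRing

namespace K897.GlueTwo

open Groth.Agent Groth.Agent.Models.H73 NodeLocal2 NodeLocal4
open Groth.Agent.Models.H58

section Alg

variable {A₀ B₀ O : Type u} [CommRing A₀] [CommRing B₀] [CommRing O] [IsLocalRing O]
    [IsNoetherianRing A₀] [IsNoetherianRing O] [Algebra A₀ B₀] [Module.Finite A₀ B₀] [Algebra A₀ O]
    (p : Ideal A₀) [hp : p.IsMaximal] [IsLocalization.AtPrime O p]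
    (hinj : Function.Injective (algebraMap A₀ B₀))
    (hres : ∀ q : Ideal B₀, q.IsPrime → q.comap (algebraMap A₀ B₀) = p → ∀ b : B₀, ∃ a : A₀,
      b - algebraMap A₀ B₀ a ∈ q)
    (hrad : ∀ b : B₀, (∀ q : Ideal B₀, q.IsPrime → q.comap (algebraMap A₀ B₀) = p → b ∈ q) →
      ∃ (a : A₀) (s : A₀), s ∉ p ∧ algebraMap A₀ B₀ s * b = algebraMap A₀ B₀ a)
    (hdvr : ∀ (q : Ideal B₀) (_ : q.IsPrime), q.comap (algebraMap A₀ B₀) = p →
      ∃ (_ : IsDomain (Localization.AtPrime q)), IsDiscreteValuationRing (Localization.AtPrime q))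

include hinj hres hrad hdvr

theorem alg (P Q : Ideal B₀) (hP : P.IsPrime) (hQ : Q.IsPrime) (hPp : P.comap (algebraMap A₀ B₀) = p)
    (hQp : Q.comap (algebraMap A₀ B₀) = p)
    (hall : ∀ N : Ideal B₀, N.IsPrime → N.comap (algebraMap A₀ B₀) = p → N = P ∨ N = Q) :
    (P = Q → IsRegularLocalRing O) ∧ (P ≠ Q → IsNodeLike O) := by
  let A := Localization (Algebra.algebraMapSubmonoid B₀ p.primeCompl)
  let _ : Algebra O A := localizationAlgebra p.primeCompl B₀
  have : IsScalarTower A₀ O A := isScalarTower_localizationAlgebra p.primeCompl B₀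
  have : Module.Finite O A := Module.Finite.of_isLocalization A₀ B₀ p.primeCompl
  have hB : IsNoetherianRing B₀ := IsNoetherianRing.of_finite A₀ B₀
  have hA : IsNoetherianRing A := IsLocalization.isNoetherianRing
    (Algebra.algebraMapSubmonoid B₀ p.primeCompl) A hB
  have h := MCLoc.mc_of (O := O) (A := A) p hinj hres hrad hdvr
  -- maximal ideals of `A`
  have hmax : ∀ q : Ideal B₀, ∀ (_ : q.IsPrime), q.comap (algebraMap A₀ B₀) = p →
      (q.map (algebraMap B₀ A)).IsMaximal ∧ (q.map (algebraMap B₀ A)).comap (algebraMap B₀ A) = q := by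
    intro q hq hqp
    have hdisj : Disjoint (Algebra.algebraMapSubmonoid B₀ p.primeCompl : Set B₀) q := by
      rw [Set.disjoint_left]
      rintro _ ⟨x, hx, rfl⟩ hxq
      apply hx
      rw [← hqp]
      exact hxq
    have hP := IsLocalization.isPrime_of_isPrime_disjoint _ A q hq hdisj
    have hPc : Ideal.comap (algebraMap B₀ A) (Ideal.map (algebraMap B₀ A) q) = q :=
      IsLocalization.under_map_of_isPrime_disjoint
        (Algebra.algebraMapSubmonoid B₀ p.primeCompl) A hq hdisj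
    have hPO : (q.map (algebraMap B₀ A)).comap (algebraMap O A) = maximalIdeal O := by
      apply le_antisymm
      · exact IsLocalRing.le_maximalIdeal (Ideal.comap_isPrime _ _).ne_top
      · rw [← IsLocalization.AtPrime.map_eq_maximalIdeal p O, Ideal.map_le_iff_le_comap]
        intro x hx
        rw [Ideal.mem_comap, Ideal.mem_comap, ← IsScalarTower.algebraMap_apply A₀ O A,
          IsScalarTower.algebraMap_apply A₀ B₀ A]
        apply Ideal.mem_map_of_mem
        rw [← hqp] at hx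
        exact hx
    exact ⟨Ideal.isMaximal_of_isIntegral_of_isMaximal_comap _ (by rw [hPO]; infer_instance), hPc⟩
  have hallA : ∀ N : Ideal A, N.IsMaximal → N = P.map (algebraMap B₀ A) ∨ N = Q.map (algebraMap B₀ A) := by
    intro N hN
    have h1 : (N.comap (algebraMap B₀ A)).comap (algebraMap A₀ B₀) = p :=
      MCLoc.comap_comap_max (O := O) p N (MCLoc.comap_max (O := O) p N hN)
    have h2 : (N.comap (algebraMap B₀ A)).map (algebraMap B₀ A) = N :=
      IsLocalization.map_under (Algebra.algebraMapSubmonoid B₀ p.primeCompl) A N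
    rcases hall _ (Ideal.comap_isPrime _ _) h1 with h3 | h3
    · left; rw [← h3, h2]
    · right; rw [← h3, h2]
  constructor
  · rintro rfl
    exact NodeTwo.regular_of_one h (hmax P hP hPp).1 (fun N hN => (hallA N hN).elim id id)
  · intro hne
    refine NodeTwo.isNodeLike_of_two h (hmax P hP hPp).1 (hmax Q hQ hQp).1 (fun he => hne ?_) hallA
    rw [← (hmax P hP hPp).2, ← (hmax Q hQ hQp).2, he]

end Alg

variable {k : Type u} [Field k] {Z Z' : Scheme.{u}} (f : Z ⟶ Spec (CommRingCat.of k))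
  (ν : Z' ⟶ Z)

/-- The geometric form. -/
theorem main [IsAlgClosed k] [LocallyOfFiniteType f] (V : Z.Opens) (hV : IsAffineOpen V)
    (hW : IsAffineOpen (ν ⁻¹ᵁ V)) (hfin : (ν.app V).hom.Finite) (hinj : Function.Injective (ν.app V))
    (z : Z) (hzV : z ∈ V) (hzc : IsClosed ({z} : Set Z))
    (hsec : ∀ σ : Γ(Z', ν ⁻¹ᵁ V),
      (∀ (x : Z') (hx : x ∈ ν ⁻¹ᵁ V), ν x = z → Z'.evaluation (ν ⁻¹ᵁ V) x hx σ = 0) →
        ∃ τ : Γ(Z, V), ν.app V τ = σ)
    (hdvr : ∀ x : Z', ν x = z → ∃ (_ : IsDomain (Z'.presheaf.stalk x)),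
      IsDiscreteValuationRing (Z'.presheaf.stalk x))
    (x₁ x₂ : Z') (h₁ : ν x₁ = z) (h₂ : ν x₂ = z) (hall : ∀ x : Z', ν x = z → x = x₁ ∨ x = x₂) :
    (x₁ = x₂ → IsRegularLocalRing (Z.presheaf.stalk z)) ∧ (x₁ ≠ x₂ → IsNodeLike (Z.presheaf.stalk z)) := by
  have hN : IsLocallyNoetherian Z := LocallyOfFiniteType.isLocallyNoetherian f
  let _ : Algebra Γ(Z, V) Γ(Z', ν ⁻¹ᵁ V) := (ν.app V).hom.toAlgebra
  let _ : Algebra Γ(Z, V) (Z.presheaf.stalk z) := Z.presheaf.algebra_section_stalk ⟨z, hzV⟩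
  let _ : Algebra k Γ(Z, V) :=
    ((f.appLE ⊤ V le_top).hom.comp (Scheme.ΓSpecIso (CommRingCat.of k)).inv.hom).toAlgebra
  have _ : Algebra.FiniteType k Γ(Z, V) := NodalGlueGeo.finiteType_section f V hV
  have _ : Module.Finite Γ(Z, V) Γ(Z', ν ⁻¹ᵁ V) := hfin
  have hloc : IsLocalization.AtPrime (Z.presheaf.stalk z) (hV.primeIdealOf ⟨z, hzV⟩).asIdeal :=
    hV.isLocalization_stalk ⟨z, hzV⟩
  have hpmax := Dix.ClosedAlg.isMaximal_primeIdealOf z hzc V hV hzV
  have hNA : IsNoetherianRing Γ(Z, V) := IsLocallyNoetherian.component_noetherian ⟨V, hV⟩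
  have hprime : ∀ x : Z', ∀ hx : ν x = z, ∀ hxV : x ∈ ν ⁻¹ᵁ V,
      (hW.primeIdealOf ⟨x, hxV⟩).asIdeal.comap (algebraMap Γ(Z, V) Γ(Z', ν ⁻¹ᵁ V)) =
        (hV.primeIdealOf ⟨z, hzV⟩).asIdeal := by
    intro x hx hxV
    subst hx
    have h1 := IsAffineOpen.comap_primeIdealOf_appLE V hV (ν ⁻¹ᵁ V) hW le_rfl hxV
    rw [Scheme.Hom.appLE_eq_app] at h1
    exact congr_arg PrimeSpectrum.asIdeal h1
  -- the primes over `p`
  have hq : ∀ q : Ideal Γ(Z', ν ⁻¹ᵁ V), ∀ hq : q.IsPrime,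
      q.comap (algebraMap Γ(Z, V) Γ(Z', ν ⁻¹ᵁ V)) = (hV.primeIdealOf ⟨z, hzV⟩).asIdeal →
      ∃ (x : Z') (hx : x ∈ ν ⁻¹ᵁ V), (hW.primeIdealOf ⟨x, hx⟩).asIdeal = q ∧ ν x = z := by
    intro q hq hqp
    obtain ⟨⟨x, hx⟩, hxq⟩ := Sga67.BlowReg.exists_primeIdealOf_eq hW ⟨q, hq⟩
    have hxq' : (hW.primeIdealOf ⟨x, hx⟩).asIdeal = q := congrArg PrimeSpectrum.asIdeal hxq
    refine ⟨x, hx, hxq', ?_⟩
    have h1 := IsAffineOpen.comap_primeIdealOf_appLE V hV (ν ⁻¹ᵁ V) hW le_rfl hx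
    rw [Scheme.Hom.appLE_eq_app] at h1
    have h2 := congr_arg PrimeSpectrum.asIdeal h1
    have h3 : (hV.primeIdealOf ⟨ν x, hx⟩).asIdeal = (hV.primeIdealOf ⟨z, hzV⟩).asIdeal := by
      rw [← hqp, ← hxq']
      exact h2.symm
    have h4 := PrimeSpectrum.ext h3
    have h5 := congrArg hV.fromSpec h4
    rwa [hV.fromSpec_primeIdealOf, hV.fromSpec_primeIdealOf] at h5
  have hx₁V : x₁ ∈ ν ⁻¹ᵁ V := by change ν x₁ ∈ V; rw [h₁]; exact hzV
  have hx₂V : x₂ ∈ ν ⁻¹ᵁ V := by change ν x₂ ∈ V; rw [h₂]; exact hzV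
  have key := alg (A₀ := Γ(Z, V)) (B₀ := Γ(Z', ν ⁻¹ᵁ V)) (O := Z.presheaf.stalk z)
    (hV.primeIdealOf ⟨z, hzV⟩).asIdeal hinj ?_ ?_ ?_ (hW.primeIdealOf ⟨x₁, hx₁V⟩).asIdeal
    (hW.primeIdealOf ⟨x₂, hx₂V⟩).asIdeal inferInstance inferInstance (hprime x₁ h₁ hx₁V) (hprime x₂ h₂ hx₂V) ?_
  · constructor
    · rintro rfl
      exact key.1 rfl
    · intro hne
      refine key.2 fun he => hne ?_
      have h3 := PrimeSpectrum.ext he
      have h4 := congrArg hW.fromSpec h3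
      rwa [hW.fromSpec_primeIdealOf, hW.fromSpec_primeIdealOf] at h4
  · intro q hqP hqp b
    exact NodalGlueGeo.exists_const_mod (k := k) (hV.primeIdealOf ⟨z, hzV⟩).asIdeal q hqp b
  · intro b hb
    obtain ⟨τ, hτ⟩ := hsec b (by
      intro x hx hxz
      rw [← Scheme.germ_residue]
      change residue _ (Z'.presheaf.germ (ν ⁻¹ᵁ V) x hx b) = 0
      rw [residue_eq_zero_iff, Dix.ClosedAlg.germ_mem_maximalIdeal_iff x (ν ⁻¹ᵁ V) hW hx]
      exact hb _ inferInstance (hprime x hxz hx))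
    refine ⟨τ, 1, (Ideal.ne_top_iff_one _).1 hpmax.ne_top, ?_⟩
    rw [map_one, one_mul]
    exact hτ.symm
  · intro q hqP hqp
    obtain ⟨x, hx, rfl, hxz⟩ := hq q hqP hqp
    obtain ⟨h1, h2⟩ := hdvr x hxz
    have e := Sga67.BlowReg.stalkEquiv hW hx
    have hd := e.toMulEquiv.isDomain (B := Z'.presheaf.stalk x)
    exact ⟨hd, _root_.IsDiscreteValuationRing.RingEquivClass.isDiscreteValuationRing e.symm⟩
  · intro q hqP hqp
    obtain ⟨x, hx, rfl, hxz⟩ := hq q hqP hqp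
    rcases hall x hxz with rfl | rfl
    · exact Or.inl rfl
    · exact Or.inr rfl

end K897.GlueTwo
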