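import Mathlib.AlgebraicGeometry.ZariskisMainTheorem
import Groth.Agent.CurvSt.K897.NodeCross
import Groth.Agent.CurvSt.K897.GlueTwo
import Groth.Agent.CurvSt.K897.GlueSec
import Groth.Agent.Models.H58.NodalGlue
import Groth.Agent.Dix.SteinNorm
import Groth.Agent.CurvesC.Dim1Top

/-!
# Contractions of curves: generalities

`c : X ⟶ Y` a morphism from a curve `X` with `O_Y = c_* O_X`.  `conE c` is the union of the contracted components,
`conD c` the union of the other components.
-/

set_option autoImplicit false
universe u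
open CategoryTheory CategoryTheory.Limits AlgebraicGeometry TopologicalSpace IsLocalRing

namespace K897.Contract

open Groth.Agent UnionTop NodeCross

variable {X Y : Scheme.{u}} (c : X ⟶ Y)

/-- contracted components -/
def IsCon (C : Set X) : Prop := ∃ y : Y, C ⊆ c ⁻¹' {y}

/-- the union of the contracted components -/
def conE : Set X := ⋃₀ {C | C ∈ irreducibleComponents (X : Type u) ∧ IsCon c C}

/-- the union of the noncontracted components -/
def conD : Set X := ⋃₀ {C | C ∈ irreducibleComponents (X : Type u) ∧ ¬ IsCon c C}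

theorem isUnion_conE : IsUnion (conE c) := isUnion_sUnion fun _ h => h.1

theorem isUnion_conD : IsUnion (conD c) := isUnion_sUnion fun _ h => h.1

section Noeth

variable [IsNoetherian X]

theorem conE_eq : conE c = closure (conD c)ᶜ := by
  rw [closure_compl (isUnion_conD c).isClosed]
  unfold conE
  congr 1
  ext C
  constructor
  · rintro ⟨hC, h⟩
    refine ⟨hC, fun h' => ?_⟩
    exact (mem_of_subset_sUnion (fun C hC => hC.1) hC h').2 h
  · rintro ⟨hC, h⟩
    refine ⟨hC, ?_⟩
    by_contra h'
    exact h (Set.subset_sUnion_of_mem ⟨hC, h'⟩)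

theorem finite_image_conE : (c '' conE c).Finite := by
  have hfin : {C | C ∈ irreducibleComponents (X : Type u) ∧ IsCon c C}.Finite :=
    NoetherianSpace.finite_irreducibleComponents.subset fun D hD => hD.1
  rw [conE, Set.sUnion_eq_biUnion, Set.image_iUnion₂]
  refine hfin.biUnion fun C hC => ?_
  obtain ⟨y, hy⟩ := hC.2
  exact (Set.finite_singleton y).subset (by rintro _ ⟨x, hx, rfl⟩; exact hy hx)

/-- the image of a contracted component is a closed point -/
theorem isClosed_of_mem_image (hcl : IsClosedMap c) {y : Y} (hy : y ∈ c '' conE c) : IsClosed ({y} : Set Y) := by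
  obtain ⟨x, ⟨C, ⟨hC, y', hy'⟩, hxC⟩, rfl⟩ := hy
  have h1 : c '' C = {c x} := by
    apply Set.Subset.antisymm
    · rintro _ ⟨z, hz, rfl⟩
      rw [Set.mem_singleton_iff, (hy' hz : c z = y'), (hy' hxC : c x = y')]
    · rintro _ rfl
      exact ⟨x, hxC, rfl⟩
  rw [← h1]
  exact hcl _ (isClosed_of_mem_irreducibleComponents C hC)

/-- A noncontracted component has finite intersection with the fibres. -/
theorem finite_fibre_component (hcl : IsClosedMap c) (hdim : topologicalKrullDim X ≤ 1) {C : Set X}
    (hC : C ∈ irreducibleComponents (X : Type u)) (h : ¬ IsCon c C) (y : Y) : (C ∩ c ⁻¹' {y}).Finite := by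
  have hCc : IsClosed C := isClosed_of_mem_irreducibleComponents C hC
  have hemb : Topology.IsClosedEmbedding (Subtype.val : C → X) := hCc.isClosedEmbedding_subtypeVal
  have : IrreducibleSpace C := isIrreducible_iff_irreducibleSpace.mp hC.1
  have : QuasiSober C := hemb.quasiSober
  have : NoetherianSpace C := inferInstance
  have hdC : topologicalKrullDim C ≤ 1 := (topologicalKrullDim_subspace_le X C).trans hdim
  by_cases hy : IsClosed ({y} : Set Y)
  · have hZ : IsClosed (Subtype.val ⁻¹' (c ⁻¹' {y}) : Set C) :=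
      (hy.preimage c.continuous).preimage continuous_subtype_val
    have hne : (Subtype.val ⁻¹' (c ⁻¹' {y}) : Set C) ≠ Set.univ := by
      intro h1
      apply h
      refine ⟨y, fun x hx => ?_⟩
      have : (⟨x, hx⟩ : C) ∈ (Subtype.val ⁻¹' (c ⁻¹' {y}) : Set C) := by rw [h1]; trivial
      exact this
    have h2 := (CurvesC.Dim1Top.finite_of_isClosed hdC hZ hne).image Subtype.val
    rwa [Set.image_preimage_eq_inter_range, Subtype.range_coe, Set.inter_comm] at h2
  · obtain ⟨ξ, hξ⟩ := QuasiSober.sober hC.1 hCc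
    refine (Set.finite_singleton ξ).subset ?_
    rintro x ⟨hxC, hxy⟩
    by_contra hne
    apply hy
    have h1 : IsClosed ({x} : Set X) := by
      have hsub : closure ({x} : Set X) ⊆ C := hCc.closure_subset_iff.2 (Set.singleton_subset_iff.2 hxC)
      have hne' : (Subtype.val ⁻¹' closure ({x} : Set X) : Set C) ≠ Set.univ := by
        intro h2
        apply hne
        have h3 : C ⊆ closure {x} := fun z hz => by
          have : (⟨z, hz⟩ : C) ∈ (Subtype.val ⁻¹' closure ({x} : Set X) : Set C) := by rw [h2]; trivial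
          exact this
        have h4 : closure ({x} : Set X) = C := Set.Subset.antisymm hsub h3
        have h5 : IsGenericPoint x C := h4
        exact h5.eq hξ
      have h2 := CurvesC.Dim1Top.isClosed_singleton_of_mem hdC (isClosed_closure.preimage continuous_subtype_val) hne'
        (z := ⟨x, hxC⟩) (subset_closure rfl)
      have h3 := hemb.isClosedMap _ h2
      rwa [Set.image_singleton] at h3
    have h2 := hcl _ h1
    rw [Set.image_singleton] at h2
    rwa [(hxy : c x = y)] at h2

theorem finite_fibre_conD (hcl : IsClosedMap c) (hdim : topologicalKrullDim X ≤ 1) (y : Y) :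
    (conD c ∩ c ⁻¹' {y}).Finite := by
  have hfin : {C | C ∈ irreducibleComponents (X : Type u) ∧ ¬ IsCon c C}.Finite :=
    NoetherianSpace.finite_irreducibleComponents.subset fun D hD => hD.1
  rw [conD, Set.sUnion_eq_biUnion, Set.iUnion₂_inter]
  exact hfin.biUnion fun C hC => finite_fibre_component c hcl hdim hC.1 hC.2 y

/-- the restriction of `c` to a closed subscheme supported on noncontracted components is finite -/
theorem isFinite [IsProper c] (hdim : topologicalKrullDim X ≤ 1) (J : X.IdealSheafData)
    (hJ : (J.support : Set X) = conD c) : IsFinite (J.subschemeι ≫ c) := by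
  have : LocallyQuasiFinite (J.subschemeι ≫ c) := by
    refine LocallyQuasiFinite.of_finite_preimage_singleton _ fun y => ?_
    have h1 := finite_fibre_conD c c.isClosedMap hdim y
    have h2 : (J.subschemeι ≫ c) ⁻¹' {y} = J.subschemeι ⁻¹' (conD c ∩ c ⁻¹' {y}) := by
      ext z
      simp only [Set.mem_preimage, Set.mem_inter_iff, Scheme.Hom.comp_apply, Set.mem_singleton_iff]
      constructor
      · intro h
        refine ⟨?_, h⟩
        rw [← hJ, ← Scheme.IdealSheafData.range_subschemeι]
        exact ⟨z, rfl⟩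
      · exact fun h => h.2
    rw [h2]
    exact h1.preimage J.subschemeι.isClosedEmbedding.injective.injOn
  exact IsFinite.of_isProper_of_locallyQuasiFinite _

end Noeth

section Push

variable (hO : ∀ V : Y.Opens, IsIso (c.app V))

include hO

theorem surjective (hcl : IsClosedMap c) : Function.Surjective c := by
  have hr : IsClosed (Set.range c) := hcl.isClosed_range
  by_contra hcon
  obtain ⟨y, hy⟩ := not_forall.1 hcon
  have hy' : y ∉ Set.range c := hy
  let V : Y.Opens := ⟨(Set.range c)ᶜ, hr.isOpen_compl⟩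
  have hV : c ⁻¹ᵁ V = ⊥ := by
    ext x
    simp only [Opens.coe_bot, Set.mem_empty_iff_false, iff_false]
    exact fun h => h ⟨x, rfl⟩
  have h1 : Subsingleton Γ(X, c ⁻¹ᵁ V) := by rw [hV]; infer_instance
  have h2 : Function.Injective (c.app V) :=
    (ConcreteCategory.bijective_of_isIso (c.app V)).1
  have h3 : (1 : Γ(Y, V)) = 0 := h2 (Subsingleton.elim _ _)
  have hyV : y ∈ V := hy'
  have h4 := congrArg (Y.presheaf.germ V y hyV) h3
  rw [map_one, map_zero] at h4
  exact one_ne_zero h4

/-- `c` is an isomorphism near the points with finite fibres. -/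
theorem exists_isIso [IsProper c] (y : Y) (hy : (c ⁻¹' {y}).Finite) : ∃ V : Y.Opens, y ∈ V ∧ IsIso (c ∣_ V) := by
  obtain ⟨V, hyV, hV⟩ := exists_isFinite_morphismRestrict_of_finite_preimage_singleton c y hy
  obtain ⟨W, hW, hyW, hWV⟩ := exists_isAffineOpen_mem_and_subset (U := V) (x := y) hyV
  refine ⟨W, hyW, Dix.SteinNorm.isIso_restrict_of_isIso_app c hW ?_ (hO W)⟩
  have hWV' : W ≤ V := hWV
  have h1 : IsAffineOpen (V.ι ⁻¹ᵁ W) := hW.preimage_of_isOpenImmersion V.ι (by simpa using hWV')
  have h2 := h1.preimage (c ∣_ V)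
  have h3 := h2.image_of_isOpenImmersion (c ⁻¹ᵁ V).ι
  have h4 : (c ⁻¹ᵁ V).ι ''ᵁ ((c ∣_ V) ⁻¹ᵁ (V.ι ⁻¹ᵁ W)) = c ⁻¹ᵁ W := by
    rw [← Scheme.Hom.comp_preimage, morphismRestrict_ι, Scheme.Hom.comp_preimage,
      Scheme.Hom.image_preimage_eq_opensRange_inf, Scheme.Opens.opensRange_ι]
    exact inf_eq_right.2 (c.preimage_mono hWV')
  rwa [h4] at h3

omit hO in
theorem isIso_stalkMap {V : Y.Opens} [IsIso (c ∣_ V)] (x : X) (hx : c x ∈ V) : IsIso (c.stalkMap x) := by
  have h1 : IsIso ((c ∣_ V).stalkMap ⟨x, hx⟩) := inferInstance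
  have h2 := (MorphismProperty.isomorphisms CommRingCat).arrow_mk_iso_iff
    (morphismRestrictStalkMap c V ⟨x, hx⟩)
  exact h2.1 h1

end Push

end K897.Contract
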