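import Groth.Agent.CurvSt.K897.DegUnion
import Groth.Agent.CurvSt.K897.Contract
import Groth.Agent.CurvSt.K897.ContractComp
import Groth.Agent.ArSurf.K479.SecTriv
import Groth.Agent.Ega2.SecCalc
import Groth.Agent.S1530

/-!
# The components contracted by the morphism defined by sections of an invertible module

`c : X ⟶ Y`, `N` invertible with sections `s_j` such that `genLocus N (s_j) = c⁻¹(V_j)` with `V_j` affine covering `Y`.
Then `c` contracts exactly the components on which `N` has degree zero; on the others the degree is positive.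
-/

set_option autoImplicit false
universe u
open CategoryTheory CategoryTheory.Limits AlgebraicGeometry TopologicalSpace Opposite

namespace K897.ContractCrit

open Groth.Agent Contract DegUnion ContractComp
open Groth.Agent.CurvesC Groth.Agent.CurvesC.CurveNum Groth.Agent.CurvesC.TailNum Groth.Agent.CurvesC.TailGeom

attribute [local instance] subOver

/-- An invertible module with sections having affine generating loci which cover is ample. -/
theorem isAmple {Z : Scheme.{u}} [CompactSpace Z] {N : Z.Modules} (hN : PicF.IsInvertible N) {J : Type*}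
    (s : J → (Coh.structureModule Z ⟶ N)) (hcov : ∀ z : Z, ∃ j, z ∈ CohB1.genLocus N (s j))
    (haff : ∀ j, IsAffineOpen (CohB1.genLocus N (s j))) : CohB1.IsAmple N := by
  refine ⟨hN, inferInstance, fun z => ?_⟩
  obtain ⟨j, hj⟩ := hcov z
  have h := Ega2.SecCalc.genLocus_comp (s j) (Ega2.Tens.lunit N).inv
  exact ⟨0, s j ≫ (Ega2.Tens.lunit N).inv, h.symm ▸ hj, h.symm ▸ haff j⟩

variable (k : Type u) [Field k] (X : Scheme.{u}) [X.Over (Spec (CommRingCat.of k))]
  [IsProper (X ↘ (Spec (CommRingCat.of k)))]
  {Y : Scheme.{u}} (c : X ⟶ Y) {N : X.Modules} (hN : PicF.IsInvertible N) {J : Type*}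
  (s : J → (Coh.structureModule X ⟶ N)) (V : J → Y.Opens) (hcov : ⨆ j, V j = ⊤)
  (hV : ∀ j, IsAffineOpen (V j)) (hs : ∀ j, c ⁻¹ᵁ V j = CohB1.genLocus N (s j))

include hN hcov hs in
theorem cdeg_eq_zero {C : Set X} (hC : C ∈ irreducibleComponents (X : Type u)) (hcon : IsCon c C) :
    cdeg k X N C hC = 0 := by
  obtain ⟨y, hy⟩ := hcon
  obtain ⟨j, hj⟩ : ∃ j, y ∈ V j := by
    have h : y ∈ (⨆ j, V j : Y.Opens) := by rw [hcov]; trivial
    simpa using h
  obtain ⟨e⟩ := K479.SecTriv.nonempty_iso_of_range (compIdeal C hC).subschemeι hN (s j) (by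
    rw [range_comp]
    intro x hx
    rw [← hs j]
    have h1 : c x = y := hy hx
    change c x ∈ V j
    rw [h1]
    exact hj)
  rw [cdeg, DegIso.deg_congr k e]
  unfold Curv2.deg
  simp [Coh.structureModule]

include hN hcov hs hV in
theorem cdeg_pos [IsProper c] (hdim : topologicalKrullDim X = 1) {C : Set X}
    (hC : C ∈ irreducibleComponents (X : Type u)) (hC1 : topologicalKrullDim C = 1)
    (hcon : ¬ IsCon c C) : 0 < cdeg k X N C hC := by
  have hNo : IsNoetherian X := VarietyB.DegFin.isNoetherian_of_isProper k X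
  have hint : IsIntegral (compIdeal C hC).subscheme := CompGeom.isIntegral_C X C hC
  have hP : IsProper ((compIdeal C hC).subscheme ↘ Spec (CommRingCat.of k)) :=
    inferInstanceAs (IsProper ((compIdeal C hC).subschemeι ≫ (X ↘ (Spec (CommRingCat.of k)))))
  have hfin := isFinite_comp X c hdim.le hC hcon
  have hd1 : topologicalKrullDim (compIdeal C hC).subscheme = 1 := by
    rw [← VarietyB.DegComp.topologicalKrullDim_range_eq (compIdeal C hC).subschemeι, range_comp]
    exact hC1
  have hcs : CompactSpace (compIdeal C hC).subscheme :=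
    QuasiCompact.compactSpace_of_compactSpace ((compIdeal C hC).subscheme ↘ Spec (CommRingCat.of k))
  have hg : ∀ j, CohB1.genLocus _ (Fdesc.LocGen.pullHom (compIdeal C hC).subschemeι (s j)) =
      ((compIdeal C hC).subschemeι ≫ c) ⁻¹ᵁ V j := fun j => by
    rw [Ega1.AmpFam.genLocus_pullHom _ hN, ← hs j]
    rfl
  refine (S1530.result k (compIdeal C hC).subscheme hd1 _ (Fdesc.LocGen.isInvertible_pullback _ hN)).1 ?_
  refine isAmple (Fdesc.LocGen.isInvertible_pullback _ hN)
    (fun j => Fdesc.LocGen.pullHom (compIdeal C hC).subschemeι (s j)) (fun z => ?_) fun j => ?_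
  · have h : ((compIdeal C hC).subschemeι ≫ c) z ∈ (⨆ j, V j : Y.Opens) := by rw [hcov]; trivial
    obtain ⟨j, hj⟩ := Opens.mem_iSup.1 h
    exact ⟨j, by rw [hg j]; exact hj⟩
  · rw [hg j]
    exact (hV j).preimage _

end K897.ContractCrit
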