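import Groth.Agent.CurvSt.K897.ContractStable
import Groth.Agent.CurvSt.K897.ContractCrit
import Groth.Agent.CurvesC.CanonGG

/-!
# Contractions defined by powers of the dualizing module are stable curves
-/

set_option autoImplicit false
universe u
open CategoryTheory CategoryTheory.Limits AlgebraicGeometry TopologicalSpace

namespace K897.StableOfPow

open Groth.Agent DegUnion ContractFibre Contract
open Groth.Agent.CurvesC Groth.Agent.CurvesC.CurveNum Groth.Agent.CurvesC.TailNum Groth.Agent.CurvesC.TailGeom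

attribute [local instance] subOver

variable (k : Type u) [Field k] (X : Scheme.{u}) [X.Over (Spec (CommRingCat.of k))]
  [IsProper (X ↘ (Spec (CommRingCat.of k)))]

theorem pos_of_mul_pos_left' {a b : ℤ} (h : 0 < a * b) (ha : 0 < a) : 0 < b := by
  by_contra hb
  have h1 : a * b ≤ 0 := mul_nonpos_of_nonneg_of_nonpos ha.le (not_lt.1 hb)
  omega

theorem isInvertible_of_iso {X : Scheme.{u}} {L M : X.Modules} (e : L ≅ M) (hL : PicF.IsInvertible L) :
    PicF.IsInvertible M := by
  rw [Fdesc.LocGen.isInvertible_iff] at hL ⊢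
  intro x
  obtain ⟨U, a, hx, ha⟩ := hL x
  exact ⟨U, _, hx, ha.app e.hom⟩

theorem cdeg_pow (hdim : topologicalKrullDim X = 1) {w N : X.Modules} (hw : PicF.IsInvertible w) (m : ℕ)
    (e : N ≅ CohB1.tensorPow w m) (C : Set X) (hC : C ∈ irreducibleComponents (X : Type u)) :
    cdeg k X N C hC = m * cdeg k X w C hC := by
  have hd : topologicalKrullDim (compIdeal C hC).subscheme ≤ 1 := by
    rw [← hdim]
    exact (compIdeal C hC).subschemeι.isClosedEmbedding.isInducing.topologicalKrullDim_le
  rw [cdeg, cdeg, DegIso.deg_congr k ((Scheme.Modules.pullback (compIdeal C hC).subschemeι).mapIso e)]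
  exact CanonGG.deg_restrict_pow k X w hw (compIdeal C hC) hd m

variable [IsAlgClosed k] [ConnectedSpace X] [IsReduced X]
  {Y : Scheme.{u}} (fY : Y ⟶ Spec (CommRingCat.of k)) [IsProper fY] (c : X ⟶ Y) [IsProper c]

theorem isStablePtd (hdim : topologicalKrullDim X = 1) (hX : Curv2.AtWorstNodal k X) {w N : X.Modules}
    (hw : PicF.IsInvertible w) (hform : Form k X w) (hg : 2 ≤ Curv2.genus k X)
    (hO : ∀ V : Y.Opens, IsIso (c.app V)) (m : ℕ) (hm : 0 < m) (e : N ≅ CohB1.tensorPow w m)
    {J : Type*} (s : J → (Coh.structureModule X ⟶ N)) (V : J → Y.Opens) (hcov : ⨆ j, V j = ⊤)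
    (hV : ∀ j, IsAffineOpen (V j)) (hs : ∀ j, c ⁻¹ᵁ V j = CohB1.genLocus N (s j))
    (g : ℕ) (hgY : @Curv2.genus k _ Y ⟨fY⟩ = g) (hg2 : 2 ≤ g) (p : Fin 0 → Y) :
    CurvSt.IsStablePtd k Y fY g p := by
  have hN : IsNoetherian X := VarietyB.DegFin.isNoetherian_of_isProper k X
  have hNi : PicF.IsInvertible N := isInvertible_of_iso e.symm (Fdesc.LocGen.isInvertible_tensorPow hw m)
  have hm' : (0 : ℤ) < m := by exact_mod_cast hm
  refine ContractStable.isStablePtd k X fY c hdim hX w hw hform hg hO (fun C hC hcon => ?_)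
    (fun C hC hcon => ?_) g hgY hg2 p
  · have h1 := ContractCrit.cdeg_eq_zero k X c hNi s V hcov hs hC hcon
    rw [cdeg_pow k X hdim hw m e] at h1
    rcases mul_eq_zero.1 h1 with h2 | h2
    · omega
    · exact h2
  · have h1 := ContractCrit.cdeg_pos k X c hNi s V hcov hV hs hdim hC
      (TailMain.pure_of_connected X hdim C hC) hcon
    rw [cdeg_pow k X hdim hw m e] at h1
    exact pos_of_mul_pos_left' h1 hm'

end K897.StableOfPow
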