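import Groth.Agent.CurvSt.K898.ContrUniv
import Groth.Agent.S1367

/-!
# Acyclicity of a contraction from the vanishing of `H¹` of its fibres

`c : X ⟶ Y` proper with `O_Y = c_* O_X`, fibres of dimension at most one with `H¹(X_y, O) = 0`, `X` and `Y` flat over an
affine base: then `c` is universally acyclic over the base (`K898.ContrUniv.AcycAt`).
-/

set_option autoImplicit false
universe u
open CategoryTheory CategoryTheory.Limits AlgebraicGeometry Opposite TopologicalSpace

namespace K897.SteinAcyc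

open Groth.Agent Groth.Agent.Flat2G K898.ContrUniv Groth.Agent.CohqA.CechE

variable {X Y S : Scheme.{u}}

theorem subsingleton_HHon (c : X ⟶ Y) [IsProper c] (hdim : ∀ y : Y, topologicalKrullDim ↥(c.fiber y) ≤ 1)
    (hH1 : ∀ y : Y, Subsingleton (Coh.HH (c.fiber y) (Coh.structureModule (c.fiber y)) 1))
    (W : Y.Opens) (hW : IsAffineOpen W) (n : ℕ) :
    Subsingleton (Coh.HHon X (Coh.structureModule X) (c ⁻¹ᵁ W) (n + 1)) := by
  have hq : Coh.IsQCoh (Coh.structureModule X) := CurvesC.UnitCoh.isQCoh_unit X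
  rcases Nat.eq_zero_or_pos n with rfl | hn
  · refine Flat2C.CechLocal.subsingleton_HHon_preimage_of_forall (Coh.structureModule X) c hW 0 fun y _ => ?_
    obtain ⟨T, hT, j, hj, X'', g', h, hpb, hyj, hd, h1⟩ := S1367.main c y (hdim y) (hH1 y)
    exact ⟨j.opensRange, isAffineOpen_opensRange j, hyj,
      (StructHH.HHon_preimage_iff hpb j.opensRange (Scheme.Hom.image_top_eq_opensRange j).symm 1).2 h1⟩
  · have hWa : IsAffine (W : Scheme.{u}) := hW
    have H := (isPullback_morphismRestrict c W).flip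
    have hp : IsProper (c ∣_ W) := MorphismProperty.of_isPullback (P := @IsProper) H inferInstance
    rw [StructHH.HHon_preimage_iff H W (by simp) (n + 1)]
    refine FibDimVanish.subsingleton_HH (c ∣_ W) 1 (fun t => ?_) _ (CurvesC.UnitCoh.isQCoh_unit _) (n + 1) (by lia)
    rw [ProperDim.topologicalKrullDim_fiber_baseChange c _ _ _ H t]
    exact hdim _

theorem acycAt (c : X ⟶ Y) (g : Y ⟶ S) [IsAffine S] [IsProper c] [Flat (c ≫ g)] [Flat g]
    (hO : ∀ V : Y.Opens, IsIso (c.app V)) (hdim : ∀ y : Y, topologicalKrullDim ↥(c.fiber y) ≤ 1)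
    (hH1 : ∀ y : Y, Subsingleton (Coh.HH (c.fiber y) (Coh.structureModule (c.fiber y)) 1)) (y : Y) :
    AcycAt c g y := by
  obtain ⟨W, hW, hyW, -⟩ := exists_isAffineOpen_mem_and_subset (X := Y) (x := y) (U := ⊤) trivial
  refine ⟨⊤, W, le_top, isAffineOpen_top S, hW, hyW, ⟨?_, fun n => ?_⟩, ?_, ?_⟩
  · exact (CohqA.ContrBij.bijective_restrict_iff c W).2 ((ConcreteCategory.isIso_iff_bijective _).1 (hO W))
  · have h := subsingleton_HHon c hdim hH1 W hW n
    exact (StructHH.HHon_preimage_iff (isPullback_morphismRestrict c W).flip W (by simp) (n + 1)).1 h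
  · have h1 : (c ∣_ W) ≫ g.resLE ⊤ W le_top = (c ≫ g).resLE ⊤ (c ⁻¹ᵁ W) le_top := by
      rw [← cancel_mono (⊤ : S.Opens).ι, Category.assoc, Scheme.Hom.resLE_comp_ι, Scheme.Hom.resLE_comp_ι,
        morphismRestrict_ι_assoc]
    rw [h1]
    infer_instance
  · infer_instance

/-- Base change of `O_Y = c_* O_X`. -/
theorem isIso_app (c : X ⟶ Y) (g : Y ⟶ S) [IsAffine S] [IsProper c] [Flat (c ≫ g)] [Flat g]
    (hO : ∀ V : Y.Opens, IsIso (c.app V)) (hdim : ∀ y : Y, topologicalKrullDim ↥(c.fiber y) ≤ 1)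
    (hH1 : ∀ y : Y, Subsingleton (Coh.HH (c.fiber y) (Coh.structureModule (c.fiber y)) 1))
    {S' X' Y' : Scheme.{u}} {b : S' ⟶ S} {g' : Y' ⟶ S'} {c' : X' ⟶ Y'} {pY : Y' ⟶ Y} {pX : X' ⟶ X}
    (hY : IsPullback pY g' g b) (hX : IsPullback pX c' c pY) (V : Y'.Opens) : IsIso (c'.app V) := by
  have hp : IsProper c' := MorphismProperty.of_isPullback (P := @IsProper) hX inferInstance
  exact isIso_app_of_acycAt (fun y' => acycAt_baseChange hY hX y' (acycAt c g hO hdim hH1 _)) V

end K897.SteinAcyc
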