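import Groth.Agent.CurvSt.K897.ModelFib
import Groth.Agent.CurvSt.K897.StableOfPow
import Groth.Agent.CurvSt.K897.GenusEq
import Groth.Agent.CurvSt.K897.SteinAcyc
import Groth.Agent.CurvSt.K897.FibreVan
import Groth.Agent.CurvSt.K897.FlatPush
import Groth.Agent.Ega3B.AcyclicBC

/-!
# The contraction of a nodal family defined by a power of the dualizing module is a stable family
-/

set_option autoImplicit false
universe u
open CategoryTheory CategoryTheory.Limits AlgebraicGeometry TopologicalSpace Opposite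

namespace K897.FamContr

open Groth.Agent ContractFibre ModelFib
open Fdesc.LocGen (pullHom)

variable {R : Type u} [CommRing R] [IsDomain R] [IsDiscreteValuationRing R] {X Y : Scheme.{u}}
  (c : X ⟶ Y) (q : Y ⟶ Spec (CommRingCat.of R)) [IsProper c] [IsProper q]

section Facts

variable (hO : ∀ V : Y.Opens, IsIso (c.app V)) (hp : Curv2.IsNodalFamily (c ≫ q)) {g : ℕ}
  (hgeo : K898.StabFam.GeoGenus g (c ≫ q))

include hO hp in
omit [IsProper c] [IsProper q] in
theorem flat : Flat q := by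
  have h1 : Flat (c ≫ q) := hp.1
  exact FlatPush.flat c q hO

include hgeo in
omit [IsDomain R] [IsDiscreteValuationRing R] in
theorem dim_fiber_le (y : Y) : topologicalKrullDim ↥(c.fiber y) ≤ 1 :=
  FibreVan.dim_fiber_le c q (q y) (K898.StabFam.dim_fiber (c ≫ q) hgeo (q y)).le y rfl

variable {L : X.Modules} (hL : PicF.IsInvertible L) (hvan : ∀ n : ℕ, 1 ≤ n → Subsingleton (Coh.HH X L n))

include hp hL hvan in
omit [IsDomain R] [IsDiscreteValuationRing R] in
theorem fiber_van (s : Spec (CommRingCat.of R)) : Subsingleton (Coh.HH ((c ≫ q).fiber s)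
      ((Scheme.Modules.pullback ((c ≫ q).fiberι s)).obj L) 1) := by
  have h1 : Flat (c ≫ q) := hp.1
  exact (Ega3B.AcyclicBC.acyclicBC (IsPullback.of_hasPullback (c ≫ q) ((Spec (CommRingCat.of R)).fromSpecResidueField s)) L
    (Ega2.QCohLocal.isQCoh_of_isInvertible hL) (Picfga.LiftFam.isFlatOver_of_isInvertible (c ≫ q) hL)
    fun n => hvan (n + 1) (by omega)).1 0

include hp hgeo hL hvan in
omit [IsDomain R] [IsDiscreteValuationRing R] in
theorem fibre_H1 {J : Type*} (s : J → (Coh.structureModule X ⟶ L)) (V : J → Y.Opens) (hcov : ⨆ j, V j = ⊤)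
    (hs : ∀ j, c ⁻¹ᵁ V j = CohB1.genLocus L (s j)) (y : Y) :
    Subsingleton (Coh.HH (c.fiber y) (Coh.structureModule (c.fiber y)) 1) := by
  have hy : y ∈ (⨆ j, V j : Y.Opens) := by rw [hcov]; trivial
  obtain ⟨j, hj⟩ := Opens.mem_iSup.1 hy
  refine FibreVan.fibre_H1 c q hL y (s j) ?_ (K898.StabFam.dim_fiber (c ≫ q) hgeo (q y)).le
    (fiber_van c q hp hL hvan (q y))
  rw [← hs j]
  intro x hx
  change c x ∈ V j
  rw [(hx : c x = y)]
  exact hj

end Facts

/-- **The contraction defined by a power of the dualizing module is a stable family.** -/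
theorem isStableFam (hO : ∀ V : Y.Opens, IsIso (c.app V)) (hp : Curv2.IsNodalFamily (c ≫ q)) {g : ℕ}
    (hg : 2 ≤ g) (hgeo : K898.StabFam.GeoGenus g (c ≫ q)) {w : X.Modules} (hw : PicF.IsInvertible w)
    (hform : OmegaProp (c ≫ q) w) (m : ℕ) (hm : 0 < m)
    (hvan : ∀ n : ℕ, 1 ≤ n → Subsingleton (Coh.HH X (CohB1.tensorPow w m) n))
    {J : Type*} (s : J → (Coh.structureModule X ⟶ CohB1.tensorPow w m)) (V : J → Y.Opens) (hcov : ⨆ j, V j = ⊤)
    (hV : ∀ j, IsAffineOpen (V j)) (hs : ∀ j, c ⁻¹ᵁ V j = CohB1.genLocus (CohB1.tensorPow w m) (s j))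
    (σ : Fin 0 → (Spec (CommRingCat.of R) ⟶ Y)) (hσ : ∀ i, σ i ≫ q = 𝟙 _) :
    CurvSt.IsStableFam q σ hσ g := by
  have hfl : Flat (c ≫ q) := hp.1
  have hflq : Flat q := flat c q hO hp
  have hLFP : LocallyOfFinitePresentation q := LocallyOfFinitePresentation.iff_locallyOfFiniteType.2 inferInstance
  have hL := Fdesc.LocGen.isInvertible_tensorPow hw m
  have hdim := dim_fiber_le c q hgeo
  have hH1 := fibre_H1 c q hp hgeo hL hvan s V hcov hs
  refine ⟨hflq, ‹_›, hLFP, fun Ω _ _ t Y' i' q' hP => ?_⟩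
  have hPX := IsPullback.of_hasPullback c i'
  set X' := pullback c i' with hX'
  set pX : X' ⟶ X := pullback.fst c i' with hpX
  set c' : X' ⟶ Y' := pullback.snd c i' with hc'
  have hPc : IsPullback pX (c' ≫ q') (c ≫ q) t := hPX.paste_vert hP
  have hpc' : IsProper c' := MorphismProperty.of_isPullback (P := @IsProper) hPX inferInstance
  have hpq' : IsProper q' := MorphismProperty.of_isPullback (P := @IsProper) hP inferInstance
  obtain ⟨hconn, hd, hn, hgen⟩ := hgeo Ω t X' pX (c' ≫ q') hPc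
  let _ : X'.Over (Spec (CommRingCat.of Ω)) := ⟨c' ≫ q'⟩
  have hpX' : IsProper (X' ↘ Spec (CommRingCat.of Ω)) := inferInstanceAs (IsProper (c' ≫ q'))
  have hred : IsReduced X' := CurvesC.GenusOne512.isReduced_of_atWorstNodal Ω X' hn
  have h0 : Module.finrank Ω (Coh.HH X' (Coh.structureModule X') 0) = 1 :=
    Groth.Agent.Models.H74.CohSide.finrank_HH_zero_eq_one Ω
  have hF := hform Ω t X' pX hPc hd h0 hn
  have hO' : ∀ W : Y'.Opens, IsIso (c'.app W) := fun W =>
    SteinAcyc.isIso_app c q hO hdim hH1 hP hPX W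
  obtain ⟨e⟩ := Ega3B.PullTensor.nonempty_pullPowIso pX hw m
  have hac : ∀ W : Y'.Opens, IsAffineOpen W → ∀ n : ℕ,
      Subsingleton (Coh.HHon X' (Coh.structureModule X') (c' ⁻¹ᵁ W) (n + 1)) := fun W hW n =>
    K898.ContrUniv.subsingleton_HHon_of_acycAt (g := q')
      (fun y' => K898.ContrUniv.acycAt_baseChange hP hPX y' (SteinAcyc.acycAt c q hO hdim hH1 _)) W hW n
  have hgY : @Curv2.genus Ω _ Y' ⟨q'⟩ = g := by
    let _ : Y'.Over (Spec (CommRingCat.of Ω)) := ⟨q'⟩
    exact (GenusEq.finrank_eq Ω c' rfl hO' hac 1).trans hgen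
  refine StableOfPow.isStablePtd Ω X' q' c' hd hn (Fdesc.LocGen.isInvertible_pullback pX hw) hF (hg.trans hgen.ge)
    hO' m hm e (fun j => pullHom pX (s j)) (fun j => i' ⁻¹ᵁ V j) ?_ (fun j => ?_) (fun j => ?_) g hgY hg _
  · rw [← Scheme.Hom.preimage_iSup, hcov]
    rfl
  · have : IsAffineHom t := inferInstance
    have : IsAffineHom i' := MorphismProperty.of_isPullback (P := @IsAffineHom) hP.flip inferInstance
    exact (hV j).preimage i'
  · rw [Ega1.AmpFam.genLocus_pullHom pX hL, ← hs j, ← Scheme.Hom.comp_preimage, ← Scheme.Hom.comp_preimage,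
      hPX.w]

end K897.FamContr
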