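import Groth.Agent.CurvSt.K898.StabFam
import Groth.Agent.Sga7.H591.GeoFib
import Groth.Agent.Models.H74.CurveBC
import Groth.Agent.Models.H74.CohSide
import Groth.Agent.Pi1.H536.GenusFam
import Groth.Agent.CurvesB.NodalQuot
import Groth.Agent.CurvesC.EulerHV
import Groth.Agent.S0458

/-!
# Geometric fibres of proper nodal models over a discrete valuation ring
-/

set_option autoImplicit false
universe u
open CategoryTheory CategoryTheory.Limits AlgebraicGeometry TopologicalSpace

namespace K897.GeoGen

open Groth.Agent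

theorem dim_eq_one {X : Scheme.{u}} [Nonempty X]
    (hpure : ∀ Z ∈ irreducibleComponents (X : Type u), topologicalKrullDim Z = 1) : topologicalKrullDim X = 1 := by
  apply le_antisymm
  · exact CurvesC.EulerHV.dim_le X hpure
  · obtain ⟨x⟩ := ‹Nonempty X›
    obtain ⟨Z, hZ, -⟩ := exists_mem_irreducibleComponents_subset_of_isIrreducible ({x} : Set X) isIrreducible_singleton
    rw [← hpure Z hZ]
    exact topologicalKrullDim_subspace_le X Z

/-- all geometric fibres of a proper flat family over a domain with geometrically integral generic fibre are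
connected -/
theorem connectedSpace_fibre (R K : Type u) [CommRing R] [IsDomain R] [IsLocalRing R] [Field K] [Algebra R K]
    [IsFractionRing R K] {X : Scheme.{u}} (p : X ⟶ Spec (CommRingCat.of R)) [IsProper p] [Flat p]
    [LocallyOfFinitePresentation p] {C : Scheme.{u}} (f : C ⟶ Spec (CommRingCat.of K)) (c : C ⟶ X)
    (h : IsPullback c f p (Spec.map (CommRingCat.ofHom (algebraMap R K)))) [GeometricallyIntegral f]
    {κ : Type u} [Field κ] [IsSepClosed κ] {Y : Scheme.{u}} (g : Y ⟶ Spec (CommRingCat.of κ)) (a : Y ⟶ X)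
    (t : Spec (CommRingCat.of κ) ⟶ Spec (CommRingCat.of R)) (hY : IsPullback a g p t) : ConnectedSpace Y := by
  let Ω := AlgebraicClosure K
  let w : Spec (CommRingCat.of Ω) ⟶ Spec (CommRingCat.of K) := Spec.map (CommRingCat.ofHom (algebraMap K Ω))
  let Z := pullback f w
  have hZ : IsIntegral Z := GeometricallyIntegral.geometrically_isIntegral w _ _ (IsPullback.of_hasPullback f w)
  have h1 := Flat2D.GeomFib.nGeomConnComp_eq p _ _ _ ((IsPullback.of_hasPullback f w).flip.paste_vert h.flip).flip
  have h2 : MoreMor.nGeomConnComp p ((w ≫ Spec.map (CommRingCat.ofHom (algebraMap R K)))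
      (IsLocalRing.closedPoint Ω)) ≤ 1 := by
    rw [← h1]
    exact Sga7.H591.GeoFib.card_of_connected
  have hgen : ∀ s : Spec (CommRingCat.of R), (w ≫ Spec.map (CommRingCat.ofHom (algebraMap R K)))
      (IsLocalRing.closedPoint Ω) ⤳ s := by
    intro s
    have h3 : (w ≫ Spec.map (CommRingCat.ofHom (algebraMap R K))) (IsLocalRing.closedPoint Ω) =
        (⊥ : PrimeSpectrum R) := by
      rw [Scheme.Hom.comp_apply]
      have h4 : w (IsLocalRing.closedPoint Ω) = (⊥ : PrimeSpectrum K) :=
        Subsingleton.elim (α := PrimeSpectrum K) _ _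
      rw [h4]
      apply PrimeSpectrum.ext
      change Ideal.comap (algebraMap R K) ⊥ = ⊥
      exact Ideal.comap_bot_of_injective _ (IsFractionRing.injective R K)
    rw [h3]
    exact (PrimeSpectrum.le_iff_specializes _ _).1 bot_le
  have h3 : ∀ s : Spec (CommRingCat.of R), MoreMor.nGeomConnComp p s ≤ 1 := by
    intro s
    by_contra hcon
    rw [not_le] at hcon
    have h4 := Groth.Agent.S1363.result p _ _ hcon
    obtain ⟨V, hV, hVo, hcV⟩ := eventually_nhds_iff.mp h4
    exact absurd h2 (not_le.mpr (hV _ ((hgen s).mem_open hVo hcV)))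
  have h5 := Flat2D.GeomFib.nGeomConnComp_eq p t a g hY
  have hne : Nonempty Y := by
    obtain ⟨z⟩ : Nonempty Z := inferInstance
    let x : X := (pullback.fst f w ≫ c) z
    have hcl : IsClosed (Set.range p) := p.isClosedMap.isClosed_range
    have hx : p x ⤳ t (IsLocalRing.closedPoint κ) := by
      have h6 : p x = (w ≫ Spec.map (CommRingCat.ofHom (algebraMap R K))) (IsLocalRing.closedPoint Ω) := by
        change ((pullback.fst f w ≫ c) ≫ p) z = _
        rw [Category.assoc, h.w, pullback.condition_assoc, Scheme.Hom.comp_apply]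
        congr 1
        exact Subsingleton.elim (α := PrimeSpectrum Ω) _ _
      rw [h6]
      exact hgen _
    obtain ⟨x', hx'⟩ : t (IsLocalRing.closedPoint κ) ∈ Set.range p := hx.mem_closed hcl ⟨x, rfl⟩
    obtain ⟨q, -, -⟩ := Scheme.Pullback.exists_preimage_pullback (f := p) (g := t) x'
      (IsLocalRing.closedPoint κ) hx'
    exact ⟨hY.isoPullback.inv q⟩
  exact Sga7.H591.GeoFib.connectedSpace_of_card (h5.le.trans (h3 _))

/-- **Geometric fibres of a proper nodal model.** -/
theorem geoGenus (R : Type u) [CommRing R] [IsDomain R] [IsDiscreteValuationRing R]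
    (C X : Scheme.{u}) (f : C ⟶ Spec (CommRingCat.of (FractionRing R))) (p : X ⟶ Spec (CommRingCat.of R))
    (hC : Curve.IsSmoothProperCurve (FractionRing R) C f) (hH0 : IsIso f.appTop) (gC : C ⟶ X)
    (hgC : IsPullback gC f p (Spec.map (CommRingCat.ofHom (algebraMap R (FractionRing R))))) [IsProper p]
    (hp : Curv2.IsNodalFamily p) :
    K898.StabFam.GeoGenus (Models.curveGenus (FractionRing R) C f) p := by
  intro Ω _ _ t X' i q' hP
  have h1 : Flat p := hp.1
  have h2 : LocallyOfFinitePresentation p := hp.2.1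
  have hgi : GeometricallyIntegral f := Models.H74.CurveBC.geometricallyIntegral f hC
  have hconn : ConnectedSpace X' := connectedSpace_fibre R (FractionRing R) p f gC hgC q' i t hP
  have hnf : Curv2.IsNodalFamily q' := Sga7.H591.GeoFib.isNodalFamily_of_isPullback p hp q' i t hP
  let _ : X'.Over (Spec (CommRingCat.of Ω)) := ⟨q'⟩
  have hpr : IsProper (X' ↘ Spec (CommRingCat.of Ω)) := MorphismProperty.of_isPullback hP ‹_›
  have hid : Spec.map (CommRingCat.ofHom (RingHom.id Ω)) = 𝟙 (Spec (CommRingCat.of Ω)) := Spec.map_id _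
  obtain ⟨hpure, hn⟩ := CurvesB.NodalQuot.atWorstNodal_of_surjective Ω X' q' hnf Ω (RingHom.id Ω)
    Function.surjective_id X' (𝟙 X') (by
      rw [hid]
      exact IsPullback.of_horiz_isIso ⟨by rw [Category.comp_id, Category.id_comp]; rfl⟩)
  have hdim := dim_eq_one hpure
  refine ⟨hconn, hdim, hn, ?_⟩
  have hred : IsReduced X' := CurvesC.GenusOne512.isReduced_of_atWorstNodal Ω X' hn
  have hN := CurvesC.CurveCoh.noetherianSpace Ω X'
  let _ : C.Over (Spec (CommRingCat.of (FractionRing R))) := ⟨f⟩
  have key := Pi1.H536.GenusFam.genus_eq p Ω t X' i hP (FractionRing R)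
    (Spec.map (CommRingCat.ofHom (algebraMap R (FractionRing R)))) C gC hgC
    (IsLocalRing.closedPoint Ω) (IsLocalRing.closedPoint (FractionRing R)) (by
      have h4 : (Spec.map (CommRingCat.ofHom (algebraMap R (FractionRing R))))
          (IsLocalRing.closedPoint (FractionRing R)) = (⊥ : PrimeSpectrum R) := by
        apply PrimeSpectrum.ext
        change Ideal.comap (algebraMap R (FractionRing R)) (IsLocalRing.maximalIdeal _) = ⊥
        rw [IsLocalRing.maximalIdeal_eq_bot]
        exact Ideal.comap_bot_of_injective _ (IsFractionRing.injective R (FractionRing R))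
      rw [h4]
      exact (PrimeSpectrum.le_iff_specializes _ _).1 bot_le)
    (Models.H74.CohSide.finrank_HH_zero_eq_one Ω)
    (fun n hn => by
      have := Groth.Agent.S0458.result 1 hdim.le (Coh.toAb (Coh.structureModule X')) n hn
      exact Module.finrank_zero_of_subsingleton)
  exact key.2.1.symm

end K897.GeoGen
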