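import Groth.Agent.CurvSt.K897.ContractFibre
import Groth.Agent.CurvesC.TailDeg
import Groth.Agent.CurvesC.DualIdeals
import Groth.Agent.Models.H56.Glue
import Groth.Agent.Models.H55.ExcCrit
import Groth.Agent.Models.H65.InterForm
import Groth.Agent.Models.H36.FibreFact
import Groth.Agent.Divis.ColonIdeal
import Groth.Agent.Divis.CartierStalk
import Groth.Agent.Picfga.ClosedMap

/-!
# Minimal regular models with reduced closed fibre have no rational tails
-/

set_option autoImplicit false
universe u
open CategoryTheory CategoryTheory.Limits AlgebraicGeometry TopologicalSpace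

namespace K897.NoTail

open Groth.Agent
open Groth.Agent.CurvesC Groth.Agent.CurvesC.CurveNum Groth.Agent.CurvesC.TailNum Groth.Agent.CurvesC.TailGeom
open Groth.Agent.Dix.InterNum Groth.Agent.Dix.InterSurf Groth.Agent.Divis.CartierBasic

attribute [local instance] subOver

variable {R : Type u} [CommRing R] [IsDomain R] [IsDiscreteValuationRing R] {X : Scheme.{u}}
  (p : X ⟶ Spec (CommRingCat.of R))
  {X₀ : Scheme.{u}} {i : X₀ ⟶ X} {q : X₀ ⟶ Spec (CommRingCat.of (IsLocalRing.ResidueField R))}

theorem ker_eq (hc : IsPullback i q p (Spec.map (CommRingCat.ofHom (IsLocalRing.residue R)))) :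
    i.ker = Models.specialFibreIdeal R (Over.mk p) := by
  have hcl : IsClosedImmersion (Spec.map (CommRingCat.ofHom (IsLocalRing.residue R))) :=
    IsClosedImmersion.spec_of_surjective _ IsLocalRing.residue_surjective
  rw [← hc.isoPullback_hom_fst, Scheme.Hom.ker_comp_of_isIso, Scheme.IdealSheafData.ker_fst_of_isClosedImmersion,
    Models.H56.Glue.ker_SpecMap, Models.specialFibreIdeal, IsLocalRing.ker_residue]
  rfl

theorem range_eq (hc : IsPullback i q p (Spec.map (CommRingCat.ofHom (IsLocalRing.residue R)))) :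
    Set.range i = Models.specialFibreSet R (Over.mk p) := by
  ext y
  constructor
  · rintro ⟨x, rfl⟩
    have h1 : (i ≫ p) x = (q ≫ Spec.map (CommRingCat.ofHom (IsLocalRing.residue R))) x := by rw [hc.w]
    change p (i x) = IsLocalRing.closedPoint R
    rw [← Scheme.Hom.comp_apply, h1, Scheme.Hom.comp_apply]
    have h2 : q x = IsLocalRing.closedPoint (IsLocalRing.ResidueField R) :=
      Subsingleton.elim (α := PrimeSpectrum (IsLocalRing.ResidueField R)) _ _
    rw [h2]
    exact IsLocalRing.comap_closedPoint (IsLocalRing.residue R)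
  · intro hy
    have hy' : p y = IsLocalRing.closedPoint R := hy
    obtain ⟨z, hz, -⟩ := Scheme.Pullback.exists_preimage_pullback (f := p)
      (g := Spec.map (CommRingCat.ofHom (IsLocalRing.residue R))) y
      (IsLocalRing.closedPoint (IsLocalRing.ResidueField R))
      (hy'.trans (IsLocalRing.comap_closedPoint (IsLocalRing.residue R)).symm)
    refine ⟨hc.isoPullback.inv z, ?_⟩
    rw [← Scheme.Hom.comp_apply, hc.isoPullback_inv_fst, hz]

/-- the component of the closed fibre as a vertical curve -/
noncomputable def comp (hc : IsPullback i q p (Spec.map (CommRingCat.ofHom (IsLocalRing.residue R))))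
    (hpure : ∀ Z ∈ irreducibleComponents (X₀ : Type u), topologicalKrullDim Z = 1)
    (C : Set X₀) (hC : C ∈ irreducibleComponents (X₀ : Type u)) : ArSurf.VertComp R (Over.mk p) where
  curve := Over.mk ((compIdeal C hC).subschemeι ≫ q)
  ι := (compIdeal C hC).subschemeι ≫ i
  isClosedImmersion := by
    have hcl : IsClosedImmersion (Spec.map (CommRingCat.ofHom (IsLocalRing.residue R))) :=
      IsClosedImmersion.spec_of_surjective _ IsLocalRing.residue_surjective
    have : IsClosedImmersion i := MorphismProperty.of_isPullback (P := @IsClosedImmersion) hc.flip hcl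
    infer_instance
  isIntegral := by
    have h1 := irreducible_comp C hC
    have h2 : IsReduced (compIdeal C hC).subscheme := Ega1.ReducedSub.isReduced_subscheme_vanishingIdeal _
    change IsIntegral (compIdeal C hC).subscheme
    exact isIntegral_of_irreducibleSpace_of_isReduced _
  dim_eq := by
    change topologicalKrullDim (compIdeal C hC).subscheme = 1
    rw [← VarietyB.DegComp.topologicalKrullDim_range_eq (compIdeal C hC).subschemeι, range_comp]
    exact hpure C hC
  w := by
    change ((compIdeal C hC).subschemeι ≫ i) ≫ p = ((compIdeal C hC).subschemeι ≫ q) ≫ _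
    rw [Category.assoc, Category.assoc, hc.w]

theorem isClosedImmersion (hc : IsPullback i q p (Spec.map (CommRingCat.ofHom (IsLocalRing.residue R)))) :
    IsClosedImmersion i := by
  have hcl : IsClosedImmersion (Spec.map (CommRingCat.ofHom (IsLocalRing.residue R))) :=
    IsClosedImmersion.spec_of_surjective _ IsLocalRing.residue_surjective
  exact MorphismProperty.of_isPullback (P := @IsClosedImmersion) hc.flip hcl

theorem range_comp_mem (hc : IsPullback i q p (Spec.map (CommRingCat.ofHom (IsLocalRing.residue R))))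
    (hpure : ∀ Z ∈ irreducibleComponents (X₀ : Type u), topologicalKrullDim Z = 1)
    (C : Set X₀) (hC : C ∈ irreducibleComponents (X₀ : Type u)) :
    Set.range ((comp p hc hpure C hC).ι.base : (comp p hc hpure C hC).curve.left → X) ∈
      Models.fibreComponents R (Over.mk p) := by
  have hcl := isClosedImmersion p hc
  have hr : Set.range ((comp p hc hpure C hC).ι.base : (comp p hc hpure C hC).curve.left → X) = i '' C := by
    have h1 : Set.range ((compIdeal C hC).subschemeι ≫ i) = i '' Set.range (compIdeal C hC).subschemeι := by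
      rw [← Set.range_comp]
      rfl
    rw [range_comp C hC] at h1
    exact h1
  rw [hr]
  refine ⟨⟨hC.1.image i i.continuous.continuousOn, ?_⟩, ?_⟩
  · rw [← range_eq p hc]
    exact Set.image_subset_range _ _
  · rintro S ⟨hS, hSs⟩ hCS
    rw [← range_eq p hc] at hSs
    have h1 : i '' (i ⁻¹' S) = S := Set.image_preimage_eq_of_subset hSs
    have h2 : IsIrreducible (i ⁻¹' S) := by
      refine ⟨?_, ?_⟩
      · obtain ⟨x, hx⟩ := hS.nonempty
        obtain ⟨y, rfl⟩ := hSs hx
        exact ⟨y, hx⟩
      · intro U V hU hV ⟨x, hx, hxU⟩ ⟨y, hy, hyV⟩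
        obtain ⟨U', hU', rfl⟩ := i.isClosedEmbedding.isInducing.isOpen_iff.1 hU
        obtain ⟨V', hV', rfl⟩ := i.isClosedEmbedding.isInducing.isOpen_iff.1 hV
        obtain ⟨z, hz, hzU, hzV⟩ := hS.2 U' V' hU' hV' ⟨i x, hx, hxU⟩ ⟨i y, hy, hyV⟩
        obtain ⟨w, rfl⟩ := hSs hz
        exact ⟨w, hz, hzU, hzV⟩
    have h3 : C ⊆ i ⁻¹' S := Set.image_subset_iff.1 hCS
    have h4 : i ⁻¹' S ⊆ C := hC.2 h2 h3
    rw [← h1]
    exact Set.image_mono h4

/-- the ideal of the complement on `X` -/
theorem map_compl [IsReduced X₀] [IsNoetherian X₀] (hc : IsPullback i q p (Spec.map (CommRingCat.ofHom (IsLocalRing.residue R))))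
    (C : Set X₀) (hC : C ∈ irreducibleComponents (X₀ : Type u)) {D : X.IdealSheafData}
    (hK : BlowUp.IsEffCartierIdeal ((compIdeal C hC).map i))
    (hKD : (compIdeal C hC).map i * D = Models.specialFibreIdeal R (Over.mk p)) :
    (complIdeal (compCloseds C hC)).map i = D := by
  have hcl := isClosedImmersion p hc
  have hker := ker_eq p hc
  -- reduce to affine opens on which `K` is principal
  have hloc : ∀ x : X, ∃ U : X.affineOpens, x ∈ U.1 ∧
      ∃ s ∈ nonZeroDivisors Γ(X, U.1), ((compIdeal C hC).map i).ideal U = Ideal.span {s} := hK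
  choose U hU s hs hsK using hloc
  refine Scheme.IdealSheafData.ext_of_iSup_eq_top (fun x : X => U x) ?_ fun x => ?_
  · rw [eq_top_iff]
    intro x _
    exact Opens.mem_iSup.2 ⟨x, hU x⟩
  have hsurj : Function.Surjective (i.app (U x).1) := i.app_surjective (U x).1 (U x).2
  let V : X₀.affineOpens := ⟨i ⁻¹ᵁ (U x).1, (U x).2.preimage i⟩
  have hm1 : ((complIdeal (compCloseds C hC)).map i).ideal (U x) =
      ((complIdeal (compCloseds C hC)).ideal V).comap (i.app (U x).1).hom :=
    Scheme.IdealSheafData.ideal_map_of_isAffineHom _ _ _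
  have hm2 : ((compIdeal C hC).map i).ideal (U x) = ((compIdeal C hC).ideal V).comap (i.app (U x).1).hom :=
    Scheme.IdealSheafData.ideal_map_of_isAffineHom _ _ _
  have hkerU : ∀ a : Γ(X, (U x).1), i.app (U x).1 a = 0 ↔
      a ∈ ((compIdeal C hC).map i).ideal (U x) * D.ideal (U x) := by
    intro a
    have h1 : i.ker.ideal (U x) = ((compIdeal C hC).map i).ideal (U x) * D.ideal (U x) := by
      rw [hker, ← hKD]
      rfl
    rw [← h1, Scheme.Hom.ker_apply]
    rfl
  rw [hm1]
  ext a
  rw [Ideal.mem_comap]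
  constructor
  · intro ha
    have h1 : a * s x ∈ ((compIdeal C hC).map i).ideal (U x) * D.ideal (U x) := by
      rw [← hkerU, map_mul, mul_comm]
      refine DualIdeals.mul_eq_zero (compCloseds C hC).isClosed V _ _ ?_ ha
      have h2 : s x ∈ ((compIdeal C hC).map i).ideal (U x) := by
        rw [hsK]
        exact Ideal.mem_span_singleton_self _
      rw [hm2] at h2
      exact h2
    rw [hsK, Ideal.mem_span_singleton_mul] at h1
    obtain ⟨d, hd, hda⟩ := h1
    have h2 : a = d := by
      have h3 : s x * (a - d) = 0 := by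
        rw [mul_sub, hda]
        ring
      exact sub_eq_zero.1 ((mem_nonZeroDivisors_iff.1 (hs x)).1 _ h3)
    rw [h2]
    exact hd
  · intro ha
    refine DualIdeals.mem_of_annJ (compCloseds C hC).isClosed V _ fun b hb => ?_
    obtain ⟨b', rfl⟩ := hsurj b
    have h1 : b' ∈ ((compIdeal C hC).map i).ideal (U x) := by
      rw [hm2]
      exact hb
    have h2 := (hkerU (b' * a)).2 (Ideal.mul_mem_mul h1 ha)
    rw [map_mul, mul_comm] at h2
    exact h2

theorem gp_notMem [IsReduced X₀] (hc : IsPullback i q p (Spec.map (CommRingCat.ofHom (IsLocalRing.residue R))))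
    [Flat p] (Γ : ArSurf.VertComp R (Over.mk p)) (hΓ : gp Γ ∈ Set.range i) {D : (Over.mk p).left.IdealSheafData}
    (hD : BlowUp.IsEffCartierIdeal D) (hKD : Γ.ι.ker * D = Models.specialFibreIdeal R (Over.mk p)) :
    gp Γ ∉ D.support := by
  have hcl := isClosedImmersion p hc
  have hflat : Flat (Over.mk p).hom := ‹Flat p›
  intro hmem
  obtain ⟨z, hz⟩ := hΓ
  have h0 : stalkIdeal Γ.ι.ker (gp Γ) = IsLocalRing.maximalIdeal _ :=
    Models.H36.FibreFact.stalkIdeal_ker_genPt Γ
  have h1 : stalkIdeal D (gp Γ) ≤ IsLocalRing.maximalIdeal _ := (mem_support_iff_stalkIdeal_le D _).1 hmem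
  have h2 : stalkIdeal i.ker (gp Γ) = IsLocalRing.maximalIdeal _ * stalkIdeal D (gp Γ) := by
    rw [ker_eq p hc, ← hKD, stalkIdeal_mul, h0]
  have h3 : (stalkIdeal i.ker (gp Γ)).IsRadical := by
    rw [← hz, ← Divis.CartierStalk.ker_stalkMap]
    have h5 : IsReduced X₀ := inferInstance
    exact RingHom.ker_isRadical_iff_reduced_of_surjective (i.stalkMap_surjective z) |>.2 inferInstance
  obtain ⟨g, hg, hgD⟩ := exists_stalkIdeal_eq_span hD (gp Γ)
  have h4 : stalkIdeal D (gp Γ) ≤ IsLocalRing.maximalIdeal ((Over.mk p).left.presheaf.stalk (gp Γ)) • stalkIdeal D (gp Γ) := by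
    rw [smul_eq_mul, ← h2]
    intro d hd
    refine h3 ⟨2, ?_⟩
    rw [h2, pow_two]
    exact Ideal.mul_mem_mul (h1 hd) hd
  have h6 := Submodule.eq_bot_of_le_smul_of_le_jacobson_bot _ (stalkIdeal D (gp Γ))
    (by rw [hgD]; exact Submodule.fg_span_singleton g) h4 (IsLocalRing.maximalIdeal_le_jacobson _)
  rw [hgD, Ideal.span_singleton_eq_bot] at h6
  rw [h6] at hg
  exact one_ne_zero ((mem_nonZeroDivisors_iff.1 hg).1 (1 : (Over.mk p).left.presheaf.stalk (gp Γ)) (zero_mul _))

theorem hz_eq [IsReduced X₀] [IsNoetherian X₀] (hc : IsPullback i q p (Spec.map (CommRingCat.ofHom (IsLocalRing.residue R))))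
    (hpure : ∀ Z ∈ irreducibleComponents (X₀ : Type u), topologicalKrullDim Z = 1)
    (C : Set X₀) (hC : C ∈ irreducibleComponents (X₀ : Type u)) {D : (Over.mk p).left.IdealSheafData}
    (hK : BlowUp.IsEffCartierIdeal (comp p hc hpure C hC).ι.ker)
    (hKD : (comp p hc hpure C hC).ι.ker * D = Models.specialFibreIdeal R (Over.mk p)) :
    hz (comp p hc hpure C hC) D =
      h0 ((compIdeal C hC ⊔ complIdeal (compCloseds C hC)).subschemeι ≫ q) := by
  have hcl := isClosedImmersion p hc
  have h1 : (complIdeal (compCloseds C hC)).map i = D := map_compl p hc C hC hK hKD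
  have h2 : D.comap i = complIdeal (compCloseds C hC) := by
    rw [← h1]
    exact Picfga.ClosedMap.comap_map i _
  have h3 : D.comap ((compIdeal C hC).subschemeι ≫ i) =
      (complIdeal (compCloseds C hC)).comap (compIdeal C hC).subschemeι := by
    rw [Scheme.IdealSheafData.comap_comp, h2]
  have hker : ((D.comap ((compIdeal C hC).subschemeι ≫ i)).subschemeι ≫ (compIdeal C hC).subschemeι).ker =
      (compIdeal C hC ⊔ complIdeal (compCloseds C hC)).subschemeι.ker := by
    rw [h3, Scheme.IdealSheafData.ker_subschemeι]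
    change ((complIdeal (compCloseds C hC)).comap (compIdeal C hC).subschemeι).map
      (compIdeal C hC).subschemeι = _
    rw [map_comap_of_closed, Scheme.IdealSheafData.ker_subschemeι]
  obtain ⟨e, he⟩ := exists_iso_of_ker_eq _ _ hker
  have he2 : e.hom ≫ (compIdeal C hC ⊔ complIdeal (compCloseds C hC)).subschemeι ≫ q =
      (D.comap ((compIdeal C hC).subschemeι ≫ i)).subschemeι ≫ (compIdeal C hC).subschemeι ≫ q := by
    rw [← Category.assoc, he, Category.assoc]
  exact h0_congr _ _ e he2

/-- **A regular proper model with reduced closed fibre and no exceptional curves has no rational tails.** -/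
theorem not_isRationalTail [IsProper p] [Flat p] [IsReduced X₀]
    (hc : IsPullback i q p (Spec.map (CommRingCat.ofHom (IsLocalRing.residue R))))
    (hpure : ∀ Z ∈ irreducibleComponents (X₀ : Type u), topologicalKrullDim Z = 1)
    (hreg : Models.IsRegularScheme X) (hexc : ∀ Γ : ArSurf.VertComp R (Over.mk p), ¬ Models.IsExcCurve Γ.ι)
    (C : Set X₀) (hC : C ∈ irreducibleComponents (X₀ : Type u)) : ¬ Curv2.IsRationalTail X₀ C hC := by
  intro ht
  let k := IsLocalRing.ResidueField R
  let _ : X₀.Over (Spec (CommRingCat.of k)) := ⟨q⟩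
  have hq : IsProper (X₀ ↘ Spec (CommRingCat.of k)) := MorphismProperty.of_isPullback hc ‹IsProper p›
  have hN0 : IsNoetherian X₀ := VarietyB.DegFin.isNoetherian_of_isProper k X₀
  have hNX : IsLocallyNoetherian X := LocallyOfFiniteType.isLocallyNoetherian p
  have hNX' : IsLocallyNoetherian (Over.mk p).left := hNX
  have hflat : Flat (Over.mk p).hom := ‹Flat p›
  have hprop : IsProper (Over.mk p).hom := ‹IsProper p›
  have hcl := isClosedImmersion p hc
  obtain ⟨h1, h2⟩ := TailDeg.tail_numbers k C hC ht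
  let Γ := comp p hc hpure C hC
  have hK : BlowUp.IsEffCartierIdeal Γ.ι.ker :=
    Models.H36.FibreFact.isEffCartier_ker hreg Γ (range_comp_mem p hc hpure C hC)
  have hP : BlowUp.IsEffCartierIdeal (Models.specialFibreIdeal R (Over.mk p)) :=
    Models.H36.FibreFact.isEff_specialFibreIdeal
  have hPK : Models.specialFibreIdeal R (Over.mk p) ≤ Γ.ι.ker := by
    rw [← ker_eq p hc]
    exact Scheme.Hom.le_ker_comp (compIdeal C hC).subschemeι i
  obtain ⟨D, hD, hKD⟩ := Divis.ColonIdeal.exists_mul_eq hK hP hPK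
  obtain ⟨M, hM, ⟨e⟩⟩ := Grpsch.PicGrp.exists_inverse (Dix.IdealModCartier.isInvertible_idealMod hK)
  have hL : ClSub.IsInverseOf M (ClSub.idealMod Γ.ι.ker) := ⟨Ega2.Tens.swap _ _ ≪≫ e⟩
  have hgp : gp Γ ∈ Set.range i := by
    refine ⟨(compIdeal C hC).subschemeι (genericPoint Γ.curve.left), ?_⟩
    rfl
  have hgD := gp_notMem p hc Γ hgp hD hKD
  have hnum : ArSurf.inter R (Over.mk p) M Γ = -(hz Γ D : ℤ) := by
    have e1 : ArSurf.inter R (Over.mk p) M Γ = - dd Γ Γ.ι.ker := Models.H65.InterProper.inter_inverse hL Γ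
    have e2 : dd Γ Γ.ι.ker + dd Γ D = 0 := by
      rw [← Models.H65.InterProper.dd_mul Γ hK hD, hKD]
      exact Models.H65.InterForm.dd_specialFibre Γ
    have e3 : dd Γ D = -(hz Γ D : ℤ) := Models.H65.InterProper.dd_eq Γ hD hgD
    rw [e1]
    linarith
  refine hexc Γ (Models.H55.ExcCrit.isExcCurve Γ M hL ?_ ?_)
  · have e4 := finrank_quotMod k X₀ (compIdeal C hC) 1
    rw [h2] at e4
    exact e4
  · rw [hnum, hz_eq p hc hpure C hC hK hKD]
    congr 2
    have e5 := Dix.InterNum.finrank_quotMod k X₀ (compIdeal C hC ⊔ complIdeal (compCloseds C hC))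
    rw [h1, ← TailNum.finrank_quotMod k X₀ (compIdeal C hC) 0] at e5
    exact e5.symm

end K897.NoTail
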