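import Groth.Agent.CurvSt.K897.GeoGen
import Groth.Agent.CurvSt.K897.OmegaFam
import Groth.Agent.CurvSt.K897.CanonVan
import Groth.Agent.CurvSt.K897.LiftGG
import Groth.Agent.CurvSt.K897.NoTail
import Groth.Agent.Ega3B.PullTensor
import Groth.Agent.Ega2.GlobGenCrit

/-!
# Vanishing and global generation of powers of the dualizing module of a minimal nodal model
-/

set_option autoImplicit false
universe u
open CategoryTheory CategoryTheory.Limits AlgebraicGeometry TopologicalSpace

namespace K897.ModelFib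

open Groth.Agent ContractFibre

/-- the property of the relative dualizing module given by `OmegaFam.exists_omega` -/
def OmegaProp {S X : Scheme.{u}} (p : X ⟶ S) (w : X.Modules) : Prop :=
  ∀ (Ω : Type u) [Field Ω] (t : Spec (CommRingCat.of Ω) ⟶ S)
      (X' : Scheme.{u}) [X'.Over (Spec (CommRingCat.of Ω))] (i : X' ⟶ X),
      IsPullback i (X' ↘ Spec (CommRingCat.of Ω)) p t → topologicalKrullDim X' = 1 →
      Module.finrank Ω (Coh.HH X' (Coh.structureModule X') 0) = 1 → Curv2.AtWorstNodal Ω X' →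
      Form Ω X' ((Scheme.Modules.pullback i).obj w)

variable {R : Type u} [CommRing R] [IsDomain R] [IsDiscreteValuationRing R] {X : Scheme.{u}}
  (p : X ⟶ Spec (CommRingCat.of R)) [IsProper p]

/-- vanishing and global generation on the closed fibre -/
theorem closed_fibre (hp : Curv2.IsNodalFamily p) {g : ℕ} (hg : 2 ≤ g) (hgeo : K898.StabFam.GeoGenus g p)
    (hreg : Models.IsRegularScheme X) (hexc : ∀ Γ : ArSurf.VertComp R (Over.mk p), ¬ Models.IsExcCurve Γ.ι)
    {w : X.Modules} (hw : PicF.IsInvertible w) (hform : OmegaProp p w) (m : ℕ) (hm : 2 ≤ m)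
    {X₀ : Scheme.{u}} {i : X₀ ⟶ X} {q : X₀ ⟶ Spec (CommRingCat.of (IsLocalRing.ResidueField R))}
    (hc : IsPullback i q p (Spec.map (CommRingCat.ofHom (IsLocalRing.residue R)))) :
    (∀ n : ℕ, 1 ≤ n → Subsingleton (Coh.HH X₀ ((Scheme.Modules.pullback i).obj (CohB1.tensorPow w m)) n)) ∧
      Curv2.IsGloballyGenerated ((Scheme.Modules.pullback i).obj (CohB1.tensorPow w m)) := by
  have h1 : Flat p := hp.1
  have h2 : LocallyOfFinitePresentation p := hp.2.1
  let k := IsLocalRing.ResidueField R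
  let _ : X₀.Over (Spec (CommRingCat.of k)) := ⟨q⟩
  have hq : IsProper (X₀ ↘ Spec (CommRingCat.of k)) := MorphismProperty.of_isPullback hc ‹IsProper p›
  have hN0 : IsNoetherian X₀ := VarietyB.DegFin.isNoetherian_of_isProper k X₀
  obtain ⟨hpure, hn⟩ := CurvesB.NodalQuot.atWorstNodal_of_surjective R X p hp k (IsLocalRing.residue R)
    IsLocalRing.residue_surjective X₀ i hc
  have h0 : Module.finrank k (Coh.HH X₀ (Coh.structureModule X₀) 0) = 1 :=
    (K898.FamH0.hRank_of_point _ hc 0).trans (K898.StabFam.hRank_zero p hgeo _)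
  have hgen : Curv2.genus k X₀ = g :=
    (K898.FamH0.hRank_of_point _ hc 1).trans (K898.StabFam.hRank_one p hgeo _)
  have hred : IsReduced X₀ := CurvesC.GenusOne512.isReduced_of_atWorstNodal k X₀ hn
  have hconn : ConnectedSpace X₀ := CurvesC.GenusOne512.connectedSpace_of_h0 k X₀ h0
  have hdim := K897.GeoGen.dim_eq_one hpure
  have hF : Form k X₀ ((Scheme.Modules.pullback i).obj w) := hform k _ X₀ i hc hdim h0 hn
  have hnt : ∀ (C : Set X₀) (hC : C ∈ irreducibleComponents (X₀ : Type u)), ¬ Curv2.IsRationalTail X₀ C hC :=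
    fun C hC => K897.NoTail.not_isRationalTail p hc hpure hreg hexc C hC
  have hwi := Fdesc.LocGen.isInvertible_pullback i hw
  obtain ⟨e⟩ := Ega3B.PullTensor.nonempty_pullPowIso i hw m
  refine ⟨fun n hn => ?_, ?_⟩
  · rcases Nat.lt_or_ge 1 n with h | h
    · exact Groth.Agent.S0458.result 1 hdim.le (Coh.toAb _) n h
    · obtain rfl : n = 1 := by omega
      exact Fga.HShift.subsingleton_of_iso e.symm 1
        (CanonVan.H1_pow k X₀ hdim h0 _ hwi hF hnt (hg.trans hgen.ge) m hm)
  · exact Ega2.GlobGenCrit.isGloballyGenerated_of_iso e.symm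
      (CurvesC.CanonGG.gg_pow k X₀ hdim h0 _ hwi hF hnt (hg.trans hgen.ge) m hm)

theorem vanish_gg (hp : Curv2.IsNodalFamily p) {g : ℕ} (hg : 2 ≤ g) (hgeo : K898.StabFam.GeoGenus g p)
    (hreg : Models.IsRegularScheme X) (hexc : ∀ Γ : ArSurf.VertComp R (Over.mk p), ¬ Models.IsExcCurve Γ.ι)
    {w : X.Modules} (hw : PicF.IsInvertible w) (hform : OmegaProp p w) (m : ℕ) (hm : 2 ≤ m) :
    (∀ n : ℕ, 1 ≤ n → Subsingleton (Coh.HH X (CohB1.tensorPow w m) n)) ∧
      Curv2.IsGloballyGenerated (CohB1.tensorPow w m) := by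
  have h1 : Flat p := hp.1
  have h2 : LocallyOfFinitePresentation p := hp.2.1
  have hc := IsPullback.of_hasPullback p (Spec.map (CommRingCat.ofHom (IsLocalRing.residue R)))
  obtain ⟨hv, hgg⟩ := closed_fibre p hp hg hgeo hreg hexc hw hform m hm hc
  have hL := Fdesc.LocGen.isInvertible_tensorPow hw m
  exact ⟨LiftGG.vanish p hc hL hv, LiftGG.gg p hc hL hv hgg⟩

end K897.ModelFib
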