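import Groth.Agent.Models.NodeLocus
import Groth.Agent.Models.NodeBound

/-!
# Regular nodal models dominating a nodal model
-/

set_option autoImplicit false
universe u

open BlowUp CategoryTheory CategoryTheory.Limits AlgebraicGeometry

namespace K897.UniqRes

open Groth.Agent Groth.Agent.Models.NodeRing Groth.Agent.Models.NodeBlow Groth.Agent.Models.NodeStep
  Groth.Agent.Models.NodeLocus Groth.Agent.Models

variable {R : Type u} [CommRing R] [IsDomain R] [IsDiscreteValuationRing R] {ϖ : R}

/-- One step of the resolution. -/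
theorem step {C : Scheme.{u}} {f : C ⟶ Spec (CommRingCat.of (FractionRing R))} [Smooth f]
    {X : Scheme.{u}} {p : X ⟶ Spec (CommRingCat.of R)} {c : C ⟶ X}
    (hc : IsPullback c f p (Spec.map (CommRingCat.ofHom (algebraMap R (FractionRing R)))))
    (hp : IsProper p) (hnod : Curv2.IsNodalFamily p) (N : ℕ)
    (hch : ∀ x, p x = IsLocalRing.closedPoint R → HasChart R ϖ p N x) :
    ∃ (X' : Scheme.{u}) (b : X' ⟶ X) (c' : C ⟶ X'), IsProper b ∧ c' ≫ b = c ∧
      IsPullback c' f (b ≫ p) (Spec.map (CommRingCat.ofHom (algebraMap R (FractionRing R)))) ∧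
      Curv2.IsNodalFamily (b ≫ p) ∧
      ∀ x, (b ≫ p) x = IsLocalRing.closedPoint R → HasChart R ϖ (b ≫ p) (max 1 (N - 2)) x := by
  have hXn : IsLocallyNoetherian X := by
    have : IsLocallyNoetherian (Spec (CommRingCat.of R)) := by
      have : IsNoetherianRing (CommRingCat.of R) := inferInstanceAs (IsNoetherianRing R)
      infer_instance
    exact LocallyOfFiniteType.isLocallyNoetherian p
  have hgen : ∀ x, p x ≠ IsLocalRing.closedPoint R → IsRegularLocalRing (X.presheaf.stalk x) :=
    fun x hx => regular_generic hc x (mem_range_of_model hc x hx)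
  let Z : TopologicalSpace.Closeds X :=
    ⟨{x : X | IsRegularLocalRing (X.presheaf.stalk x)}ᶜ,
      (isOpen_regular_of_charts ϖ p N hch hgen).isClosed_compl⟩
  have hZ : ∀ x, x ∈ Z ↔ ¬ IsRegularLocalRing (X.presheaf.stalk x) := fun x => Iff.rfl
  obtain ⟨X', b, hb⟩ := Groth.Agent.Flat2C.BlowExist.exists_isBlowUp
    (Scheme.IdealSheafData.vanishingIdeal Z)
  have hbp : IsProper b := by
    refine Groth.Agent.Flat2C.BlowProper.isProper_of_isBlowUp hb ?_
    intro A
    have := IsLocallyNoetherian.component_noetherian A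
    exact IsNoetherian.noetherian _
  have hcop := DVRGeneric.isOpenImmersion_of_isPullback hc
  have hC' := Groth.Agent.S1680.result c _ b hb
  rw [EtRadical.comap_vanishingIdeal c Z] at hC'
  have hempty : Z.preimage c.continuous = ⊥ := by
    ext z
    simp only [TopologicalSpace.Closeds.coe_preimage, Set.mem_preimage, SetLike.mem_coe,
      TopologicalSpace.Closeds.coe_bot, Set.mem_empty_iff_false, iff_false]
    intro hz
    exact (hZ _).1 hz (regular_generic hc _ ⟨z, rfl⟩)
  rw [hempty, Scheme.IdealSheafData.vanishingIdeal_bot] at hC'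
  obtain ⟨θ, hθ, -⟩ := Groth.Agent.Flat2C.BlowProper.exists_iso hC' (isBlowUp_id_top C)
  have hiso : IsIso (pullback.fst c b) := by
    rw [Category.comp_id] at hθ
    rw [← hθ]
    infer_instance
  let c' : C ⟶ X' := inv (pullback.fst c b) ≫ pullback.snd c b
  have hc'b : c' ≫ b = c := by
    simp only [c', Category.assoc]
    rw [← pullback.condition, IsIso.inv_hom_id_assoc]
  have hpb1 : IsPullback c' (𝟙 C) b c := by
    refine IsPullback.of_iso (IsPullback.of_hasPullback c b).flip (asIso (pullback.fst c b))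
      (Iso.refl _) (Iso.refl _) (Iso.refl _) ?_ ?_ ?_ ?_
    · simp [c']
    · simp
    · simp
    · simp
  have hpb : IsPullback c' f (b ≫ p)
      (Spec.map (CommRingCat.ofHom (algebraMap R (FractionRing R)))) := by
    have := hpb1.paste_vert hc
    rwa [Category.id_comp] at this
  have hch' : ∀ x, (b ≫ p) x = IsLocalRing.closedPoint R →
      HasChart R ϖ (b ≫ p) (max 1 (N - 2)) x := by
    intro x hx
    exact hasChart_blowUp ϖ p N Z hZ b hb x (hch (b x) hx)
  have hnod' : Curv2.IsNodalFamily (b ≫ p) := by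
    have h1 : ∀ x : X', ∃ (U : Scheme.{u}) (e : U ⟶ X') (_ : Etale e),
        x ∈ Set.range e ∧ Curv2.IsNodalFamily (e ≫ b ≫ p) := by
      intro x
      by_cases hx : (b ≫ p) x = IsLocalRing.closedPoint R
      · exact HasChart.exists_nodal ϖ (hch' x hx)
      · have h2 := mem_range_of_model hpb x hx
        have h3 := DVRGeneric.isOpenImmersion_of_isPullback hpb
        refine ⟨C, c', inferInstance, h2, ?_⟩
        rw [← Category.assoc, hc'b]
        exact Groth.Agent.S1592.result p hnod c
    choose U e he hx hn using h1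
    exact Groth.Agent.S1593.result (b ≫ p) X' U e (fun x => ⟨x, hx x⟩) hn
  exact ⟨X', b, c', hbp, hc'b, hpb, hnod', hch'⟩


theorem exists_chain {C : Scheme.{u}} {f : C ⟶ Spec (CommRingCat.of (FractionRing R))} [Smooth f]
    (N : ℕ) {X : Scheme.{u}} {p : X ⟶ Spec (CommRingCat.of R)} {c : C ⟶ X}
    (hc : IsPullback c f p (Spec.map (CommRingCat.ofHom (algebraMap R (FractionRing R)))))
    (hp : IsProper p) (hnod : Curv2.IsNodalFamily p)
    (hch : ∀ x, p x = IsLocalRing.closedPoint R → HasChart R ϖ p N x) :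
    ∃ (X' : Scheme.{u}) (b : X' ⟶ X) (c' : C ⟶ X'), IsProper b ∧ c' ≫ b = c ∧
      IsPullback c' f (b ≫ p) (Spec.map (CommRingCat.ofHom (algebraMap R (FractionRing R)))) ∧
      Curv2.IsNodalFamily (b ≫ p) ∧
      ∀ x, (b ≫ p) x = IsLocalRing.closedPoint R → HasChart R ϖ (b ≫ p) 1 x := by
  induction N using Nat.strong_induction_on generalizing X with
  | _ N ih =>
    by_cases hN : N ≤ 1
    · refine ⟨X, 𝟙 X, c, inferInstance, Category.comp_id _, ?_, ?_, ?_⟩
      · rwa [Category.id_comp]
      · rwa [Category.id_comp]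
      · rw [Category.id_comp]
        exact fun x hx => (hch x hx).mono hN
    · obtain ⟨X₁, b₁, c₁, hb₁, hcb₁, hc₁, hnod₁, hch₁⟩ := step hc hp hnod N hch
      obtain ⟨X₂, b₂, c₂, hb₂, hcb₂, hc₂, hnod₂, hch₂⟩ := ih (max 1 (N - 2)) (by omega) hc₁
        (MorphismProperty.comp_mem (W := @IsProper) _ _ hb₁ hp) hnod₁ hch₁
      refine ⟨X₂, b₂ ≫ b₁, c₂, MorphismProperty.comp_mem (W := @IsProper) _ _ hb₂ hb₁, ?_, ?_, ?_, ?_⟩
      · rw [← Category.assoc, hcb₂, hcb₁]
      · rwa [Category.assoc]
      · rwa [Category.assoc]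
      · rwa [Category.assoc]

/-- **A nodal model of a smooth curve is dominated by a regular nodal model.** -/
theorem exists_regular (R : Type u) [CommRing R] [IsDomain R] [IsDiscreteValuationRing R] {C X : Scheme.{u}}
    {f : C ⟶ Spec (CommRingCat.of (FractionRing R))} [Smooth f] {p : X ⟶ Spec (CommRingCat.of R)} {c : C ⟶ X}
    (hc : IsPullback c f p (Spec.map (CommRingCat.ofHom (algebraMap R (FractionRing R)))))
    [IsProper p] (hnod : Curv2.IsNodalFamily p) :
    ∃ (X' : Scheme.{u}) (b : X' ⟶ X) (c' : C ⟶ X'), IsProper b ∧ c' ≫ b = c ∧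
      IsPullback c' f (b ≫ p) (Spec.map (CommRingCat.ofHom (algebraMap R (FractionRing R)))) ∧
      Curv2.IsNodalFamily (b ≫ p) ∧ _root_.Models.IsRegularScheme X' := by
  obtain ⟨ϖ, hϖ⟩ := IsDiscreteValuationRing.exists_irreducible R
  have hXn : IsLocallyNoetherian X := LocallyOfFiniteType.isLocallyNoetherian p
  have hgen : ∀ x, p x ≠ IsLocalRing.closedPoint R → IsRegularLocalRing (X.presheaf.stalk x) :=
    fun x hx => regular_generic hc x (mem_range_of_model hc x hx)
  obtain ⟨N, hN⟩ := Groth.Agent.Models.NodeBound.exists_bound R ϖ hϖ X p hnod hgen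
  obtain ⟨X', b, c', hb, hcb, hc', hnod', hch'⟩ := exists_chain N hc ‹_› hnod hN
  have hpr : IsProper (b ≫ p) := MorphismProperty.comp_mem (W := @IsProper) _ _ hb ‹_›
  have hfl : Flat (b ≫ p) := hnod'.1
  exact ⟨X', b, c', hb, hcb, hc', hnod', isRegularScheme
    ⟨hfl, inferInstance, inferInstance, c', hc'⟩ hch'⟩

end K897.UniqRes
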