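import Groth.Agent.CurvSt.K897.UniqCmp
import Groth.Agent.CurvSt.K897.UniqRes
import Groth.Agent.CurvSt.K897.GeoGen
import Groth.Agent.CurvSt.K897.ModelFib
import Groth.Agent.CurvSt.K897.OmegaFam
import Groth.Agent.CurvSt.K897.SteinMap
import Groth.Agent.CurvSt.K897.FamContr
import Groth.Agent.CurvSt.K897.GenIso
import Groth.Agent.S3328
import Groth.Agent.S3329
import Groth.Agent.S3330
import Groth.Agent.S3336
import Groth.Agent.Models.K954.GenExt

/-!
# Uniqueness of the stable model of a smooth curve over a discrete valuation ring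
-/

set_option autoImplicit false
universe u
open CategoryTheory CategoryTheory.Limits AlgebraicGeometry TopologicalSpace Opposite

namespace K897.UniqModel

open Groth.Agent

variable {R : Type u} [CommRing R] [IsDomain R] [IsDiscreteValuationRing R] {C : Scheme.{u}}
  {f : C ⟶ Spec (CommRingCat.of (FractionRing R))}
  (hC : Curve.IsSmoothProperCurve (FractionRing R) C f) (hH0 : IsIso f.appTop)
  (hg : 2 ≤ _root_.Models.curveGenus (FractionRing R) C f)

include hC hH0 hg

/-- the canonical contraction of the minimal model -/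
theorem exists_canonical (hss : _root_.Models.HasSemistableReduction R C f) {X : Scheme.{u}}
    {p : X ⟶ Spec (CommRingCat.of R)} (hX : _root_.Models.IsMinimalModel R X p C f) (gC : C ⟶ X)
    (hgC : IsPullback gC f p (Spec.map (CommRingCat.ofHom (algebraMap R (FractionRing R))))) :
    ∃ (Y : Scheme.{u}) (c : X ⟶ Y) (q : Y ⟶ Spec (CommRingCat.of R)), c ≫ q = p ∧ IsProper c ∧
      CurvSt.IsStableFam q (Fin.elim0 : Fin 0 → (Spec (CommRingCat.of R) ⟶ Y)) (fun i => i.elim0)
        (_root_.Models.curveGenus (FractionRing R) C f) ∧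
      IsPullback (gC ≫ c) f q (Spec.map (CommRingCat.ofHom (algebraMap R (FractionRing R)))) := by
  have hnod := Groth.Agent.S3336.result R C X f p hC hH0 hss hX
  obtain ⟨⟨hM, hpr, hreg⟩, hexc⟩ := hX
  have hgeo := GeoGen.geoGenus R C X f p hC hH0 gC hgC hnod
  obtain ⟨w, hw, hform⟩ := OmegaFam.exists_omega p hnod
  obtain ⟨hvan, hgg⟩ := ModelFib.vanish_gg p hnod hg hgeo hreg hexc hw hform 2 le_rfl
  have hL := Groth.Agent.Fdesc.LocGen.isInvertible_tensorPow hw 2
  obtain ⟨Y, c, q, n, s, V, rfl, hc, hq, hO, hcov, hV, hs⟩ := SteinMap.exists_stein p hL hgg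
  have hst := FamContr.isStableFam c q hO hnod hg hgeo hw hform 2 two_pos hvan s V hcov hV hs
    (Fin.elim0 : Fin 0 → (Spec (CommRingCat.of R) ⟶ Y)) (fun i => i.elim0)
  exact ⟨Y, c, q, rfl, hc, hst, UniqCmp.isPullback_gen c q hC gC hgC hO hnod hgeo hL hvan s V hcov hs
      (K898.StabFam.geoGenus_of_isStableFam hst)⟩

/-- comparison of a stable model with the canonical contraction of the minimal model -/
theorem exists_iso_canonical {X : Scheme.{u}} {p : X ⟶ Spec (CommRingCat.of R)}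
    (hX : _root_.Models.IsMinimalModel R X p C f) (gC : C ⟶ X)
    (hgC : IsPullback gC f p (Spec.map (CommRingCat.ofHom (algebraMap R (FractionRing R)))))
    {Y : Scheme.{u}} (c : X ⟶ Y) (q : Y ⟶ Spec (CommRingCat.of R)) (hcq : c ≫ q = p)
    (hY : CurvSt.IsStableFam q (Fin.elim0 : Fin 0 → (Spec (CommRingCat.of R) ⟶ Y)) (fun i => i.elim0)
        (_root_.Models.curveGenus (FractionRing R) C f))
    (hq : IsPullback (gC ≫ c) f q (Spec.map (CommRingCat.ofHom (algebraMap R (FractionRing R)))))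
    {X₁ : Scheme.{u}} {p₁ : X₁ ⟶ Spec (CommRingCat.of R)}
    (hX₁ : CurvSt.IsStableFam p₁ (Fin.elim0 : Fin 0 → (Spec (CommRingCat.of R) ⟶ X₁)) (fun i => i.elim0)
        (_root_.Models.curveGenus (FractionRing R) C f)) (j : C ⟶ X₁)
    (hj : IsPullback j f p₁ (Spec.map (CommRingCat.ofHom (algebraMap R (FractionRing R))))) :
    ∃ e : X₁ ≅ Y, j ≫ e.hom = gC ≫ c := by
  have hsm : Smooth f := hC.2.1
  have hpp : IsProper p₁ := hX₁.2.1
  have hfp : Flat p₁ := hX₁.1
  have hlp : LocallyOfFinitePresentation p₁ := hX₁.2.2.1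
  have hn₁ := K898.StabFam.isNodalFamily p₁ (K898.StabFam.geoGenus_of_isStableFam hX₁)
  obtain ⟨Z, b, z, hb, hzb, hz, hZ, hreg⟩ := UniqRes.exists_regular R hj hn₁
  have hlf : LocallyOfFinitePresentation (b ≫ p₁) := hZ.2.1
  have hM : _root_.Models.IsRegularProperModel R Z (b ≫ p₁) C f :=
    ⟨⟨hZ.1, inferInstance, inferInstance, z, hz⟩, inferInstance, hreg⟩
  obtain ⟨X', p', gX', b', hX', hgX', hbp', hzb', -⟩ := Groth.Agent.S3329.result R C Z f (b ≫ p₁) hC hH0 hM z hz
  obtain ⟨ι, ⟨hι1, hι2⟩, -⟩ := Groth.Agent.S3330.result R C X' X f p' p hC hH0 (by omega) hX' hX gX' hgX' gC hgC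
  have h1 : (b' ≫ ι.hom ≫ c) ≫ q = b ≫ p₁ := by
    rw [Category.assoc, Category.assoc, hcq, hι1, hbp']
  have h2 : z ≫ b' ≫ ι.hom ≫ c = gC ≫ c := by
    rw [reassoc_of% hzb', reassoc_of% hι2]
  obtain ⟨e, he⟩ := UniqCmp.exists_iso hC hH0 hg _ _ _ _ hX₁ hY b (b' ≫ ι.hom ≫ c) hb h1 hZ z hz
    (by rw [hzb]; exact hj) (by rw [h2]; exact hq)
  refine ⟨e, ?_⟩
  rw [← h2, ← he, ← hzb, Category.assoc]

/-- **Uniqueness of stable models.** -/
theorem exists_iso {X X' : Scheme.{u}} {p : X ⟶ Spec (CommRingCat.of R)} {p' : X' ⟶ Spec (CommRingCat.of R)}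
    (hX : CurvSt.IsStableFam p (Fin.elim0 : Fin 0 → (Spec (CommRingCat.of R) ⟶ X)) (fun i => i.elim0)
        (_root_.Models.curveGenus (FractionRing R) C f))
    (hX' : CurvSt.IsStableFam p' (Fin.elim0 : Fin 0 → (Spec (CommRingCat.of R) ⟶ X')) (fun i => i.elim0)
        (_root_.Models.curveGenus (FractionRing R) C f)) (j : C ⟶ X)
    (hj : IsPullback j f p (Spec.map (CommRingCat.ofHom (algebraMap R (FractionRing R))))) (j' : C ⟶ X')
    (hj' : IsPullback j' f p' (Spec.map (CommRingCat.ofHom (algebraMap R (FractionRing R))))) :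
    ∃ e : X ≅ X', e.hom ≫ p' = p ∧ j ≫ e.hom = j' := by
  have hsm : Smooth f := hC.2.1
  have hpp : IsProper p := hX.2.1
  have hfp : Flat p := hX.1
  have hlp : LocallyOfFinitePresentation p := hX.2.2.1
  have hn := K898.StabFam.isNodalFamily p (K898.StabFam.geoGenus_of_isStableFam hX)
  have hss : _root_.Models.HasSemistableReduction R C f :=
    ⟨X, p, ⟨hfp, inferInstance, inferInstance, j, hj⟩, hpp, hn⟩
  obtain ⟨Xm, pm, hXm⟩ := Groth.Agent.S3328.result R C f hC hH0
  obtain ⟨gm, hgm⟩ := hXm.1.1.2.2.2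
  obtain ⟨Y, c, q, hcq, hc, hst, hq⟩ := exists_canonical hC hH0 hg hss hXm gm hgm
  obtain ⟨e, he⟩ := exists_iso_canonical hC hH0 hg hXm gm hgm c q hcq hst hq hX j hj
  obtain ⟨e', he'⟩ := exists_iso_canonical hC hH0 hg hXm gm hgm c q hcq hst hq hX' j' hj'
  have h1 : j ≫ (e ≪≫ e'.symm).hom = j' := by
    rw [Iso.trans_hom, Iso.symm_hom, ← Category.assoc, he, ← he', Category.assoc, Iso.hom_inv_id,
      Category.comp_id]
  refine ⟨e ≪≫ e'.symm, ?_, h1⟩
  refine K954.GenExt.ext hj (terminal.from (Spec (CommRingCat.of R))) (Subsingleton.elim _ _) ?_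
  rw [← Category.assoc, h1, hj'.w, hj.w]

theorem existsUnique_iso {X X' : Scheme.{u}} {p : X ⟶ Spec (CommRingCat.of R)} {p' : X' ⟶ Spec (CommRingCat.of R)}
    (hX : CurvSt.IsStableFam p (Fin.elim0 : Fin 0 → (Spec (CommRingCat.of R) ⟶ X)) (fun i => i.elim0)
        (_root_.Models.curveGenus (FractionRing R) C f))
    (hX' : CurvSt.IsStableFam p' (Fin.elim0 : Fin 0 → (Spec (CommRingCat.of R) ⟶ X')) (fun i => i.elim0)
        (_root_.Models.curveGenus (FractionRing R) C f)) (j : C ⟶ X)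
    (hj : IsPullback j f p (Spec.map (CommRingCat.ofHom (algebraMap R (FractionRing R))))) (j' : C ⟶ X')
    (hj' : IsPullback j' f p' (Spec.map (CommRingCat.ofHom (algebraMap R (FractionRing R))))) :
    ∃! e : X ≅ X', e.hom ≫ p' = p ∧ j ≫ e.hom = j' := by
  obtain ⟨e, he1, he2⟩ := exists_iso hC hH0 hg hX hX' j hj j' hj'
  have hfp : Flat p := hX.1
  have hpp' : IsProper p' := hX'.2.1
  refine ⟨e, ⟨he1, he2⟩, fun e' he' => ?_⟩
  ext1
  exact K954.GenExt.ext hj p' (he'.1.trans he1.symm) (he'.2.trans he2.symm)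

end K897.UniqModel
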