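import Groth.Agent.CurvesC.TailMain
import Groth.Agent.CurvesC.CanonGG

/-!
# Degrees on unions of components

An invertible module of degree zero on all components of a closed subscheme has degree zero on it.
-/

set_option autoImplicit false
universe u
open CategoryTheory CategoryTheory.Limits AlgebraicGeometry TopologicalSpace Opposite

namespace K897.DegUnion

open Groth.Agent.CurvesC Groth.Agent.CurvesC.CurveNum Groth.Agent.CurvesC.TailNum Groth.Agent.CurvesC.TailGeom
  Groth.Agent.CurvesC.DegIso

attribute [local instance] subOver

variable (k : Type u) [Field k] (X : Scheme.{u}) [X.Over (Spec (CommRingCat.of k))]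

/-- the degree of `w` on a component -/
noncomputable abbrev cdeg (w : X.Modules) (C : Set X) (hC : C ∈ irreducibleComponents (X : Type u)) : ℤ :=
  Curv2.deg k (compIdeal C hC).subscheme ((Scheme.Modules.pullback (compIdeal C hC).subschemeι).obj w) 1

/-- If an invertible module has nonzero degree on a closed subscheme of a proper scheme of dimension at most one,
then it has nonzero degree on an irreducible component contained in it. -/
theorem exists_component_ne [IsProper (X ↘ (Spec (CommRingCat.of k)))] (hdim : topologicalKrullDim X ≤ 1)
    (J : X.IdealSheafData) (w : X.Modules) (hw : PicF.IsInvertible w)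
    (h : Curv2.deg k J.subscheme ((Scheme.Modules.pullback J.subschemeι).obj w) 1 ≠ 0) :
    ∃ (C : Set X) (hC : C ∈ irreducibleComponents (X : Type u)), C ⊆ J.support ∧
      topologicalKrullDim (C : Set X) = 1 ∧ cdeg k X w C hC ≠ 0 := by
  have hP : IsProper (J.subscheme ↘ Spec (CommRingCat.of k)) :=
    inferInstanceAs (IsProper (J.subschemeι ≫ (X ↘ (Spec (CommRingCat.of k)))))
  have hLN : IsLocallyNoetherian J.subscheme :=
    LocallyOfFiniteType.isLocallyNoetherian (J.subscheme ↘ (Spec (CommRingCat.of k)))
  have hCS : CompactSpace J.subscheme :=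
    QuasiCompact.compactSpace_of_compactSpace (J.subscheme ↘ (Spec (CommRingCat.of k)))
  have hN : IsNoetherian J.subscheme := { }
  have hd : topologicalKrullDim J.subscheme ≤ 1 :=
    (J.subschemeι.isClosedEmbedding.isInducing.topologicalKrullDim_le).trans hdim
  have key := Groth.Agent.S1641.result k J.subscheme hd 1 ((Scheme.Modules.pullback J.subschemeι).obj w)
    (Groth.Agent.Ega2.QCohLocal.isFinLocFreeOfRank_one_iff.mpr
      (Groth.Agent.Fdesc.LocGen.isInvertible_pullback J.subschemeι hw))
  by_contra hcon
  push Not at hcon
  refine absurd ?_ h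
  rw [key]
  refine finsum_eq_zero_of_forall_eq_zero fun Z => ?_
  split_ifs with hZ
  · refine mul_eq_zero_of_right _ ?_
    set I := (J.subscheme.irreducibleComponentIdeal Z.1 Z.2).radical with hI
    have hran : Set.range I.subschemeι = Z.1 := Scheme.IdealSheafData.range_subschemeι I
    have hran' : Set.range (I.subschemeι ≫ J.subschemeι) = J.subschemeι '' Z.1 := by
      rw [Scheme.Hom.comp_base, TopCat.coe_comp, Set.range_comp, hran]
    have hdim1 : topologicalKrullDim (Set.range (I.subschemeι ≫ J.subschemeι)) = 1 := by
      rw [Groth.Agent.VarietyB.DegComp.topologicalKrullDim_range_eq,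
        ← Groth.Agent.VarietyB.DegComp.topologicalKrullDim_range_eq I.subschemeι, hran]
      exact hZ
    have hirr : IsIrreducible (Set.range (I.subschemeι ≫ J.subschemeι)) := by
      rw [hran']
      exact Z.2.1.image _ J.subschemeι.continuous.continuousOn
    have hC : Set.range (I.subschemeι ≫ J.subschemeι) ∈ irreducibleComponents (X : Type u) := by
      rcases Groth.Agent.VarietyB.DegComp.mem_irreducibleComponents_of_dim hdim _ hirr
        (I.subschemeι ≫ J.subschemeι).isClosedEmbedding.isClosed_range with h1 | h1
      · rw [hdim1] at h1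
        exact absurd h1 (by decide)
      · exact h1.1
    have hsub : Set.range (I.subschemeι ≫ J.subschemeι) ⊆ J.support := by
      rw [hran', ← Scheme.IdealSheafData.range_subschemeι]
      exact Set.image_subset_range _ _
    have hnn := hcon _ hC hsub hdim1
    have hred : IsReduced I.subscheme := Groth.Agent.Ega1.ReducedSub.isReduced_subscheme_radical _
    obtain ⟨e, he⟩ := Groth.Agent.Ega1.ReducedSub.exists_iso_of_range_eq (I.subschemeι ≫ J.subschemeι)
      (compIdeal _ hC).subschemeι (range_comp _ hC).symm
    let _ : I.subscheme.Over (Spec (CommRingCat.of k)) :=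
      ⟨I.subschemeι ≫ (J.subscheme ↘ (Spec (CommRingCat.of k)))⟩
    have h2 := deg_restrict k (I.subschemeι ≫ J.subschemeι) (compIdeal _ hC).subschemeι
      (Category.assoc _ _ _) rfl e he w 1
    rw [cdeg, ← h2, ← deg_restrict_restrict] at hnn
    exact hnn
  · rfl

/-- the degree of an invertible module is zero if it is zero on all components -/
theorem deg_eq_zero [IsProper (X ↘ (Spec (CommRingCat.of k)))] (hdim : topologicalKrullDim X ≤ 1)
    (J : X.IdealSheafData) (w : X.Modules) (hw : PicF.IsInvertible w)
    (h : ∀ (C : Set X) (hC : C ∈ irreducibleComponents (X : Type u)), C ⊆ J.support → cdeg k X w C hC = 0) :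
    Curv2.deg k J.subscheme ((Scheme.Modules.pullback J.subschemeι).obj w) 1 = 0 := by
  by_contra hne
  obtain ⟨C, hC, hCJ, -, h1⟩ := exists_component_ne k X hdim J w hw hne
  exact h1 (h C hC hCJ)

end K897.DegUnion
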