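import Groth.Agent.CurvSt.K897.ContractNode
import Groth.Agent.CurvSt.K897.DegUnion
import Groth.Agent.Curves.K326.DegPts

/-!
# Contractions of curves: the positive dimensional fibres

`X` a connected nodal curve over an algebraically closed field with a module `w` satisfying the degree formula (the
dualizing module), `c : X ⟶ Y` with `O_Y = c_* O_X` contracting only components on which `w` has degree zero. Then every
positive dimensional fibre of `c` meets the noncontracted components in exactly two points.
-/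

set_option autoImplicit false
universe u
open CategoryTheory CategoryTheory.Limits AlgebraicGeometry TopologicalSpace IsLocalRing

namespace K897.ContractFibre

open Groth.Agent UnionTop NodeCross Contract DegUnion
open Groth.Agent.CurvesC Groth.Agent.CurvesC.CurveNum Groth.Agent.CurvesC.TailNum Groth.Agent.CurvesC.TailGeom

section Top

variable {X Y : Scheme.{u}} (c : X ⟶ Y) [IsNoetherian X]

theorem fibre_subset (hcl : IsClosedMap c) (hdim : topologicalKrullDim X ≤ 1) {y : Y} (hy : y ∈ c '' conE c)
    (hpre : _root_.IsPreconnected (c ⁻¹' {y})) : c ⁻¹' {y} ⊆ conE c := by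
  have hyc : IsClosed ({y} : Set Y) := isClosed_of_mem_image c hcl hy
  have hFc : IsClosed (c ⁻¹' {y}) := hyc.preimage c.continuous
  by_contra hcon
  obtain ⟨x, hxF, hxE⟩ := Set.not_subset.1 hcon
  have hEc : IsClosed (conE c) := (isUnion_conE c).isClosed
  have hmem : ∀ z : X, z ∉ conE c → z ∈ conD c := by
    intro z hz
    have h := Set.eq_univ_iff_forall.1 (union_closure_compl (conD c)) z
    rw [← conE_eq c] at h
    exact h.resolve_right hz
  have hScl : IsClosed (c ⁻¹' {y} \ conE c) := by
    have hfin : (c ⁻¹' {y} \ conE c).Finite :=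
      (finite_fibre_conD c hcl hdim y).subset fun z hz => ⟨hmem z hz.2, hz.1⟩
    have h1 : (c ⁻¹' {y} \ conE c) = ⋃ z ∈ (c ⁻¹' {y} \ conE c), {z} := (Set.biUnion_of_singleton _).symm
    rw [h1]
    refine hfin.isClosed_biUnion fun z hz => ?_
    obtain ⟨C, ⟨hC, hCn⟩, hzC⟩ := hmem z hz.2
    have hCc : IsClosed C := isClosed_of_mem_irreducibleComponents C hC
    have hemb : Topology.IsClosedEmbedding (Subtype.val : C → X) := hCc.isClosedEmbedding_subtypeVal
    have : IrreducibleSpace C := isIrreducible_iff_irreducibleSpace.mp hC.1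
    have : QuasiSober C := hemb.quasiSober
    have : NoetherianSpace C := inferInstance
    have hdC : topologicalKrullDim C ≤ 1 := (topologicalKrullDim_subspace_le X C).trans hdim
    have hZ : IsClosed (Subtype.val ⁻¹' (c ⁻¹' {y}) : Set C) := hFc.preimage continuous_subtype_val
    have hne : (Subtype.val ⁻¹' (c ⁻¹' {y}) : Set C) ≠ Set.univ := by
      intro h1
      apply hCn
      refine ⟨y, fun x hx => ?_⟩
      have : (⟨x, hx⟩ : C) ∈ (Subtype.val ⁻¹' (c ⁻¹' {y}) : Set C) := by rw [h1]; trivial
      exact this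
    have h2 := Dim1Top.isClosed_singleton_of_mem hdC hZ hne (z := ⟨z, hzC⟩) hz.1
    have h3 := hemb.isClosedMap _ h2
    rwa [Set.image_singleton] at h3
  obtain ⟨x₀, hx₀, hx₀y⟩ := hy
  obtain ⟨z, -, hz1, hz2⟩ := isPreconnected_closed_iff.1 hpre (conE c) (c ⁻¹' {y} \ conE c) hEc hScl
    (fun z hz => by
      by_cases h : z ∈ conE c
      · exact Or.inl h
      · exact Or.inr ⟨hz, h⟩)
    ⟨x₀, hx₀y, hx₀⟩ ⟨x, hxF, hxF, hxE⟩
  exact hz2.2 hz1

omit [AlgebraicGeometry.IsNoetherian X] in
theorem isUnion_fibre {y : Y} (hF : c ⁻¹' {y} ⊆ conE c) : IsUnion (c ⁻¹' {y}) := by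
  intro x hx
  obtain ⟨C, ⟨hC, y', hy'⟩, hxC⟩ := hF hx
  refine ⟨C, hC, fun z hz => ?_, hxC⟩
  have h1 : c z = y' := hy' hz
  have h2 : c x = y' := hy' hxC
  have h3 : c x = y := hx
  rw [Set.mem_preimage, Set.mem_singleton_iff, h1, ← h2, h3]

theorem fibre_inter {y : Y} (hF : IsClosed (c ⁻¹' {y})) :
    c ⁻¹' {y} ∩ closure (c ⁻¹' {y})ᶜ = conD c ∩ c ⁻¹' {y} := by
  ext x
  constructor
  · rintro ⟨hx, hx'⟩
    refine ⟨?_, hx⟩
    rw [closure_compl hF] at hx'
    obtain ⟨C, ⟨hC, hCF⟩, hxC⟩ := hx'
    refine ⟨C, ⟨hC, ?_⟩, hxC⟩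
    rintro ⟨y', hy'⟩
    apply hCF
    intro z hz
    have h1 : c z = y' := hy' hz
    have h2 : c x = y' := hy' hxC
    have h3 : c x = y := hx
    rw [Set.mem_preimage, Set.mem_singleton_iff, h1, ← h2, h3]
  · rintro ⟨⟨C, ⟨hC, hCn⟩, hxC⟩, hx⟩
    exact ⟨hx, subset_closure_compl hC.1 (fun h => hCn ⟨y, h⟩) hF hxC⟩

end Top

section Num

attribute [local instance] subOver

variable (k : Type u) [Field k] [IsAlgClosed k] (X : Scheme.{u}) [X.Over (Spec (CommRingCat.of k))]
  [IsProper (X ↘ (Spec (CommRingCat.of k)))] [ConnectedSpace X] [IsReduced X]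

/-- the dualizing module: adjunction for unions of components -/
def Form (w : X.Modules) : Prop :=
  ∀ J : X.IdealSheafData, IsReduced J.subscheme →
      (∀ Z ∈ irreducibleComponents (J.subscheme : Type u), topologicalKrullDim Z = 1) → TailMain.DegFormula k X w J

omit [IsAlgClosed k] [IsProper (X ↘ (Spec (CommRingCat.of k)))] [ConnectedSpace X] [X.Over (Spec (CommRingCat.of k))]
  [IsReduced X] in
theorem connected_sub (F : Closeds X) (hc : _root_.IsConnected (F : Set X)) :
    ConnectedSpace (Scheme.IdealSheafData.vanishingIdeal F).subscheme := by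
  have e : (Scheme.IdealSheafData.vanishingIdeal F).subscheme ≃ₜ
      Set.range (Scheme.IdealSheafData.vanishingIdeal F).subschemeι :=
    (Scheme.IdealSheafData.vanishingIdeal F).subschemeι.isEmbedding.toHomeomorph
  have h1 : _root_.IsConnected (Set.range (Scheme.IdealSheafData.vanishingIdeal F).subschemeι) := by
    rw [Scheme.IdealSheafData.range_subschemeι, Scheme.IdealSheafData.coe_support_vanishingIdeal]
    exact hc
  have h2 : ConnectedSpace (Set.range (Scheme.IdealSheafData.vanishingIdeal F).subschemeι) :=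
    isConnected_iff_connectedSpace.1 h1
  exact e.symm.surjective.connectedSpace e.symm.continuous

omit [IsAlgClosed k] [IsReduced X] in
include k in
theorem dim_sub (hdim : topologicalKrullDim X = 1) (F : Closeds X) {C : Set X}
    (hC : C ∈ irreducibleComponents (X : Type u)) (hCF : C ⊆ F) :
    topologicalKrullDim (Scheme.IdealSheafData.vanishingIdeal F).subscheme = 1 := by
  have hN : IsNoetherian X := VarietyB.DegFin.isNoetherian_of_isProper k X
  have h1 : topologicalKrullDim C = 1 := TailMain.pure_of_connected X hdim C hC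
  rw [← VarietyB.DegComp.topologicalKrullDim_range_eq (Scheme.IdealSheafData.vanishingIdeal F).subschemeι,
    Scheme.IdealSheafData.range_subschemeι, Scheme.IdealSheafData.coe_support_vanishingIdeal]
  refine le_antisymm ((topologicalKrullDim_subspace_le X _).trans hdim.le) ?_
  rw [← h1]
  exact (Topology.IsInducing.topologicalKrullDim_le
    (Topology.IsEmbedding.inclusion hCF).isInducing)

/-- the numerical argument on a connected union of components on which `w` has degree zero -/
theorem numbers (hdim : topologicalKrullDim X = 1) (hX : Curv2.AtWorstNodal k X) (w : X.Modules)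
    (hw : PicF.IsInvertible w) (hform : Form k X w) (F : Closeds X) (hU : IsUnion (F : Set X))
    (hc : _root_.IsConnected (F : Set X)) (hF : (F : Set X) ≠ Set.univ)
    (h : ∀ (C : Set X) (hC : C ∈ irreducibleComponents (X : Type u)), C ⊆ F → cdeg k X w C hC = 0) :
    ((F : Set X) ∩ closure (F : Set X)ᶜ).ncard = 2 ∧
      Module.finrank k (Coh.HH X (ClSub.quotMod (Scheme.IdealSheafData.vanishingIdeal F)) 1) = 0 := by
  have hN : IsNoetherian X := VarietyB.DegFin.isNoetherian_of_isProper k X
  set J := Scheme.IdealSheafData.vanishingIdeal F with hJ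
  have hconn : ConnectedSpace J.subscheme := connected_sub X F hc
  have hred : IsReduced J.subscheme := Ega1.ReducedSub.isReduced_subscheme_vanishingIdeal F
  have hsupp : J.support = F := by
    apply SetLike.coe_injective
    rw [hJ, Scheme.IdealSheafData.coe_support_vanishingIdeal]
  obtain ⟨x, hx⟩ := hc.nonempty
  obtain ⟨C, hC, hCF, hxC⟩ := hU x hx
  have hd1 : topologicalKrullDim J.subscheme = 1 := dim_sub k X hdim F hC hCF
  have hP : IsProper (J.subscheme ↘ Spec (CommRingCat.of k)) :=
    inferInstanceAs (IsProper (J.subschemeι ≫ (X ↘ (Spec (CommRingCat.of k)))))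
  have hJN : IsNoetherian J.subscheme := VarietyB.DegFin.isNoetherian_of_isProper k _
  have h1 := hform J hred (TailMain.pure_of_connected _ hd1)
  unfold TailMain.DegFormula at h1
  rw [deg_eq_zero k X hdim.le J w hw (fun C hC hCJ => h C hC (by rwa [hsupp] at hCJ)), hsupp] at h1
  have h2 := K326.DegPts.finrank_inter k X hdim.le hX F (subset_closure_interior hU)
  rw [← hJ] at h2
  have h3 : Module.finrank k (Coh.HH X (ClSub.quotMod J) 0) = 1 := by
    rw [← finrank_quotMod k X J 0]
    exact K326.DegPts.finrank_zero k J.subscheme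
  rw [h2, h3] at h1
  have hfr : ((F : Set X) ∩ closure (F : Set X)ᶜ).Nonempty := by
    have h4 : (frontier (F : Set X)).Nonempty := nonempty_frontier_iff.2 ⟨hc.nonempty, hF⟩
    rwa [frontier_eq_closure_inter_closure, F.isClosed.closure_eq] at h4
  have hfin : ((F : Set X) ∩ closure (F : Set X)ᶜ).Finite :=
    VarietyB.CurveTop.finite_of_isClosed_of_closedPoints _ (F.isClosed.inter isClosed_closure)
      fun x hx => K326.NodeInter.isClosed_of_mem hdim.le F (subset_closure_interior hU) x hx.1 hx.2
  have hpos := (Set.ncard_pos hfin).2 hfr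
  constructor
  · omega
  · omega

omit [IsAlgClosed k] in
/-- some component has nonzero degree -/
theorem exists_ne (hdim : topologicalKrullDim X = 1)
    (h0 : Module.finrank k (Coh.HH X (Coh.structureModule X) 0) = 1)
    (w : X.Modules) (hw : PicF.IsInvertible w) (hform : Form k X w) (hg : 2 ≤ Curv2.genus k X) :
    ∃ (C : Set X) (hC : C ∈ irreducibleComponents (X : Type u)), cdeg k X w C hC ≠ 0 := by
  by_contra hcon
  push Not at hcon
  have hN : IsNoetherian X := VarietyB.DegFin.isNoetherian_of_isProper k X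
  have hP : IsProper ((⊥ : X.IdealSheafData).subscheme ↘ Spec (CommRingCat.of k)) :=
    inferInstanceAs (IsProper ((⊥ : X.IdealSheafData).subschemeι ≫ (X ↘ (Spec (CommRingCat.of k)))))
  have hJN : IsNoetherian (⊥ : X.IdealSheafData).subscheme := VarietyB.DegFin.isNoetherian_of_isProper k _
  have hiso : IsIso (⊥ : X.IdealSheafData).subschemeι := inferInstance
  have hred : IsReduced (⊥ : X.IdealSheafData).subscheme := isReduced_of_isOpenImmersion (⊥ : X.IdealSheafData).subschemeι
  have e := (⊥ : X.IdealSheafData).subschemeι.homeomorph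
  have hconn : ConnectedSpace (⊥ : X.IdealSheafData).subscheme :=
    e.symm.surjective.connectedSpace e.symm.continuous
  have hd1 : topologicalKrullDim (⊥ : X.IdealSheafData).subscheme = 1 := by
    rw [← hdim]
    exact IsHomeomorph.topologicalKrullDim_eq e e.isHomeomorph
  have h1 := CanonGG.le_deg_bot k X h0 w (hform ⊥ hred (TailMain.pure_of_connected _ hd1))
  rw [deg_eq_zero k X hdim.le ⊥ w hw (fun C hC _ => hcon C hC)] at h1
  omega

variable {Y : Scheme.{u}} (c : X ⟶ Y) [IsProper c] [IsLocallyNoetherian Y]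

/-- the fibres over the images of the contracted components -/
theorem fibre (hdim : topologicalKrullDim X = 1) (hX : Curv2.AtWorstNodal k X) (w : X.Modules)
    (hw : PicF.IsInvertible w) (hform : Form k X w) (hg : 2 ≤ Curv2.genus k X)
    (hO : ∀ V : Y.Opens, IsIso (c.app V))
    (hcon : ∀ (C : Set X) (hC : C ∈ irreducibleComponents (X : Type u)), IsCon c C → cdeg k X w C hC = 0)
    {y : Y} (hy : y ∈ c '' conE c) : (conD c ∩ c ⁻¹' {y}).ncard = 2 := by
  have hN : IsNoetherian X := VarietyB.DegFin.isNoetherian_of_isProper k X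
  have hyc : IsClosed ({y} : Set Y) := isClosed_of_mem_image c c.isClosedMap hy
  have hFc : IsClosed (c ⁻¹' {y}) := hyc.preimage c.continuous
  have hpre := ContractNode.isPreconnected_fibre c hO y
  have hsub := fibre_subset c c.isClosedMap hdim.le hy hpre
  have hU := isUnion_fibre c hsub
  have hne : (c ⁻¹' {y}).Nonempty := by
    obtain ⟨x, -, hx⟩ := hy
    exact ⟨x, hx⟩
  have hF : c ⁻¹' {y} ≠ Set.univ := by
    intro h
    obtain ⟨C, hC, h1⟩ := exists_ne k X hdim (K326.DegPts.finrank_zero k X) w hw hform hg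
    exact h1 (hcon C hC ⟨y, by rw [h]; exact Set.subset_univ _⟩)
  have key := numbers k X hdim hX w hw hform ⟨c ⁻¹' {y}, hFc⟩ hU ⟨hne, hpre⟩ hF
    (fun C hC hCF => hcon C hC ⟨y, hCF⟩)
  rw [← fibre_inter c hFc]
  exact key.1

end Num

end K897.ContractFibre
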