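import Groth.Agent.CurvSt.K897.Contract
import Groth.Agent.S2431
import Mathlib.AlgebraicGeometry.Geometrically.Connected

/-!
# The target of a contraction is at-worst-nodal

`atWorstNodal`: `X` an at-worst-nodal curve over an algebraically closed field, `c : X ⟶ Y` proper with
`O_Y = c_* O_X`, such that over every point of `Y` over which `c` is not finite there are one or two points of the
union of the noncontracted components.  Then `Y` is at-worst-nodal.
-/

set_option autoImplicit false
universe u
open CategoryTheory CategoryTheory.Limits AlgebraicGeometry TopologicalSpace IsLocalRing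

namespace K897.ContractNode

open Groth.Agent UnionTop NodeCross Contract Divis.CartierBasic
open Groth.Agent.Models.H73 NodeLocal4

theorem isNode_of_nodeLike {k : Type u} [Field k] [IsAlgClosed k] {Z : Scheme.{u}} (f : Z ⟶ Spec (CommRingCat.of k))
    [LocallyOfFiniteType f] (z : Z) (hz : IsClosed ({z} : Set Z))
    (h : CurvesB.Node.NodeLike (Z.presheaf.stalk z)) : @Curv2.IsNode k _ Z ⟨f⟩ z := by
  let _ : Z.Over (Spec (CommRingCat.of k)) := ⟨f⟩
  have hfin := (CurvesB.Node.isClosed_iff_finite f z).1 hz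
  have hsep1 : @Algebra.IsSeparable k (Z.residueField z) _ _ (Curv2.resAlgebra k Z z) := by
    let _ := Curv2.resAlgebra k Z z
    have _ : Module.Finite k (Z.residueField z) := hfin
    infer_instance
  have hlft : LocallyOfFiniteType (Z ↘ Spec (CommRingCat.of k)) := inferInstanceAs (LocallyOfFiniteType f)
  rw [CurvesB.Node.isNode_iff]
  exact ⟨⟨hfin, hsep1⟩, h⟩

variable {k : Type u} [Field k] [IsAlgClosed k] {X Y : Scheme.{u}} [X.Over (Spec (CommRingCat.of k))]
  [LocallyOfFiniteType (X ↘ Spec (CommRingCat.of k))] [IsNoetherian X]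
  (hpure : ∀ C ∈ irreducibleComponents (X : Type u), topologicalKrullDim C = 1)
  (hX : Curv2.AtWorstNodal k X) (fY : Y ⟶ Spec (CommRingCat.of k)) [LocallyOfFiniteType fY]
  (c : X ⟶ Y) [IsProper c] (hO : ∀ V : Y.Opens, IsIso (c.app V))

/-- Away from the image of the contracted components `Y` looks like `X`. -/
theorem away [IsReduced X] (hpure : ∀ C ∈ irreducibleComponents (X : Type u), topologicalKrullDim C = 1)
    (hX : Curv2.AtWorstNodal k X) (hO : ∀ V : Y.Opens, IsIso (c.app V)) (y : Y) (hy : IsClosed ({y} : Set Y))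
    (hyE : y ∉ c '' conE c) :
    (∃ U : Y.Opens, y ∈ U ∧ Smooth (U.ι ≫ fY)) ∨ @Curv2.IsNode k _ Y ⟨fY⟩ y := by
  have hdim := CurvesB.NodeSch2.topologicalKrullDim_le_one_of_components hpure
  have hfib : c ⁻¹' {y} ⊆ conD c ∩ c ⁻¹' {y} := by
    intro x hx
    refine ⟨?_, hx⟩
    have h1 : x ∈ conD c ∪ closure (conD c)ᶜ := by rw [union_closure_compl]; trivial
    rw [← conE_eq] at h1
    rcases h1 with h1 | h1
    · exact h1
    · exact (hyE ⟨x, h1, hx⟩).elim
  have hfin : (c ⁻¹' {y}).Finite := (finite_fibre_conD c c.isClosedMap hdim y).subset hfib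
  obtain ⟨V, hyV, hV⟩ := exists_isIso c hO y hfin
  obtain ⟨x, rfl⟩ := Contract.surjective c hO c.isClosedMap y
  have hiso := isIso_stalkMap c x hyV
  let e : Y.presheaf.stalk (c x) ≃+* X.presheaf.stalk x := (asIso (c.stalkMap x)).commRingCatIsoToRingEquiv
  have hx : IsClosed ({x} : Set X) := by
    have h1 : c ⁻¹' {c x} = {x} := by
      ext z
      constructor
      · intro hz
        have hz' : c z = c x := hz
        have h2 : (c ∣_ V) ⟨z, show c z ∈ V by rw [hz']; exact hyV⟩ = (c ∣_ V) ⟨x, hyV⟩ := by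
          apply V.ι.isOpenEmbedding.injective
          rw [← Scheme.Hom.comp_apply, ← Scheme.Hom.comp_apply, morphismRestrict_ι, Scheme.Hom.comp_apply,
            Scheme.Hom.comp_apply]
          exact hz'
        exact congrArg Subtype.val ((c ∣_ V).homeomorph.injective h2)
      · rintro rfl
        rfl
    have h2 := hy.preimage c.continuous
    rwa [h1] at h2
  rcases hX x hx with h | h
  · left
    have h1 := CurvesB.NodeSch2.isRegularLocalRing_of_exists k x h
    have hYN : IsLocallyNoetherian Y := LocallyOfFiniteType.isLocallyNoetherian fY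
    have hfp : LocallyOfFinitePresentation fY := inferInstance
    have h2 : IsRegularLocalRing (Y.presheaf.stalk (c x)) := IsRegularLocalRing.of_ringEquiv e.symm
    exact ⟨fY.smoothLocus, (VarietyA.SmoothReg.mem_smoothLocus_iff_of_perfectField fY _).2 h2,
      VarietyA.SmoothLocusSch.smooth_smoothLocus_ι fY⟩
  · right
    have h1 := ((CurvesB.Node.isNode_iff k X x).1 h).2
    exact isNode_of_nodeLike fY _ hy (h1.of_ringEquiv e.symm)

include fY in
/-- The points in the image of the contracted components. -/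
theorem special [IsReduced X] (hpure : ∀ C ∈ irreducibleComponents (X : Type u), topologicalKrullDim C = 1)
    (hX : Curv2.AtWorstNodal k X) (hO : ∀ V : Y.Opens, IsIso (c.app V)) (y : Y)
    (hyE : y ∈ c '' conE c) (x₁ x₂ : X) (h₁ : x₁ ∈ conD c) (h₂ : x₂ ∈ conD c) (hy₁ : c x₁ = y) (hy₂ : c x₂ = y)
    (hall : ∀ x ∈ conD c, c x = y → x = x₁ ∨ x = x₂) (hconn : _root_.IsPreconnected (c ⁻¹' {y})) :
    (x₁ = x₂ → IsRegularLocalRing (Y.presheaf.stalk y)) ∧ (x₁ ≠ x₂ → IsNodeLike (Y.presheaf.stalk y)) := by
  have hdim := CurvesB.NodeSch2.topologicalKrullDim_le_one_of_components hpure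
  have hy := isClosed_of_mem_image c c.isClosedMap hyE
  -- the fibre consists of points of contracted components
  have hfibE : c ⁻¹' {y} ⊆ conE c := by
    by_contra hcon
    obtain ⟨x, hxy, hxE⟩ := Set.not_subset.1 hcon
    have hfin : (c ⁻¹' {y} \ conE c).Finite := by
      refine (finite_fibre_conD c c.isClosedMap hdim y).subset ?_
      rintro z ⟨hz, hzE⟩
      refine ⟨?_, hz⟩
      have h1 : z ∈ conD c ∪ closure (conD c)ᶜ := by rw [union_closure_compl]; trivial
      rw [← conE_eq] at h1
      exact h1.resolve_right hzE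
    have hcl1 : IsClosed (c ⁻¹' {y} \ conE c) := by
      rw [← Set.biUnion_of_singleton (c ⁻¹' {y} \ conE c)]
      refine hfin.isClosed_biUnion fun z hz => ?_
      -- `z` is a closed point
      have hzD : z ∈ conD c := by
        have h1 : z ∈ conD c ∪ closure (conD c)ᶜ := by rw [union_closure_compl]; trivial
        rw [← conE_eq] at h1
        exact h1.resolve_right hz.2
      rw [← closure_subset_iff_isClosed]
      intro w hw
      by_contra hne
      have hzw : z ⤳ w := specializes_iff_mem_closure.2 hw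
      obtain ⟨C, ⟨hC, hCn⟩, hzC⟩ := hzD
      -- then `z` is the generic point of `C`
      have hCc : IsClosed C := isClosed_of_mem_irreducibleComponents C hC
      have hemb : Topology.IsClosedEmbedding (Subtype.val : C → X) := hCc.isClosedEmbedding_subtypeVal
      have : IrreducibleSpace C := isIrreducible_iff_irreducibleSpace.mp hC.1
      have hdC : topologicalKrullDim C ≤ 1 := (topologicalKrullDim_subspace_le X C).trans hdim
      have hne' : (Subtype.val ⁻¹' closure ({z} : Set X) : Set C) = Set.univ := by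
        by_contra hne'
        have h2 := CurvesC.Dim1Top.isClosed_singleton_of_mem hdC (isClosed_closure.preimage continuous_subtype_val) hne'
          (z := ⟨z, hzC⟩) (subset_closure rfl)
        have h3 := hemb.isClosedMap _ h2
        rw [Set.image_singleton] at h3
        rw [h3.closure_eq] at hw
        exact hne hw
      apply hCn
      refine ⟨y, fun v hv => ?_⟩
      have h4 : v ∈ closure ({z} : Set X) := by
        have : (⟨v, hv⟩ : C) ∈ (Subtype.val ⁻¹' closure ({z} : Set X) : Set C) := by rw [hne']; trivial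
        exact this
      have h5 : IsClosed (c ⁻¹' {y}) := hy.preimage c.continuous
      exact h5.closure_subset_iff.2 (Set.singleton_subset_iff.2 hz.1) h4
    obtain ⟨e, heE, hey⟩ := hyE
    obtain ⟨w, hw, hw1, hw2⟩ := isPreconnected_closed_iff.1 hconn (c ⁻¹' {y} \ conE c) (conE c) hcl1
      (isUnion_conE c).isClosed (fun z hz => by by_cases h : z ∈ conE c; exacts [Or.inr h, Or.inl ⟨hz, h⟩])
      ⟨x, hxy, hxy, hxE⟩ ⟨e, hey, heE⟩
    exact hw1.2 hw2
  -- the ideals
  obtain ⟨J, hJ⟩ : ∃ J, J = Scheme.IdealSheafData.vanishingIdeal (X := X) ⟨conD c, (isUnion_conD c).isClosed⟩ := ⟨_, rfl⟩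
  obtain ⟨K, hK⟩ : ∃ K, K = Scheme.IdealSheafData.vanishingIdeal (X := X) ⟨conE c, (isUnion_conE c).isClosed⟩ := ⟨_, rfl⟩
  have hJs : (J.support : Set X) = conD c := by rw [hJ]; exact Scheme.IdealSheafData.coe_support_vanishingIdeal _
  have hKs : (K.support : Set X) = conE c := by rw [hK]; exact Scheme.IdealSheafData.coe_support_vanishingIdeal _
  have hJr : IsReduced J.subscheme := by rw [hJ]; exact Ega1.ReducedSub.isReduced_subscheme_vanishingIdeal _
  have hKr : IsReduced K.subscheme := by rw [hK]; exact Ega1.ReducedSub.isReduced_subscheme_vanishingIdeal _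
  have hJu : IsUnion (J.support : Set X) := by rw [hJs]; exact isUnion_conD c
  have hKJ : (K.support : Set X) = closure (J.support : Set X)ᶜ := by rw [hJs, hKs]; exact conE_eq c
  have hfinite : IsFinite (J.subschemeι ≫ c) := Contract.isFinite c hdim J hJs
  -- an affine neighbourhood avoiding the other special points
  have hclosed : IsClosed (c '' conE c \ {y}) := by
    rw [← Set.biUnion_of_singleton (c '' conE c \ {y})]
    exact ((finite_image_conE c).subset Set.sdiff_subset).isClosed_biUnion
      (fun s hs => isClosed_of_mem_image c c.isClosedMap hs.1)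
  obtain ⟨V, hV, hyV, hVsub⟩ := exists_isAffineOpen_mem_and_subset
    (U := (⟨(c '' conE c \ {y})ᶜ, hclosed.isOpen_compl⟩ : Y.Opens)) (x := y) (by simp)
  have hVE : ∀ x ∈ c ⁻¹ᵁ V, x ∈ conE c → c x = y := by
    intro x hxV hxE
    by_contra hne
    exact hVsub hxV ⟨⟨x, hxE, rfl⟩, hne⟩
  have hcov : ∀ x ∈ c ⁻¹ᵁ V, x ∈ J.support ∨ x ∈ c ⁻¹' {y} := by
    intro x hxV
    have h1 : x ∈ conD c ∪ closure (conD c)ᶜ := by rw [union_closure_compl]; trivial
    rw [← conE_eq] at h1
    rcases h1 with h1 | h1
    · left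
      have h2 : x ∈ (J.support : Set X) := by rw [hJs]; exact h1
      exact h2
    · exact Or.inr (hVE x hxV h1)
  have hfibK : c ⁻¹' {y} ⊆ (K.support : Set X) := by rw [hKs]; exact hfibE
  have hW : IsAffineOpen ((J.subschemeι ≫ c) ⁻¹ᵁ V) := hV.preimage _
  have hcl : ∀ x ∈ conD c, c x = y → IsClosed ({x} : Set X) := by
    -- points of a finite closed set
    intro x hxD hxy
    have h1 : (conD c ∩ c ⁻¹' {y}).Finite := finite_fibre_conD c c.isClosedMap hdim y
    obtain ⟨C, ⟨hC, hCn⟩, hxC⟩ := hxD
    have hCc : IsClosed C := isClosed_of_mem_irreducibleComponents C hC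
    have hemb : Topology.IsClosedEmbedding (Subtype.val : C → X) := hCc.isClosedEmbedding_subtypeVal
    have : IrreducibleSpace C := isIrreducible_iff_irreducibleSpace.mp hC.1
    have hdC : topologicalKrullDim C ≤ 1 := (topologicalKrullDim_subspace_le X C).trans hdim
    have hne' : (Subtype.val ⁻¹' (c ⁻¹' {y}) : Set C) ≠ Set.univ := by
      intro h2
      apply hCn
      refine ⟨y, fun z hz => ?_⟩
      have : (⟨z, hz⟩ : C) ∈ (Subtype.val ⁻¹' (c ⁻¹' {y}) : Set C) := by rw [h2]; trivial
      exact this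
    have h2 := CurvesC.Dim1Top.isClosed_singleton_of_mem hdC
      ((hy.preimage c.continuous).preimage continuous_subtype_val) hne' (z := ⟨x, hxC⟩) hxy
    have h3 := hemb.isClosedMap _ h2
    rwa [Set.image_singleton] at h3
  have hcross : ∀ x ∈ conD c, c x = y →
      (∀ z : J.subscheme, J.subschemeι z = x → ∃ (_ : IsDomain (J.subscheme.presheaf.stalk z)),
        IsDiscreteValuationRing (J.subscheme.presheaf.stalk z)) ∧
      stalkIdeal J x ⊔ stalkIdeal K x = maximalIdeal (X.presheaf.stalk x) := by
    intro x hxD hxy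
    have hxJ : x ∈ (J.support : Set X) := by rw [hJs]; exact hxD
    have hxK : x ∈ (K.support : Set X) := hfibK hxy
    obtain ⟨h1, -, h3⟩ := cross hpure hX J K hJu hKJ x hxJ hxK (hcl x hxD hxy)
    exact ⟨h1, h3⟩
  obtain ⟨z₁, hz₁⟩ : x₁ ∈ Set.range J.subschemeι := by
    rw [Scheme.IdealSheafData.range_subschemeι, hJs]; exact h₁
  obtain ⟨z₂, hz₂⟩ : x₂ ∈ Set.range J.subschemeι := by
    rw [Scheme.IdealSheafData.range_subschemeι, hJs]; exact h₂
  have hmemD : ∀ z : J.subscheme, J.subschemeι z ∈ conD c := fun z => by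
    rw [← hJs, ← Scheme.IdealSheafData.range_subschemeι]; exact ⟨z, rfl⟩
  have key := GlueTwo.main fY (J.subschemeι ≫ c) V hV hW ((J.subschemeι ≫ c).finite_app V hV) ?_ y hyV hy ?_ ?_
    z₁ z₂ (by rw [Scheme.Hom.comp_apply, hz₁, hy₁]) (by rw [Scheme.Hom.comp_apply, hz₂, hy₂]) ?_
  · refine ⟨fun h => key.1 ?_, fun h => key.2 ?_⟩
    · apply J.subschemeι.isClosedEmbedding.injective
      rw [hz₁, hz₂, h]
    · rintro rfl
      exact h (hz₁.symm.trans hz₂)
  · -- injectivity
    rw [injective_iff_map_eq_zero]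
    intro τ hτ
    have h1 : c.app V τ = 0 := by
      apply CurvesC.DualIdeals.eq_zero_of_basicOpen
      have hD0 : ∀ x ∈ conD c, x ∉ X.basicOpen (c.app V τ) := by
        intro x hx hx'
        obtain ⟨z, rfl⟩ : x ∈ Set.range J.subschemeι := by
          rw [Scheme.IdealSheafData.range_subschemeι, hJs]; exact hx
        have h2 : z ∈ J.subschemeι ⁻¹ᵁ X.basicOpen (c.app V τ) := hx'
        rw [Scheme.preimage_basicOpen] at h2
        have h3 : J.subschemeι.app (c ⁻¹ᵁ V) (c.app V τ) = 0 := by
          rw [Scheme.Hom.comp_app] at hτ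
          exact hτ
        rw [h3, Scheme.basicOpen_zero] at h2
        exact h2
      intro x hx
      have hxV : x ∈ c ⁻¹ᵁ V := X.basicOpen_le _ hx
      rcases hcov x hxV with h2 | h2
      · have h3 : x ∈ conD c := by rw [← hJs]; exact h2
        exact hD0 x h3 hx
      · rw [← Scheme.preimage_basicOpen] at hx
        have h3 : c x ∈ Y.basicOpen τ := hx
        have h4 : c x = y := h2
        rw [h4, ← hy₁] at h3
        apply hD0 x₁ h₁
        rw [← Scheme.preimage_basicOpen]
        exact h3
    exact (ConcreteCategory.bijective_of_isIso (c.app V)).1 (h1.trans (map_zero _).symm)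
  · -- sections
    intro σ hσ
    obtain ⟨s, hs⟩ := GlueSec.exists_ext (J := J) (F := c ⁻¹' {y}) K hfibK (hy.preimage c.continuous)
      (U := c ⁻¹ᵁ V) hcov σ (fun z hz hz' => by
        have hzW : z ∈ (J.subschemeι ≫ c) ⁻¹ᵁ V := J.subscheme.basicOpen_le _ hz'
        have h1 := hσ z hzW (by rw [Scheme.Hom.comp_apply]; exact hz)
        rw [Scheme.evaluation_eq_zero_iff_notMem_basicOpen] at h1
        exact h1 hz') (fun x hxV hxJ hxy => by
        have h1 : x ∈ conD c := by rw [← hJs]; exact hxJ
        exact (hcross x h1 hxy).2.ge)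
    obtain ⟨τ, hτ⟩ := (ConcreteCategory.bijective_of_isIso (c.app V)).2 s
    refine ⟨τ, ?_⟩
    rw [← hs.app, ← hτ, Scheme.Hom.comp_app]
    rfl
  · intro z hz
    rw [Scheme.Hom.comp_apply] at hz
    exact (hcross _ (hmemD z) hz).1 z rfl
  · intro z hz
    rw [Scheme.Hom.comp_apply] at hz
    rcases hall _ (hmemD z) hz with h | h
    · left
      exact J.subschemeι.isClosedEmbedding.injective (h.trans hz₁.symm)
    · right
      exact J.subschemeι.isClosedEmbedding.injective (h.trans hz₂.symm)

theorem isPreconnected_fibre {X Y : Scheme.{u}} (c : X ⟶ Y) [IsProper c] [IsLocallyNoetherian Y]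
    (hO : ∀ V : Y.Opens, IsIso (c.app V)) (y : Y) : _root_.IsPreconnected (c ⁻¹' {y}) := by
  have := (S2431.result c hO).2
  exact (c.isConnected_preimage_singleton y).isPreconnected

theorem isReduced_target {X Y : Scheme.{u}} (c : X ⟶ Y) [IsReduced X]
    (hO : ∀ V : Y.Opens, IsIso (c.app V)) : IsReduced Y := by
  refine ⟨fun U => ?_⟩
  exact isReduced_of_injective (c.app U).hom (ConcreteCategory.bijective_of_isIso (c.app U)).1

/-- **The target of a contraction is at-worst-nodal.** -/
theorem atWorstNodal [IsReduced X] (hpure : ∀ C ∈ irreducibleComponents (X : Type u), topologicalKrullDim C = 1)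
    (hX : Curv2.AtWorstNodal k X) (hO : ∀ V : Y.Opens, IsIso (c.app V))
    (hfib : ∀ y ∈ c '' conE c, ∃ x₁ ∈ conD c, ∃ x₂ ∈ conD c, c x₁ = y ∧ c x₂ = y ∧
      ∀ x ∈ conD c, c x = y → x = x₁ ∨ x = x₂) :
    @Curv2.AtWorstNodal k _ Y ⟨fY⟩ := by
  have hYN : IsLocallyNoetherian Y := LocallyOfFiniteType.isLocallyNoetherian fY
  have hYr : IsReduced Y := isReduced_target c hO
  intro y hy
  by_cases hyE : y ∈ c '' conE c
  · obtain ⟨x₁, h₁, x₂, h₂, hy₁, hy₂, hall⟩ := hfib y hyE
    have key := special fY c hpure hX hO y hyE x₁ x₂ h₁ h₂ hy₁ hy₂ hall (isPreconnected_fibre c hO y)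
    by_cases h : x₁ = x₂
    · exact Or.inl (Models.H58.NodalGlue.exists_smooth_nhd fY y (key.1 h))
    · exact Or.inr (Models.H58.NodalGlue.isNode_of_isNodeLike fY y hy (key.2 h))
  · exact away fY c hpure hX hO y hy hyE

end K897.ContractNode
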