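import Groth.Agent.CurvSt.K897.ContractComp
import Groth.Agent.Dix.DimClosed
import Groth.Agent.Flat2G.ProperDim

/-!
# Contractions of nodal curves: the target is a stable curve

`X` a connected nodal curve of genus at least two over an algebraically closed field with a module `w` satisfying the
degree formula (the dualizing module), `c : X ⟶ Y` with `O_Y = c_* O_X` contracting exactly the components on which `w`
has degree zero, and `w` of positive degree on the other components. Then `Y` is a stable curve.
-/

set_option autoImplicit false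
universe u
open CategoryTheory CategoryTheory.Limits AlgebraicGeometry TopologicalSpace IsLocalRing

namespace K897.ContractStable

open Groth.Agent UnionTop NodeCross Contract DegUnion ContractFibre ContractComp
open Groth.Agent.CurvesC Groth.Agent.CurvesC.CurveNum Groth.Agent.CurvesC.TailNum Groth.Agent.CurvesC.TailGeom

attribute [local instance] subOver

variable (k : Type u) [Field k] [IsAlgClosed k] (X : Scheme.{u}) [X.Over (Spec (CommRingCat.of k))]
  [IsProper (X ↘ (Spec (CommRingCat.of k)))] [ConnectedSpace X] [IsReduced X]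
  {Y : Scheme.{u}} (fY : Y ⟶ Spec (CommRingCat.of k)) [IsProper fY] (c : X ⟶ Y) [IsProper c]

omit [IsAlgClosed k] [IsReduced X] [IsProper fY] in
include k in
theorem dim_eq (hdim : topologicalKrullDim X = 1) (hO : ∀ V : Y.Opens, IsIso (c.app V))
    {C : Set X} (hC : C ∈ irreducibleComponents (X : Type u)) (hn : ¬ IsCon c C) : topologicalKrullDim Y = 1 := by
  have hN : IsNoetherian X := VarietyB.DegFin.isNoetherian_of_isProper k X
  apply le_antisymm
  · rw [← hdim]
    exact Dix.DimClosed.topologicalKrullDim_le_of_isClosedMap c c.isClosedMap (Contract.surjective c hO c.isClosedMap)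
  · have hd1 : topologicalKrullDim (compIdeal C hC).subscheme = 1 := dim_sub k X hdim _ hC (le_refl C)
    have hfin := isFinite_comp X c hdim.le hC hn
    rw [← hd1]
    exact Flat2G.ProperDim.topologicalKrullDim_le_of_isIntegralHom ((compIdeal C hC).subschemeι ≫ c)

/-- **The target of the contraction is a stable curve.** -/
theorem isStablePtd (hdim : topologicalKrullDim X = 1) (hX : Curv2.AtWorstNodal k X) (w : X.Modules)
    (hw : PicF.IsInvertible w) (hform : Form k X w) (hg : 2 ≤ Curv2.genus k X)
    (hO : ∀ V : Y.Opens, IsIso (c.app V))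
    (hcon : ∀ (C : Set X) (hC : C ∈ irreducibleComponents (X : Type u)), IsCon c C → cdeg k X w C hC = 0)
    (hpos : ∀ (C : Set X) (hC : C ∈ irreducibleComponents (X : Type u)), ¬ IsCon c C → 0 < cdeg k X w C hC)
    (g : ℕ) (hgY : @Curv2.genus k _ Y ⟨fY⟩ = g) (hg2 : 2 ≤ g) (p : Fin 0 → Y) :
    CurvSt.IsStablePtd k Y fY g p := by
  have hN : IsNoetherian X := VarietyB.DegFin.isNoetherian_of_isProper k X
  have hYN : IsLocallyNoetherian Y := LocallyOfFiniteType.isLocallyNoetherian fY
  have hfib : ∀ y ∈ c '' conE c, (conD c ∩ c ⁻¹' {y}).ncard = 2 := fun y hy =>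
    ContractFibre.fibre k X c hdim hX w hw hform hg hO hcon hy
  obtain ⟨C, hC, hne⟩ := exists_ne k X hdim (K326.DegPts.finrank_zero k X) w hw hform hg
  have hn : ¬ IsCon c C := fun h => hne (hcon C hC h)
  have hpure : ∀ C ∈ irreducibleComponents (X : Type u), topologicalKrullDim C = 1 :=
    TailMain.pure_of_connected X hdim
  refine ⟨inferInstance, ?_, dim_eq k X c hdim hO hC hn, ⟨?_, hgY⟩, fun i => i.elim0, fun i => i.elim0, ?_, by omega⟩
  · exact (Contract.surjective c hO c.isClosedMap).connectedSpace c.continuous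
  · refine ContractNode.atWorstNodal fY c hpure hX hO fun y hy => ?_
    obtain ⟨x₁, x₂, -, heq⟩ := Set.ncard_eq_two.1 (hfib y hy)
    have h1 : x₁ ∈ conD c ∩ c ⁻¹' {y} := by rw [heq]; exact Or.inl rfl
    have h2 : x₂ ∈ conD c ∩ c ⁻¹' {y} := by rw [heq]; exact Or.inr rfl
    refine ⟨x₁, h1.1, x₂, h2.1, h1.2, h2.2, fun x hx hxy => ?_⟩
    have h3 : x ∈ conD c ∩ c ⁻¹' {y} := ⟨hx, hxy⟩
    rw [heq] at h3
    exact h3
  · intro E hE
    have h1 := three_le_meetPts k X fY c hdim hX w hform hO hfib hpos E hE
    exact h1.trans le_self_add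

end K897.ContractStable
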