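import Groth.Agent.CurvSt.K897.ContractFibre
import Groth.Agent.CurvesC.DualNodal
import Groth.Agent.CurvesC.DualDegForm
import Groth.Agent.CurvesC.TailUnion
import Groth.Agent.CurvesC.DegIso

/-!
# The degree formula for the dualizing module of a nodal curve
-/

set_option autoImplicit false
universe u
open CategoryTheory CategoryTheory.Limits AlgebraicGeometry TopologicalSpace

namespace K897.OmegaForm

open Groth.Agent ContractFibre
open Groth.Agent.CurvesC Groth.Agent.CurvesC.CurveNum Groth.Agent.CurvesC.TailNum Groth.Agent.CurvesC.TailGeom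

attribute [local instance] subOver

variable (k : Type u) [Field k] (X : Scheme.{u}) [X.Over (Spec (CommRingCat.of k))]
  [IsProper (X ↘ (Spec (CommRingCat.of k)))]

omit [IsProper (X ↘ (Spec (CommRingCat.of k)))] in
theorem degFormula_congr {w L : X.Modules} (e : L ≅ w) {J : X.IdealSheafData} (h : TailMain.DegFormula k X w J) :
    TailMain.DegFormula k X L J := by
  unfold TailMain.DegFormula at h ⊢
  rw [← h]
  exact DegIso.deg_congr k ((Scheme.Modules.pullback J.subschemeι).mapIso e) 1

theorem form_of_isPair [IsReduced X] (hdim : topologicalKrullDim X = 1) {w : X.Modules}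
    (hw : PicF.IsInvertible w) {t : Coh.HH X w 1 →ₗ[k] k} (ht : DualCount.IsPair k t) : Form k X w := by
  have hN : IsNoetherian X := VarietyB.DegFin.isNoetherian_of_isProper k X
  intro J hJr hJ
  have h1 := DualDegForm.deg_form k hdim w hw ht J.support (TailUnion.subset_closure_interior hdim.le J hJ)
  rw [← TailUnion.eq_vanishingIdeal J] at h1
  exact h1

/-- The dualizing module of a nodal curve with `h⁰(O) = 1` is invertible and satisfies the degree formula. -/
theorem form [DCoh.HasRpush (X ↘ Spec (CommRingCat.of k))]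
    (h : DCoh.RpushPreservesQCoh (X ↘ Spec (CommRingCat.of k)))
    [DCoh.HasShriek (X ↘ Spec (CommRingCat.of k)) h]
    (OY : DCoh.DQCoh (Spec (CommRingCat.of k)))
    (hOY : Nonempty (OY.obj ≅ DCoh.inD (Spec (CommRingCat.of k))
      (Coh.structureModule (Spec (CommRingCat.of k)))))
    (hdim : topologicalKrullDim X = 1)
    (h0 : Module.finrank k (Coh.HH X (Coh.structureModule X) 0) = 1) (hX : Curv2.AtWorstNodal k X)
    {L : X.Modules} (e : Nonempty (L ≅ DCoh.dualizingMod (X ↘ Spec (CommRingCat.of k)) h OY 1)) :
    Form k X L := by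
  obtain ⟨e⟩ := e
  have := GenusOne512.isReduced_of_atWorstNodal k X hX
  obtain ⟨t, ht⟩ := DualNodal.exists_isPair k h OY hdim hOY
  have h1 := form_of_isPair k X hdim (DualNodal.isInvertible k h OY hdim h0 hX hOY) ht
  exact fun J hJr hJ => degFormula_congr k X e (h1 J hJr hJ)

end K897.OmegaForm
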