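import Groth.Agent.CurvSt.K897.UniqMain
import Groth.Agent.CurvSt.K897.GenIso
import Groth.Agent.S16731
import Groth.Agent.S17196
import Groth.Agent.Ega3B.RpushAff

/-!
# Two stable families dominated by the same nodal model of a smooth curve are isomorphic
-/

set_option autoImplicit false
universe u
open CategoryTheory CategoryTheory.Limits AlgebraicGeometry TopologicalSpace Opposite

namespace K897.UniqCmp

open Groth.Agent Groth.Agent.Flat2G K898.ContrUniv

section Acyc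

variable {X Y S : Scheme.{u}}

/-- universal acyclicity in the form of the frozen statements -/
theorem baseChange_form (c : X ⟶ Y) (g : Y ⟶ S) [IsAffine S] [IsProper c] [Flat (c ≫ g)] [Flat g]
    (hO : ∀ V : Y.Opens, IsIso (c.app V)) (hdim : ∀ y : Y, topologicalKrullDim ↥(c.fiber y) ≤ 1)
    (hH1 : ∀ y : Y, Subsingleton (Coh.HH (c.fiber y) (Coh.structureModule (c.fiber y)) 1))
    (T₀ C₀ D₀ : Scheme.{u}) (b : T₀ ⟶ S) (g₀ : D₀ ⟶ T₀) (c₀ : C₀ ⟶ D₀) (pD : D₀ ⟶ Y) (pC : C₀ ⟶ X)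
    [HasInjectiveResolutions C₀.Modules] (hY : IsPullback pD g₀ g b) (hX : IsPullback pC c₀ c pD) :
    IsIso (ClSub.unitToPush c₀) ∧ IsZero ((Coh.Rpush c₀ 1).obj (Coh.structureModule C₀)) := by
  have hp : IsProper c₀ := MorphismProperty.of_isPullback (P := @IsProper) hX inferInstance
  have hac : ∀ y' : D₀, AcycAt c₀ g₀ y' := fun y' =>
    acycAt_baseChange hY hX y' (SteinAcyc.acycAt c g hO hdim hH1 _)
  exact ⟨K898.FamH0.isIso_unitToPush c₀ fun U => isIso_app_of_acycAt hac U,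
    (Ega3B.RpushAff.isZero_iff c₀ (Coh.structureModule C₀) (CurvesC.UnitCoh.isQCoh_unit C₀) 1).2
      fun V hV => subsingleton_HHon_of_acycAt hac V hV 0⟩

end Acyc

/-- an unpointed stable family in the form without tails and bridges -/
theorem stable_form {X T : Scheme.{u}} (p : X ⟶ T) (σ : Fin 0 → (T ⟶ X)) (hσ : ∀ i, σ i ≫ p = 𝟙 T) {g : ℕ}
    (h : CurvSt.IsStableFam p σ hσ g) : CurvSt.IsPrestableFam p ∧
      ∀ (Ω : Type u) [Field Ω] [IsAlgClosed Ω] (t : Spec (CommRingCat.of Ω) ⟶ T) (Y : Scheme.{u}) (i : Y ⟶ X)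
        (q : Y ⟶ Spec (CommRingCat.of Ω)), IsPullback i q p t →
        Models.curveGenus Ω Y q = g ∧ ∀ (Z : Set ↥Y) (hZ : Z ∈ irreducibleComponents (↥Y : Type u)),
          ¬ Curv2.IsRationalTail Y Z hZ ∧ ¬ @Curv2.IsRationalBridge Ω _ Y ⟨q⟩ Z hZ := by
  have h1 : Flat p := h.1
  have h2 : IsProper p := h.2.1
  have h3 : LocallyOfFinitePresentation p := h.2.2.1
  refine ⟨K898.StabFam.isPrestableFam p (K898.StabFam.geoGenus_of_isStableFam h), ?_⟩
  intro Ω _ _ t Y i q hP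
  have h4 := h.2.2.2 Ω t Y i q hP
  obtain ⟨h5, h6, h7, ⟨h8, h9⟩, -⟩ := id h4
  let _ : Y.Over (Spec (CommRingCat.of Ω)) := ⟨q⟩
  have h10 : IsProper (Y ↘ Spec (CommRingCat.of Ω)) := h5
  have h11 : CurvSt.IsStablePtd Ω Y (Y ↘ Spec (CommRingCat.of Ω)) g (Fin.elim0 : Fin 0 → Y) := by
    convert h4
    rfl
  obtain ⟨-, -, h12, h13⟩ := (S16731.result Ω Y h7 h8 g).1 h11
  exact ⟨h9, fun Z hZ => ⟨h12 Z hZ, h13 Z hZ⟩⟩

variable {R : Type u} [CommRing R] [IsDomain R] [IsDiscreteValuationRing R] {C X Y Z : Scheme.{u}}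
  {f : C ⟶ Spec (CommRingCat.of (FractionRing R))}

/-- the generic fibre of the contraction -/
theorem isPullback_gen (c : X ⟶ Y) (q : Y ⟶ Spec (CommRingCat.of R)) [IsProper c] [IsProper q]
    (hC : Curve.IsSmoothProperCurve (FractionRing R) C f) (gC : C ⟶ X)
    (hgC : IsPullback gC f (c ≫ q) (Spec.map (CommRingCat.ofHom (algebraMap R (FractionRing R)))))
    (hO : ∀ V : Y.Opens, IsIso (c.app V)) (hp : Curv2.IsNodalFamily (c ≫ q)) {g : ℕ}
    (hgeo : K898.StabFam.GeoGenus g (c ≫ q)) {L : X.Modules} (hL : PicF.IsInvertible L)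
    (hvan : ∀ n : ℕ, 1 ≤ n → Subsingleton (Coh.HH X L n))
    {J : Type*} (s : J → (Coh.structureModule X ⟶ L)) (V : J → Y.Opens) (hcov : ⨆ j, V j = ⊤)
    (hs : ∀ j, c ⁻¹ᵁ V j = CohB1.genLocus L (s j)) (hgeoY : K898.StabFam.GeoGenus g q) :
    IsPullback (gC ≫ c) f q (Spec.map (CommRingCat.ofHom (algebraMap R (FractionRing R)))) := by
  have hfl : Flat (c ≫ q) := hp.1
  have hflq : Flat q := FamContr.flat c q hO hp
  set b := Spec.map (CommRingCat.ofHom (algebraMap R (FractionRing R))) with hb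
  have hP := IsPullback.of_hasPullback q b
  have hw : (gC ≫ c) ≫ q = f ≫ b := by rw [Category.assoc, hgC.w]
  let cK : C ⟶ pullback q b := pullback.lift (gC ≫ c) f hw
  have hcK1 : cK ≫ pullback.fst q b = gC ≫ c := pullback.lift_fst _ _ _
  have hcK2 : cK ≫ pullback.snd q b = f := pullback.lift_snd _ _ _
  have hX : IsPullback gC cK c (pullback.fst q b) := by
    refine IsPullback.of_bot ?_ hcK1.symm hP
    rw [hcK2]
    exact hgC
  have hdim := FamContr.dim_fiber_le c q hgeo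
  have hH1 := FamContr.fibre_H1 c q hp hgeo hL hvan s V hcov hs
  have hO' : ∀ W : (pullback q b).Opens, IsIso (cK.app W) := fun W =>
    SteinAcyc.isIso_app c q hO hdim hH1 hP hX W
  have hdY : topologicalKrullDim (pullback q b : Scheme.{u}) = 1 := by
    rw [Flat2G.ProperDim.topologicalKrullDim_field_point q (Field.toIsField (FractionRing R)) _ _ _ hP
      (IsLocalRing.closedPoint (FractionRing R))]
    exact K898.StabFam.dim_fiber q hgeoY _
  obtain ⟨hCp, hCs, hCi, hCd⟩ := hC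
  have hpcK : IsProper cK := MorphismProperty.of_isPullback (P := @IsProper) hX inferInstance
  have hNC : IsNoetherian C := by
    let _ : C.Over (Spec (CommRingCat.of (FractionRing R))) := ⟨f⟩
    have : IsProper (C ↘ Spec (CommRingCat.of (FractionRing R))) := hCp
    exact VarietyB.DegFin.isNoetherian_of_isProper (FractionRing R) C
  have hiso : IsIso cK := GenIso.isIso_of_dim cK hCd.le hO' hdY
  exact IsPullback.of_iso hP (asIso cK).symm (Iso.refl _) (Iso.refl _) (Iso.refl _)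
    (by simp [← hcK1]) (by simp [← hcK2]) (by simp) (by simp)

/-- **Two stable families dominated by the same nodal model.** -/
theorem exists_iso (hC : Curve.IsSmoothProperCurve (FractionRing R) C f) (hH0 : IsIso f.appTop)
    (hg : 2 ≤ Models.curveGenus (FractionRing R) C f)
    {p : X ⟶ Spec (CommRingCat.of R)} {q : Y ⟶ Spec (CommRingCat.of R)}
    (σ : Fin 0 → (Spec (CommRingCat.of R) ⟶ X)) (hσ : ∀ i, σ i ≫ p = 𝟙 _)
    (τ : Fin 0 → (Spec (CommRingCat.of R) ⟶ Y)) (hτ : ∀ i, τ i ≫ q = 𝟙 _)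
    (hX : CurvSt.IsStableFam p σ hσ (Models.curveGenus (FractionRing R) C f))
    (hY : CurvSt.IsStableFam q τ hτ (Models.curveGenus (FractionRing R) C f))
    (c₁ : Z ⟶ X) (c₂ : Z ⟶ Y) (hc₁ : IsProper c₁) (hc : c₂ ≫ q = c₁ ≫ p) (hZ : Curv2.IsNodalFamily (c₁ ≫ p))
    (z : C ⟶ Z) (hz : IsPullback z f (c₁ ≫ p) (Spec.map (CommRingCat.ofHom (algebraMap R (FractionRing R)))))
    (hj : IsPullback (z ≫ c₁) f p (Spec.map (CommRingCat.ofHom (algebraMap R (FractionRing R)))))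
    (hj' : IsPullback (z ≫ c₂) f q (Spec.map (CommRingCat.ofHom (algebraMap R (FractionRing R))))) :
    ∃ e : X ≅ Y, c₁ ≫ e.hom = c₂ := by
  have hpp : IsProper p := hX.2.1
  have hpq : IsProper q := hY.2.1
  have hfp : Flat p := hX.1
  have hfq : Flat q := hY.1
  have hlp : LocallyOfFinitePresentation p := hX.2.2.1
  have hlq : LocallyOfFinitePresentation q := hY.2.2.1
  have hpZ : IsProper (c₁ ≫ p) := inferInstance
  have hpZ' : IsProper (c₂ ≫ q) := by rw [hc]; exact hpZ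
  have hc₂ : IsProper c₂ := IsProper.of_comp c₂ q
  have hZ' : Curv2.IsNodalFamily (c₂ ≫ q) := by rw [hc]; exact hZ
  have hz' : IsPullback z f (c₂ ≫ q) (Spec.map (CommRingCat.ofHom (algebraMap R (FractionRing R)))) := by
    rw [hc]; exact hz
  have hnX := K898.StabFam.isNodalFamily p (K898.StabFam.geoGenus_of_isStableFam hX)
  have hnY := K898.StabFam.isNodalFamily q (K898.StabFam.geoGenus_of_isStableFam hY)
  have hgeo := GeoGen.geoGenus R C Z f (c₁ ≫ p) hC hH0 z hz hZ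
  have hflZ : Flat (c₁ ≫ p) := hZ.1
  have hflZ' : Flat (c₂ ≫ q) := hZ'.1
  have hlfZ : LocallyOfFinitePresentation (c₁ ≫ p) := hZ.2.1
  have hpre := K898.StabFam.isPrestableFam (c₁ ≫ p) hgeo
  obtain ⟨e, he, -⟩ := S17196.result (c₁ ≫ p) (Models.curveGenus (FractionRing R) C f) hpre
    (fun Ω _ _ t X' i q' hP => (hgeo Ω t X' i q' hP).2.2.2) hg
    X p c₁ rfl (stable_form p σ hσ hX)
    (baseChange_form c₁ p (fun V => UniqMain.isIso_app p c₁ (z ≫ c₁) z hC hnX hZ hj hz rfl V)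
      (UniqMain.dim_fiber_le p c₁ z hC hH0 hZ hz)
      (UniqMain.fibre_H1 p c₁ (z ≫ c₁) z hC hH0 hnX hZ hj hz rfl))
    Y q c₂ hc (stable_form q τ hτ hY)
    (baseChange_form c₂ q (fun V => UniqMain.isIso_app q c₂ (z ≫ c₂) z hC hnY hZ' hj' hz' rfl V)
      (UniqMain.dim_fiber_le q c₂ z hC hH0 hZ' hz')
      (UniqMain.fibre_H1 q c₂ (z ≫ c₂) z hC hH0 hnY hZ' hj' hz' rfl))
  exact ⟨e, he⟩

end K897.UniqCmp
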