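import Groth.Agent.CurvSt.K897.UniqH1
import Groth.Agent.CurvSt.K898.FamH0
import Groth.Agent.CurvesA.HHMap
import Groth.Agent.CohqA.DirectSum
import Groth.Agent.CurvesC.CurveNum
import Groth.Agent.CurvesC.DualDeg
import Groth.Agent.CurvesC.UnitCoh
import Groth.Agent.Lift.K695.GrFlat
import Groth.Agent.S0002
import Groth.Agent.S0458
import Groth.Agent.VarietyB.DegFin

/-!
# Vanishing of `H¹` of the fibres from the equality of genera
-/

set_option autoImplicit false
universe u
open CategoryTheory CategoryTheory.Limits AlgebraicGeometry TopologicalSpace Abelian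

namespace K897.UniqFib

open Groth.Agent Groth.Agent.CohqB.HSeqMod

/-- `H¹(Y, c_* ι_* O_E) = 0` for the fibre `ι : E ⟶ X` of `c : X ⟶ Y` over a closed point -/
theorem subsingleton_push_fiber {X Y : Scheme.{u}} (c : X ⟶ Y) (y : Y) (hy : IsClosed ({y} : Set Y)) :
    Subsingleton (Coh.HH Y ((Scheme.Modules.pushforward c).obj ((Scheme.Modules.pushforward (c.fiberι y)).obj
      (Coh.structureModule (c.fiber y)))) 1) := by
  have hci : IsClosedImmersion (Y.fromSpecResidueField y) := isClosed_singleton_iff_isClosedImmersion.1 hy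
  have hw : c.fiberι y ≫ c = c.fiberToSpecResidueField y ≫ Y.fromSpecResidueField y :=
    (IsPullback.of_hasPullback c (Y.fromSpecResidueField y)).w
  let M := Coh.structureModule (c.fiber y)
  let e : (Scheme.Modules.pushforward c).obj ((Scheme.Modules.pushforward (c.fiberι y)).obj M) ≅
      (Scheme.Modules.pushforward (Y.fromSpecResidueField y)).obj
        ((Scheme.Modules.pushforward (c.fiberToSpecResidueField y)).obj M) :=
    (Scheme.Modules.pushforwardComp (c.fiberι y) c).app M ≪≫ (Scheme.Modules.pushforwardCongr hw).app M ≪≫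
      ((Scheme.Modules.pushforwardComp (c.fiberToSpecResidueField y) (Y.fromSpecResidueField y)).app M).symm
  refine CohqA.DirectSum.subsingleton_of_iso e.symm 1 ?_
  refine (CurvesC.CurveNum.hhPush (Y.fromSpecResidueField y)
    ((Scheme.Modules.pushforward (c.fiberToSpecResidueField y)).obj M) 1).symm.toEquiv.subsingleton_congr.2 ?_
  have hd : topologicalKrullDim (Spec (Y.residueField y) : Scheme.{u}) ≤ (0 : ℕ) := by
    have h3 : Subsingleton (IrreducibleCloseds (Spec (Y.residueField y) : Scheme.{u})) := by
      have h4 : Subsingleton (Spec (Y.residueField y) : Scheme.{u}) :=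
        inferInstanceAs (Subsingleton (PrimeSpectrum (Y.residueField y)))
      refine ⟨fun A B => ?_⟩
      ext z
      obtain ⟨a, ha⟩ := A.2.nonempty
      obtain ⟨b, hb⟩ := B.2.nonempty
      exact ⟨fun _ => Subsingleton.elim b z ▸ hb, fun _ => Subsingleton.elim a z ▸ ha⟩
    exact Order.krullDim_nonpos_of_subsingleton
  exact S0458.result 0 hd (Coh.toAb _) 1 one_pos

variable (k : Type u) [Field k] {X Y : Scheme.{u}} [X.Over (Spec (CommRingCat.of k))]
    [Y.Over (Spec (CommRingCat.of k))] [IsProper (X ↘ Spec (CommRingCat.of k))]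
    [IsProper (Y ↘ Spec (CommRingCat.of k))] (c : X ⟶ Y)
    (hc : c ≫ (Y ↘ Spec (CommRingCat.of k)) = X ↘ Spec (CommRingCat.of k))

include hc in
/-- **`H¹` of the closed fibres vanishes if `O = c_* O` and the genus of `X` is at most the genus of `Y`.** -/
theorem subsingleton_H1 (hO : ∀ V : Y.Opens, IsIso (c.app V)) (hdim : topologicalKrullDim X ≤ 1)
    (hg : Module.finrank k (Coh.HH X (Coh.structureModule X) 1) ≤
      Module.finrank k (Coh.HH Y (Coh.structureModule Y) 1)) (y : Y) (hy : IsClosed ({y} : Set Y)) :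
    Subsingleton (Coh.HH (c.fiber y) (Coh.structureModule (c.fiber y)) 1) := by
  have hN : IsNoetherian X := VarietyB.DegFin.isNoetherian_of_isProper k X
  have hi : IsIso (ClSub.unitToPush c) := K898.FamH0.isIso_unitToPush c hO
  let e := K900.Edge.edge c k hc (Coh.structureModule X) 1
  have hinj : Function.Injective e := UniqH1.edge_one_injective c k hc _
  let a := CurvesA.HHMap.equivOver k (asIso (ClSub.unitToPush c)) 1
  have hfX : Module.Finite k (Coh.HH X (Coh.structureModule X) 1) :=
    S0002.result k X (Coh.structureModule X) (CurvesC.UnitCoh.isCoh_unit X) 1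
  have hfY : Module.Finite k (Coh.HH Y (Coh.structureModule Y) 1) :=
    have : IsNoetherian Y := VarietyB.DegFin.isNoetherian_of_isProper k Y
    S0002.result k Y (Coh.structureModule Y) (CurvesC.UnitCoh.isCoh_unit Y) 1
  have hfP : Module.Finite k (Coh.HH Y ((Scheme.Modules.pushforward c).obj (Coh.structureModule X)) 1) :=
    Module.Finite.equiv a
  have hrank : Module.finrank k (Coh.HH Y ((Scheme.Modules.pushforward c).obj (Coh.structureModule X)) 1) =
      Module.finrank k (Coh.HH X (Coh.structureModule X) 1) :=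
    le_antisymm (LinearMap.finrank_le_finrank_of_injective hinj) (hg.trans a.finrank_eq.le)
  have hsurj : Function.Surjective e :=
    (LinearMap.injective_iff_surjective_of_finrank_eq_finrank hrank).1 hinj
  have hci : IsClosedImmersion (Y.fromSpecResidueField y) := isClosed_singleton_iff_isClosedImmersion.1 hy
  have hci' : IsClosedImmersion (c.fiberι y) := MorphismProperty.pullback_fst (P := @IsClosedImmersion) _ _ hci
  have hS := Groth.Agent.CurvesC.DualDeg.shortExact_ideal (c.fiberι y).ker
  have h2 : Subsingleton (Coh.HH X (ClSub.idealMod (c.fiberι y).ker) 2) :=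
    S0458.result 1 (by exact_mod_cast hdim) (Coh.toAb _) 2 (by norm_num)
  obtain ⟨i⟩ := K695.GrFlat.nonempty_quotMod_iso (c.fiberι y)
  have h3 : Subsingleton (Coh.HH Y ((Scheme.Modules.pushforward c).obj (ClSub.quotMod (c.fiberι y).ker)) 1) :=
    CohqA.DirectSum.subsingleton_of_iso ((Scheme.Modules.pushforward c).mapIso i.symm) 1
      (subsingleton_push_fiber c y hy)
  have h4 : Subsingleton (Coh.HH X (ClSub.quotMod (c.fiberι y).ker) 1) := by
    have h5 : ∀ z : Coh.HH X (ClSub.quotMod (c.fiberι y).ker) 1, z = 0 := by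
      intro z
      obtain ⟨x, hx⟩ := exact₃ hS 1 z (Subsingleton.elim _ _)
      obtain ⟨w, hw⟩ := hsurj x
      have h6 := K900.Edge.edge_nat c k hc (ClSub.toSubscheme (c.fiberι y).ker) 1 w
      have h7 : hmap ((Scheme.Modules.pushforward c).map (ClSub.toSubscheme (c.fiberι y).ker)) 1 w = 0 :=
        Subsingleton.elim _ _
      rw [h7, map_zero] at h6
      rw [← hx, ← hw]
      exact h6.symm
    exact ⟨fun z z' => (h5 z).trans (h5 z').symm⟩
  have h5 : Subsingleton (Coh.HH X ((Scheme.Modules.pushforward (c.fiberι y)).obj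
      (Coh.structureModule (c.fiber y))) 1) := CohqA.DirectSum.subsingleton_of_iso i 1 h4
  exact (CurvesC.CurveNum.hhPush (c.fiberι y) (Coh.structureModule (c.fiber y)) 1).toEquiv.subsingleton

end K897.UniqFib
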