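import Groth.Agent.S1365
import Groth.Agent.S7889
import Groth.Agent.Models.DVRGeneric2
import Groth.Agent.Models.K954.GenExt
import Groth.Agent.Dix.NormalLoc
import Groth.Prelude.Def_ModelsG

/-!
# Maps of nodal models of a smooth curve: `O = ρ_* O` and connected fibres
-/

set_option autoImplicit false
universe u
open CategoryTheory CategoryTheory.Limits AlgebraicGeometry TopologicalSpace

namespace K897.UniqGen

open Groth.Agent

theorem isIso_fiberToSpec {C X Z : Scheme.{u}} {ρ : Z ⟶ X} {g : C ⟶ X} {g' : C ⟶ Z} [IsOpenImmersion g]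
    (h : IsPullback g' (𝟙 C) ρ g) (x : X) (hx : x ∈ Set.range g) : IsIso (ρ.fiberToSpecResidueField x) := by
  have hr : Set.range (X.fromSpecResidueField x) ⊆ Set.range g := by
    rw [Scheme.range_fromSpecResidueField]
    exact Set.singleton_subset_iff.2 hx
  let t : Spec (X.residueField x) ⟶ C := IsOpenImmersion.lift g (X.fromSpecResidueField x) hr
  have ht : t ≫ g = X.fromSpecResidueField x := IsOpenImmersion.lift_fac g _ hr
  have hF : IsPullback (ρ.fiberι x) (ρ.fiberToSpecResidueField x) ρ (X.fromSpecResidueField x) :=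
    IsPullback.of_hasPullback _ _
  let a : ρ.fiber x ⟶ C := h.lift (ρ.fiberι x) (ρ.fiberToSpecResidueField x ≫ t) (by
    rw [Category.assoc, ht, hF.w])
  have ha1 : a ≫ g' = ρ.fiberι x := h.lift_fst _ _ _
  have ha2 : a ≫ 𝟙 C = ρ.fiberToSpecResidueField x ≫ t := h.lift_snd _ _ _
  have hF' : IsPullback (a ≫ g') (ρ.fiberToSpecResidueField x) ρ (t ≫ g) := by
    rw [ha1, ht]
    exact hF
  exact (IsPullback.of_right hF' ha2 h).isIso_snd_of_isIso

section

variable {R : Type u} [CommRing R] [IsDomain R] [IsDiscreteValuationRing R] {C X Z : Scheme.{u}}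
  {f : C ⟶ Spec (CommRingCat.of (FractionRing R))} {p : X ⟶ Spec (CommRingCat.of R)} {ρ : Z ⟶ X}
  {g : C ⟶ X} {g' : C ⟶ Z}

omit [IsDomain R] [IsDiscreteValuationRing R] in
theorem isPullback_id (h : IsPullback g f p (Spec.map (CommRingCat.ofHom (algebraMap R (FractionRing R)))))
    (h' : IsPullback g' f (ρ ≫ p) (Spec.map (CommRingCat.ofHom (algebraMap R (FractionRing R)))))
    (hρ : g' ≫ ρ = g) : IsPullback g' (𝟙 C) ρ g := by
  refine IsPullback.of_bot ?_ (by rw [hρ, Category.id_comp]) h
  rw [Category.id_comp]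
  exact h'

theorem isNormalScheme [Smooth f] (hp : Curv2.IsNodalFamily p)
    (hj : IsPullback g f p (Spec.map (CommRingCat.ofHom (algebraMap R (FractionRing R))))) :
    Pi1.IsNormalScheme X := by
  refine Groth.Agent.S7889.result p hp fun x hx => ?_
  have ho : IsOpenImmersion (Spec.map (CommRingCat.ofHom (algebraMap R (FractionRing R)))) :=
    Groth.Agent.Models.DVRGeneric.isOpenImmersion_generic R (FractionRing R)
  have hoj : IsOpenImmersion g := MorphismProperty.of_isPullback hj.flip ho
  obtain ⟨c, rfl⟩ : ∃ c, g c = x := by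
    have h1 : p x ∈ Set.range (Spec.map (CommRingCat.ofHom (algebraMap R (FractionRing R)))) := by
      refine ⟨(⊥ : PrimeSpectrum (FractionRing R)), PrimeSpectrum.ext ?_⟩
      rw [hx]
      exact (RingHom.injective_iff_ker_eq_bot _).1 (IsFractionRing.injective R (FractionRing R))
    obtain ⟨y, hy⟩ := h1
    obtain ⟨z, hz, -⟩ := Scheme.Pullback.exists_preimage_pullback x y hy.symm
    exact ⟨hj.isoPullback.inv z, by rw [← Scheme.Hom.comp_apply, hj.isoPullback_inv_fst, hz]⟩
  obtain ⟨h1, h2⟩ := Groth.Agent.Dix.NormalLoc.stalk_of_smooth f c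
  let e : X.presheaf.stalk (g c) ≃+* C.presheaf.stalk c := (asIso (g.stalkMap c)).commRingCatIsoToRingEquiv
  have h3 : IsDomain (X.presheaf.stalk (g c)) := e.toMulEquiv.isDomain _
  exact ⟨h3, IsIntegrallyClosed.of_equiv e.symm⟩

/-- **`O_X = ρ_* O_Z` and geometrically connected fibres.** -/
theorem isIso_app [Smooth f] [IsIntegral C] [IsProper ρ] (hp : Curv2.IsNodalFamily p)
    (hpZ : Curv2.IsNodalFamily (ρ ≫ p))
    (h : IsPullback g f p (Spec.map (CommRingCat.ofHom (algebraMap R (FractionRing R)))))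
    (h' : IsPullback g' f (ρ ≫ p) (Spec.map (CommRingCat.ofHom (algebraMap R (FractionRing R)))))
    (hρ : g' ≫ ρ = g) : (∀ U : X.Opens, IsIso (ρ.app U)) ∧ GeometricallyConnected ρ := by
  have hf1 : Flat p := hp.1
  have hf2 : Flat (ρ ≫ p) := hpZ.1
  have hX : IsIntegral X := K954.GenExt.isIntegral_of_flat h
  have hZ : IsIntegral Z := K954.GenExt.isIntegral_of_flat h'
  have hg : IsOpenImmersion g := Groth.Agent.Models.DVRGeneric.isOpenImmersion_of_isPullback h
  have hg' : IsOpenImmersion g' := Groth.Agent.Models.DVRGeneric.isOpenImmersion_of_isPullback h'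
  have e1 : g (genericPoint C) = genericPoint X := genericPoint_eq_of_isOpenImmersion g
  have e2 : g' (genericPoint C) = genericPoint Z := genericPoint_eq_of_isOpenImmersion g'
  refine Groth.Agent.S1365.result ρ (isNormalScheme hp h) (fun Z₀ hZ₀ x hx => ?_) ?_
  · rw [irreducibleComponents_eq_singleton, Set.mem_singleton_iff] at hZ₀
    subst hZ₀
    have h1 : x = genericPoint Z := hx.eq (genericPoint_spec Z)
    rw [h1, ← e2, ← Scheme.Hom.comp_apply, hρ, e1]
  · have h1 := isIso_fiberToSpec (isPullback_id h h' hρ) (genericPoint X) ⟨_, e1⟩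
    have h2 : IsIso ((ρ.fiberToSpecResidueField (genericPoint X)).app ⊤) := inferInstance
    exact (ConcreteCategory.isIso_iff_bijective _).1 h2

end

end K897.UniqGen
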