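import Groth.Agent.CurvSt.K900.Edge
import Groth.Agent.Etbc.H238.EdgeInj

/-!
# `H¹(Y, c_* F) → H¹(X, F)` is injective
-/

set_option autoImplicit false
universe u
open CategoryTheory CategoryTheory.Limits AlgebraicGeometry TopologicalSpace Abelian

namespace K897.UniqH1

open Groth.Agent Groth.Agent.CohqB.PushTop Groth.Agent.FormalA.HUBasic Groth.Agent.CohtopB.TopPull
  Groth.Agent.Etbase.ExtCompare

attribute [local instance 3000] Groth.Agent.CohqB.PushTop.hasSheafify

attribute [local instance 3000] Groth.Agent.CohqB.PushTop.hasExt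

theorem pushE_one_injective {X Y : TopCat.{u}} (f : X ⟶ Y) (F : CohTop.Ab X) (W : Opens Y) :
    Function.Injective (pushE f F 1 W) := by
  have h1 : Function.Injective (EtpbcB.EdgeLemma.edge (adj f) (zU W) F 1) :=
    Etbc.H238.EdgeInj.edge_one_injective (adj f) _ _
  have h2 : Function.Injective (cmp (CohTop.pull f) (zU W) ((adj f).counit.app F) 1) := h1
  intro a b hab
  rw [pushE_apply, pushE_apply] at hab
  apply h2
  have h3 := congrArg (fun t => (Ext.mk₀ (inv (pullZ f W))).comp t (zero_add 1)) hab
  simpa using h3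

theorem pushH_one_injective {X Y : TopCat.{u}} (f : X ⟶ Y) (F : CohTop.Ab X) :
    Function.Injective (pushH f F 1) :=
  ((toTop F 1).symm.injective.comp (pushE_one_injective f F ⊤)).comp
    (toTop ((CohTop.push f).obj F) 1).injective

theorem edge_one_injective {X Y : Scheme.{u}} (c : X ⟶ Y) (k : Type u) [Field k]
    [X.Over (Spec (CommRingCat.of k))] [Y.Over (Spec (CommRingCat.of k))]
    (hc : c ≫ (Y ↘ Spec (CommRingCat.of k)) = X ↘ Spec (CommRingCat.of k)) (M : X.Modules) :
    Function.Injective (K900.Edge.edge c k hc M 1) :=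
  pushH_one_injective (X := X.toTopCat) (Y := Y.toTopCat) c.base (Coh.toAb M)

end K897.UniqH1
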