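import Groth.Agent.CurvSt.K897.UniqSN
import Groth.Agent.CurvSt.K897.Contract
import Groth.Agent.S1297
import Groth.Agent.S1340
import Groth.Agent.S2431

/-!
# Proper morphisms from reduced schemes onto seminormal curves
-/

set_option autoImplicit false
universe u
open CategoryTheory CategoryTheory.Limits AlgebraicGeometry TopologicalSpace

namespace K897.UniqT

open Groth.Agent Groth.Agent.Sga7.H598.SNDef

theorem eq_of_preconnected {X Y : Scheme.{u}} (ν : X ⟶ Y) [IsFinite ν] (y : Y) (hS : _root_.IsPreconnected (ν ⁻¹' {y}))
    {x x' : X} (hx : ν x = y) (hx' : ν x' = y) : x = x' := by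
  have h1 : DiscreteTopology (ν ⁻¹' {y}) := (ν.isDiscrete_preimage_singleton y).to_subtype
  have h2 : PreconnectedSpace (ν ⁻¹' {y}) := isPreconnected_iff_preconnectedSpace.1 hS
  have h3 := PreconnectedSpace.constant (α := (ν ⁻¹' {y} : Set X)) inferInstance (f := id) continuous_id
    (x := ⟨x, hx⟩) (y := ⟨x', hx'⟩)
  exact congrArg Subtype.val h3

theorem isReduced_of_app {X Y : Scheme.{u}} (c : X ⟶ Y) (hO : ∀ V : Y.Opens, IsIso (c.app V)) [IsReduced X] :
    IsReduced Y := by
  refine ⟨fun U => ?_⟩
  have h := hO U
  exact isReduced_of_injective (c.app U).hom (ConcreteCategory.bijective_of_isIso (c.app U)).1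

/-- **`O = c_* O` for proper morphisms with connected fibres onto seminormal curves.** -/
theorem isIso_app {k : Type u} [Field k] [IsAlgClosed k] {X Y : Scheme.{u}} (f : Y ⟶ Spec (CommRingCat.of k))
    [LocallyOfFiniteType f] [QuasiCompact f] (c : X ⟶ Y) [IsProper c] [IsReduced X] [IsReduced Y]
    (U : Y.Opens) (hU : Dense (U : Set Y)) (hcl : ∀ y, y ∉ U → IsClosed ({y} : Set Y)) [IsIso (c ∣_ U)]
    (hconn : ∀ y, y ∉ U → _root_.IsPreconnected (c ⁻¹' {y}))
    (hsn : ∀ V : Y.Opens, IsAffineOpen V → SN Γ(Y, V)) (V : Y.Opens) : IsIso (c.app V) := by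
  have hN : IsLocallyNoetherian Y := LocallyOfFiniteType.isLocallyNoetherian f
  have hfin : IsFinite c.fromNormalization := S1297.result c
  have hO' : ∀ W, IsIso (c.toNormalization.app W) := fun W => S1340.result c W
  have hcomp : c.toNormalization ≫ c.fromNormalization = c := Scheme.Hom.toNormalization_fromNormalization c
  have hp : IsProper c.toNormalization := by
    have : IsProper (c.toNormalization ≫ c.fromNormalization) := by rw [hcomp]; infer_instance
    exact IsProper.of_comp _ c.fromNormalization
  have hred : IsReduced c.normalization := isReduced_of_app c.toNormalization hO'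
  have hsurj := Contract.surjective c.toNormalization hO' c.toNormalization.isClosedMap
  have happ : ∀ W : Y.Opens, (c.fromNormalization).app W ≫ c.toNormalization.app (c.fromNormalization ⁻¹ᵁ W) =
      (c.toNormalization ≫ c.fromNormalization).app W := fun W => (Scheme.Hom.comp_app _ _ _).symm
  have hbij : ∀ V ≤ U, Function.Bijective (c.fromNormalization.app V).hom := by
    intro V hV
    have h1 : IsIso ((c.toNormalization ≫ c.fromNormalization).app V) := by
      rw [hcomp]
      exact (ConcreteCategory.isIso_iff_bijective _).2 (CurvesB.GenusLib.app_bijective c U _ hV)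
    rw [← happ] at h1
    have h2 := hO' (c.fromNormalization ⁻¹ᵁ V)
    have h3 : IsIso (c.fromNormalization.app V) :=
      @IsIso.of_isIso_comp_right _ _ _ _ _ _ (c.toNormalization.app _) h2 h1
    exact (ConcreteCategory.isIso_iff_bijective _).1 h3
  have hUr : (U : Set Y) ⊆ Set.range c.fromNormalization := by
    intro y hy
    obtain ⟨x, hx⟩ := (c ∣_ U).surjective ⟨y, hy⟩
    refine ⟨c.toNormalization ((c ⁻¹ᵁ U).ι x), ?_⟩
    rw [← Scheme.Hom.comp_apply, hcomp, ← Scheme.Hom.comp_apply, ← morphismRestrict_ι, Scheme.Hom.comp_apply, hx]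
    rfl
  have hiso : IsIso c.fromNormalization := by
    refine UniqSN.isIso_of_sn f c.fromNormalization U hU hcl hUr hbij (fun x x' hx he => ?_) hsn
    refine eq_of_preconnected c.fromNormalization (c.fromNormalization x) ?_ rfl he.symm
    have h1 : c.fromNormalization ⁻¹' {c.fromNormalization x} =
        c.toNormalization '' (c ⁻¹' {c.fromNormalization x}) := by
      ext z
      constructor
      · intro hz
        obtain ⟨w, rfl⟩ := hsurj z
        refine ⟨w, ?_, rfl⟩
        change c w = _
        rw [← (hz : c.fromNormalization (c.toNormalization w) = _), ← Scheme.Hom.comp_apply, hcomp]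
      · rintro ⟨w, hw, rfl⟩
        change c.fromNormalization (c.toNormalization w) = _
        rw [← Scheme.Hom.comp_apply, hcomp]
        exact hw
    rw [h1]
    exact (hconn _ hx).image _ c.toNormalization.continuous.continuousOn
  have h1 : IsIso ((c.toNormalization ≫ c.fromNormalization).app V) := by
    rw [← happ]
    exact IsIso.comp_isIso' inferInstance (hO' (c.fromNormalization ⁻¹ᵁ V))
  rwa [hcomp] at h1

end K897.UniqT
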