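import Groth.Agent.CurvSt.K897.UniqGen
import Groth.Agent.CurvSt.K897.UniqT
import Groth.Agent.CurvSt.K897.UniqFib
import Groth.Agent.CurvSt.K897.GeoGen
import Groth.Agent.CurvSt.K897.FibreVan
import Groth.Agent.CurvSt.K897.ContractComp
import Groth.Agent.CurvesC.ModDim

/-!
# Maps of nodal models of a smooth curve are acyclic contractions

`ρ : Z ⟶ X` a morphism of proper nodal models (over a discrete valuation ring) of a smooth proper curve `C`, compatible with the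
generic fibres: then `O_X = ρ_* O_Z`, the fibres of `ρ` have dimension at most one and `H¹(Z_x, O) = 0`.
-/

set_option autoImplicit false
universe u
open CategoryTheory CategoryTheory.Limits AlgebraicGeometry TopologicalSpace

namespace K897.UniqMain

open Groth.Agent Contract UnionTop

theorem dim_nonpos (T : Type*) [TopologicalSpace T] [Subsingleton T] : topologicalKrullDim T ≤ 0 := by
  have h3 : Subsingleton (IrreducibleCloseds T) := by
    refine ⟨fun A B => ?_⟩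
    ext z
    obtain ⟨a, ha⟩ := A.2.nonempty
    obtain ⟨b, hb⟩ := B.2.nonempty
    exact ⟨fun _ => Subsingleton.elim b z ▸ hb, fun _ => Subsingleton.elim a z ▸ ha⟩
  exact Order.krullDim_nonpos_of_subsingleton

section BC

variable {X Z : Scheme.{u}} (ρ : Z ⟶ X)

/-- the largest open over which `ρ` is an isomorphism -/
noncomputable def isoLocus : X.Opens := ⨆ V : {V : X.Opens // IsIso (ρ ∣_ V)}, V.1

theorem isIso_isoLocus : IsIso (ρ ∣_ isoLocus ρ) := by
  change MorphismProperty.isomorphisms _ _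
  rw [IsZariskiLocalAtTarget.iff_of_iSup_eq_top (P := MorphismProperty.isomorphisms Scheme.{u})
    (fun V : {V : X.Opens // IsIso (ρ ∣_ V)} => (isoLocus ρ).ι ⁻¹ᵁ V.1) (by
      rw [eq_top_iff]
      rintro ⟨x, hx⟩ -
      obtain ⟨V, hV⟩ := Opens.mem_iSup.1 hx
      exact Opens.mem_iSup.2 ⟨V, hV⟩)]
  intro V
  have h1 : IsIso (ρ ∣_ V.1) := V.2
  have h2 : IsIso (ρ ∣_ ((isoLocus ρ).ι ''ᵁ ((isoLocus ρ).ι ⁻¹ᵁ V.1))) :=
    CurvesC.ModDim.isIso_morphismRestrict_of_le ρ (V := (isoLocus ρ).ι ''ᵁ ((isoLocus ρ).ι ⁻¹ᵁ V.1))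
      (U := V.1) (by
        rw [Scheme.Hom.image_preimage_eq_opensRange_inf]
        exact inf_le_right)
  exact ((MorphismProperty.isomorphisms Scheme.{u}).arrow_mk_iso_iff
    (morphismRestrictRestrict ρ (isoLocus ρ) ((isoLocus ρ).ι ⁻¹ᵁ V.1))).2 h2

theorem le_isoLocus {V : X.Opens} (h : IsIso (ρ ∣_ V)) : V ≤ isoLocus ρ :=
  le_iSup (fun V : {V : X.Opens // IsIso (ρ ∣_ V)} => V.1) ⟨V, h⟩

theorem isIso_restrict_baseChange {X' Z' : Scheme.{u}} {a : Z' ⟶ Z} {ρ' : Z' ⟶ X'} {b : X' ⟶ X}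
    (h : IsPullback a ρ' ρ b) (U : X.Opens) (hU : IsIso (ρ ∣_ U)) : IsIso (ρ' ∣_ (b ⁻¹ᵁ U)) := by
  have h1 := (isPullback_morphismRestrict ρ' (b ⁻¹ᵁ U)).flip.paste_horiz h
  have h2 := (isPullback_morphismRestrict ρ U).flip
  rw [← morphismRestrict_ι b U] at h1
  let l : (ρ' ⁻¹ᵁ b ⁻¹ᵁ U : Scheme.{u}) ⟶ (ρ ⁻¹ᵁ U : Scheme.{u}) := h2.lift ((ρ' ⁻¹ᵁ b ⁻¹ᵁ U).ι ≫ a)
    ((ρ' ∣_ (b ⁻¹ᵁ U)) ≫ (b ∣_ U)) (by rw [h1.w, Category.assoc])
  have hl1 : l ≫ (ρ ⁻¹ᵁ U).ι = (ρ' ⁻¹ᵁ b ⁻¹ᵁ U).ι ≫ a := h2.lift_fst _ _ _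
  have hl2 : l ≫ (ρ ∣_ U) = (ρ' ∣_ (b ⁻¹ᵁ U)) ≫ (b ∣_ U) := h2.lift_snd _ _ _
  rw [← hl1] at h1
  exact (IsPullback.of_right h1 hl2 h2).isIso_snd_of_isIso

end BC

/-- the fibre over a point of the iso locus has no cohomology -/
theorem fibre_H1_of_mem {X Z : Scheme.{u}} (ρ : Z ⟶ X) (x : X) (hx : x ∈ isoLocus ρ) :
    Subsingleton (Coh.HH (ρ.fiber x) (Coh.structureModule (ρ.fiber x)) 1) := by
  have hiso := isIso_isoLocus ρ
  have h1 : Subsingleton (ρ ⁻¹' {x}) := by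
    refine ⟨fun a b => Subtype.ext ?_⟩
    have ha : a.1 ∈ ρ ⁻¹ᵁ isoLocus ρ := by
      change ρ a.1 ∈ isoLocus ρ
      rw [(a.2 : ρ a.1 = x)]
      exact hx
    exact ContractComp.eq_of_eq ρ (isoLocus ρ) ha ((a.2 : ρ a.1 = x).trans (b.2 : ρ b.1 = x).symm)
  have h2 : Subsingleton (ρ.fiber x) := (ρ.fiberHomeo x).toEquiv.subsingleton
  exact S0458.result 0 (by exact_mod_cast dim_nonpos (ρ.fiber x)) (Coh.toAb _) 1 one_pos

/-- points of a curve with finite fibre -/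
theorem finite_fibre_of_not_isClosed {X Z : Scheme.{u}} (ρ : Z ⟶ X) [IsNoetherian Z] [IsProper ρ]
    (hdim : topologicalKrullDim Z ≤ 1) (y : X) (hy : ¬ IsClosed ({y} : Set X)) : (ρ ⁻¹' {y}).Finite := by
  refine (finite_fibre_conD ρ ρ.isClosedMap hdim y).subset fun z hz => ⟨?_, hz⟩
  have h := Set.eq_univ_iff_forall.1 (union_closure_compl (conD ρ)) z
  rw [← conE_eq ρ] at h
  refine h.resolve_right fun h' => hy (isClosed_of_mem_image ρ ρ.isClosedMap ⟨z, h', hz⟩)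

/-- in a curve all of whose components have dimension one, an open containing the nonclosed points is dense -/
theorem dense_of_nonclosed {X : Scheme.{u}} (hpure : ∀ T ∈ irreducibleComponents (X : Type u), topologicalKrullDim T = 1)
    (U : X.Opens) (h : ∀ x, ¬ IsClosed ({x} : Set X) → x ∈ U) : Dense (U : Set X) := by
  intro y
  let T := irreducibleComponent y
  have hT : T ∈ irreducibleComponents (X : Type u) := irreducibleComponent_mem_irreducibleComponents y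
  obtain ⟨ξ, hξ⟩ := QuasiSober.sober hT.1 (isClosed_of_mem_irreducibleComponents T hT)
  have h1 : ξ ∈ U := by
    apply h
    intro hc
    have h2 : T = {ξ} := by
      rw [← hξ.def, hc.closure_eq]
    have h3 : Subsingleton T := by
      rw [h2]
      infer_instance
    have h4 := dim_nonpos T
    rw [hpure T hT] at h4
    exact absurd h4 (by norm_num)
  exact closure_mono (Set.singleton_subset_iff.2 h1) (hξ.def.ge mem_irreducibleComponent)

variable {R : Type u} [CommRing R] [IsDomain R] [IsDiscreteValuationRing R] {C X Z : Scheme.{u}}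
  {f : C ⟶ Spec (CommRingCat.of (FractionRing R))} (p : X ⟶ Spec (CommRingCat.of R)) (ρ : Z ⟶ X)
  (g : C ⟶ X) (g' : C ⟶ Z) [IsProper p] [IsProper ρ]
  (hC : Curve.IsSmoothProperCurve (FractionRing R) C f) (hH0 : IsIso f.appTop)
  (hp : Curv2.IsNodalFamily p) (hpZ : Curv2.IsNodalFamily (ρ ≫ p))
  (h : IsPullback g f p (Spec.map (CommRingCat.ofHom (algebraMap R (FractionRing R)))))
  (h' : IsPullback g' f (ρ ≫ p) (Spec.map (CommRingCat.ofHom (algebraMap R (FractionRing R)))))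
  (hρ : g' ≫ ρ = g)

omit [IsProper p] in
include hC hp hpZ h h' hρ in
theorem isIso_app (V : X.Opens) : IsIso (ρ.app V) := by
  obtain ⟨-, h2, h3, -⟩ := hC
  exact (UniqGen.isIso_app hp hpZ h h' hρ).1 V

include hC hH0 hpZ h' in
theorem dim_fiber_le (x : X) : topologicalKrullDim ↥(ρ.fiber x) ≤ 1 :=
  FibreVan.dim_fiber_le ρ p (p x)
    (K898.StabFam.dim_fiber (ρ ≫ p) (GeoGen.geoGenus R C Z f (ρ ≫ p) hC hH0 g' h' hpZ) (p x)).le x rfl

include hC hH0 hp hpZ h h' hρ in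
/-- **Lemma T.** -/
theorem fibre_H1 (x : X) : Subsingleton (Coh.HH (ρ.fiber x) (Coh.structureModule (ρ.fiber x)) 1) := by
  have hsm : Smooth f := hC.2.1
  have hint : IsIntegral C := hC.2.2.1
  obtain ⟨hO, hconn⟩ := UniqGen.isIso_app hp hpZ h h' hρ
  obtain ⟨Ω, _, _, t, ht⟩ := K898.StabFam.exists_geometric_point _ (p x)
  have hPX := IsPullback.of_hasPullback p t
  set X' := pullback p t with hX'
  set pX : X' ⟶ X := pullback.fst p t
  set qX : X' ⟶ Spec (CommRingCat.of Ω) := pullback.snd p t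
  have hPZ := IsPullback.of_hasPullback ρ pX
  set Z' := pullback ρ pX with hZ'
  set pZ : Z' ⟶ Z := pullback.fst ρ pX
  set ρ' : Z' ⟶ X' := pullback.snd ρ pX
  have hPZ' : IsPullback pZ (ρ' ≫ qX) (ρ ≫ p) t := hPZ.paste_vert hPX
  have hpX' : IsProper qX := MorphismProperty.of_isPullback (P := @IsProper) hPX inferInstance
  have hpρ' : IsProper ρ' := MorphismProperty.of_isPullback (P := @IsProper) hPZ inferInstance
  obtain ⟨hcX, hdX, hnX, hgX⟩ := GeoGen.geoGenus R C X f p hC hH0 g h hp Ω t X' pX qX hPX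
  obtain ⟨hcZ, hdZ, hnZ, hgZ⟩ := GeoGen.geoGenus R C Z f (ρ ≫ p) hC hH0 g' h' hpZ Ω t Z' pZ (ρ' ≫ qX) hPZ'
  let _ : X'.Over (Spec (CommRingCat.of Ω)) := ⟨qX⟩
  let _ : Z'.Over (Spec (CommRingCat.of Ω)) := ⟨ρ' ≫ qX⟩
  have i1 : IsProper (X' ↘ Spec (CommRingCat.of Ω)) := ‹IsProper qX›
  have i2 : IsProper (Z' ↘ Spec (CommRingCat.of Ω)) := inferInstanceAs (IsProper (ρ' ≫ qX))
  have hrX : IsReduced X' := CurvesC.GenusOne512.isReduced_of_atWorstNodal Ω X' hnX
  have hrZ : IsReduced Z' := CurvesC.GenusOne512.isReduced_of_atWorstNodal Ω Z' hnZ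
  have hNX : IsNoetherian X' := VarietyB.DegFin.isNoetherian_of_isProper Ω X'
  have hNZ : IsNoetherian Z' := VarietyB.DegFin.isNoetherian_of_isProper Ω Z'
  have hnfX : Curv2.IsNodalFamily qX := Sga7.H591.GeoFib.isNodalFamily_of_isPullback p hp qX pX t hPX
  have hmem : ∀ y : X', ¬ IsClosed ({y} : Set X') → pX y ∈ isoLocus ρ := by
    intro y hy
    have h1 := finite_fibre_of_not_isClosed ρ' hdZ.le y hy
    have h2 : (ρ ⁻¹' {pX y}).Finite := by
      refine (h1.image pZ).subset fun z hz => ?_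
      obtain ⟨w, hw1, hw2⟩ := Scheme.Pullback.exists_preimage_pullback (f := ρ) (g := pX) z y hz
      exact ⟨w, hw2, hw1⟩
    obtain ⟨V, hV, hVi⟩ := exists_isIso ρ hO (pX y) h2
    exact le_isoLocus ρ hVi hV
  have hiso := isIso_restrict_baseChange ρ hPZ (isoLocus ρ) (isIso_isoLocus ρ)
  have hcl : ∀ y : X', y ∉ pX ⁻¹ᵁ isoLocus ρ → IsClosed ({y} : Set X') := by
    intro y hy
    by_contra hcon
    exact hy (hmem y hcon)
  have hdense : Dense ((pX ⁻¹ᵁ isoLocus ρ : X'.Opens) : Set X') :=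
    dense_of_nonclosed (CurvesC.TailMain.pure_of_connected X' hdX) _ hmem
  have hgc : GeometricallyConnected ρ' := MorphismProperty.of_isPullback hPZ hconn
  have hO' : ∀ V : X'.Opens, IsIso (ρ'.app V) :=
    UniqT.isIso_app qX ρ' (pX ⁻¹ᵁ isoLocus ρ) hdense hcl
      (fun y _ => (ρ'.isConnected_preimage_singleton y).isPreconnected)
      (fun V hV => Sga7.H598.SNNode.sn_sections Ω X' qX hnfX V hV)
  obtain ⟨y, hy, -⟩ := Scheme.Pullback.exists_preimage_pullback (f := p) (g := t) x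
    (IsLocalRing.closedPoint Ω) ht.symm
  by_cases hyc : IsClosed ({y} : Set X')
  · have h1 := UniqFib.subsingleton_H1 Ω ρ' rfl hO' hdZ.le (hgZ.trans hgX.symm).le y hyc
    have h2 := K898.FamH0.hRank_fiber_baseChange hPZ y 1
    rw [FibreVan.hRank_of_subsingleton _ h1] at h2
    have hp2 : IsProper (ρ.fiberToSpecResidueField (pX y)) :=
      MorphismProperty.pullback_snd (P := @IsProper) _ _ ‹IsProper ρ›
    have h3 := FibreVan.subsingleton_of_hRank (k := X.residueField (pX y))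
      (ρ.fiberToSpecResidueField (pX y)) h2.symm
    rwa [(hy : pX y = x)] at h3
  · have h1 := hmem y hyc
    rw [(hy : pX y = x)] at h1
    exact fibre_H1_of_mem ρ x h1

end K897.UniqMain
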