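import Groth.Agent.Models.H58.NodalGlueGeo
import Groth.Agent.Sga7.H598.SNNode
import Groth.Agent.Ega2.Normal
import Groth.Agent.CurvesB.GenusLib

/-!
# Finite bijective morphisms onto seminormal curves which are isomorphisms off finitely many points
-/

set_option autoImplicit false
universe u
open CategoryTheory CategoryTheory.Limits AlgebraicGeometry TopologicalSpace

namespace K897.UniqSN

open Groth.Agent Groth.Agent.Models.H58.NodalGlueGeo Groth.Agent.Sga7.H598.SNDef

theorem surjective_of_sn {A B : Type*} [CommRing A] [CommRing B] [Algebra A B] [IsReduced B]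
    (hinj : Function.Injective (algebraMap A B)) (hsn : SN A) (q : Ideal B) (N : ℕ)
    (hN : ∀ x ∈ q ^ N, x ∈ (algebraMap A B).range) (hres : ∀ b : B, ∃ a : A, b - algebraMap A B a ∈ q) :
    Function.Surjective (algebraMap A B) := by
  have key : ∀ N : ℕ, (∀ x ∈ q ^ N, x ∈ (algebraMap A B).range) → ∀ x ∈ q, x ∈ (algebraMap A B).range := by
    intro N
    induction N using Nat.strong_induction_on with
    | _ N ih =>
      intro hN
      rcases Nat.lt_or_ge N 2 with h | h
      · intro x hx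
        apply hN
        have h1 : q ^ 1 ≤ q ^ N := Ideal.pow_le_pow_right (by omega)
        exact h1 (by rwa [pow_one])
      · refine ih ((N + 1) / 2) (by omega) fun x hx => ?_
        apply hsn.mem_range hinj
        · apply hN
          have h1 : q ^ ((N + 1) / 2 * 2) ≤ q ^ N := Ideal.pow_le_pow_right (by omega)
          apply h1
          rw [pow_mul]
          exact Ideal.pow_mem_pow hx 2
        · apply hN
          have h1 : q ^ ((N + 1) / 2 * 3) ≤ q ^ N := Ideal.pow_le_pow_right (by omega)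
          apply h1
          rw [pow_mul]
          exact Ideal.pow_mem_pow hx 3
  intro b
  obtain ⟨a, ha⟩ := hres b
  obtain ⟨a', ha'⟩ := key N hN _ ha
  exact ⟨a + a', by rw [map_add, ha']; ring⟩

theorem exists_pow_mem {A B : Type*} [CommRing A] [CommRing B] [Algebra A B] [IsNoetherianRing A] [Module.Finite A B]
    (p : Ideal A) [p.IsMaximal] (q : Ideal B)
    (huniq : ∀ q' : Ideal B, q'.IsPrime → q'.comap (algebraMap A B) = p → q' = q)
    (hf : ∀ f ∈ p, ∀ b : B, ∃ n : ℕ, algebraMap A B f ^ n * b ∈ (algebraMap A B).range) :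
    ∃ N : ℕ, ∀ x ∈ q ^ N, x ∈ (algebraMap A B).range := by
  -- the conductor
  let J : Ideal A :=
    { carrier := {a | ∀ b : B, algebraMap A B a * b ∈ (algebraMap A B).range}
      zero_mem' := fun b => by rw [map_zero, zero_mul]; exact zero_mem _
      add_mem' := fun {x y} hx hy b => by rw [map_add, add_mul]; exact add_mem (hx b) (hy b)
      smul_mem' := fun c x hx b => by
        rw [smul_eq_mul, map_mul, mul_comm (algebraMap A B c), mul_assoc]
        exact hx _ }
  have h1 : p ≤ J.radical := by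
    intro f hfp
    obtain ⟨S, hS⟩ := (Module.Finite.fg_top : (⊤ : Submodule A B).FG)
    choose n hn using hf f hfp
    refine ⟨S.sup n, fun b => ?_⟩
    have hb : b ∈ Submodule.span A (S : Set B) := by rw [hS]; trivial
    induction hb using Submodule.span_induction with
    | mem s hs =>
      have h2 : n s ≤ S.sup n := Finset.le_sup hs
      obtain ⟨a, ha⟩ := hn s
      refine ⟨f ^ (S.sup n - n s) * a, ?_⟩
      rw [map_mul, ha, map_pow, map_pow, ← mul_assoc, ← pow_add, Nat.sub_add_cancel h2]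
    | zero => rw [mul_zero]; exact zero_mem _
    | add x y _ _ hx hy => rw [mul_add]; exact add_mem hx hy
    | smul a x _ hx =>
      rw [Algebra.smul_def, mul_left_comm]
      exact mul_mem ⟨a, rfl⟩ hx
  obtain ⟨n, hn⟩ := Ideal.exists_pow_le_of_le_radical_of_fg h1 (IsNoetherian.noetherian p)
  have hNB : IsNoetherianRing B := IsNoetherianRing.of_finite A B
  have h2 : q ≤ (p.map (algebraMap A B)).radical := by
    rw [Ideal.radical_eq_sInf]
    refine le_sInf ?_
    rintro q' ⟨hq', hpr⟩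
    have h3 : p ≤ q'.comap (algebraMap A B) := Ideal.map_le_iff_le_comap.1 hq'
    have h4 := (Ideal.IsMaximal.eq_of_le ‹p.IsMaximal› (Ideal.comap_ne_top _ hpr.ne_top) h3).symm
    rw [huniq q' hpr h4]
  obtain ⟨k, hk⟩ := Ideal.exists_pow_le_of_le_radical_of_fg h2 (IsNoetherian.noetherian q)
  refine ⟨k * n, fun x hx => ?_⟩
  have h3 : x ∈ (p ^ n).map (algebraMap A B) := by
    rw [Ideal.map_pow]
    rw [pow_mul] at hx
    exact Ideal.pow_right_mono hk n hx
  have h4 : ∀ y ∈ (p ^ n).map (algebraMap A B), ∀ b : B, b * y ∈ (algebraMap A B).range := by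
    intro y hy
    rw [Ideal.map] at hy
    induction hy using Submodule.span_induction with
    | mem s hs =>
      obtain ⟨a, ha, rfl⟩ := hs
      intro b
      rw [mul_comm]
      exact hn ha b
    | zero => intro b; rw [mul_zero]; exact zero_mem _
    | add x y _ _ hx hy => intro b; rw [mul_add]; exact add_mem (hx b) (hy b)
    | smul c x _ hx =>
      intro b
      rw [smul_eq_mul, ← mul_assoc]
      exact hx _
  have h5 := h4 x h3 1
  rwa [one_mul] at h5

/-- sections over `ν⁻¹ V` multiplied by a power of `a` come from `V` if `ν` is bijective over `D(a)` -/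
theorem exists_pow_mul {Z Z' : Scheme.{u}} {ν : Z' ⟶ Z} {V : Z.Opens} (hV : IsAffineOpen V) (hW : IsAffineOpen (ν ⁻¹ᵁ V))
    (a : Γ(Z, V)) (b : Γ(Z', ν ⁻¹ᵁ V)) (hbij : Function.Bijective (ν.app (Z.basicOpen a)).hom) :
    ∃ n : ℕ, (ν.app V).hom a ^ n * b ∈ (ν.app V).hom.range := by
  have hle : ν ⁻¹ᵁ (Z.basicOpen a) ≤ ν ⁻¹ᵁ V := Scheme.Hom.preimage_mono ν (Z.basicOpen_le a)
  obtain ⟨t, ht⟩ := hbij.2 (Z'.presheaf.map (homOfLE hle).op b)
  obtain ⟨n, s, hs⟩ := exists_eq_pow_mul_of_isAffineOpen Z V hV a t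
  have hnat : ∀ s : Γ(Z, V), (ν.app (Z.basicOpen a)).hom (Z.presheaf.map (homOfLE (Z.basicOpen_le a)).op s) =
      Z'.presheaf.map (homOfLE hle).op ((ν.app V).hom s) := fun s =>
    congr($(ν.naturality (homOfLE (Z.basicOpen_le a)).op) s)
  have h1 : Z'.presheaf.map (homOfLE hle).op ((ν.app V).hom s - (ν.app V).hom a ^ n * b) = 0 := by
    rw [map_sub, map_mul, map_pow, ← ht, ← hnat, ← hnat, sub_eq_zero]
    have h2 := congrArg (ν.app (Z.basicOpen a)).hom hs
    rw [map_mul, map_pow] at h2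
    exact h2
  have hpre : Z'.basicOpen ((ν.app V).hom a) = ν ⁻¹ᵁ (Z.basicOpen a) := (Scheme.preimage_basicOpen ν a).symm
  have h3 : ((ν.app V).hom s - (ν.app V).hom a ^ n * b) |_ (Z'.basicOpen ((ν.app V).hom a)) = 0 := by
    have h4 : Z'.basicOpen ((ν.app V).hom a) ≤ ν ⁻¹ᵁ (Z.basicOpen a) := hpre.le
    have h5 := congrArg (Z'.presheaf.map (homOfLE h4).op) h1
    rw [map_zero] at h5
    refine Eq.trans ?_ h5
    change _ = (Z'.presheaf.map (homOfLE hle).op ≫ Z'.presheaf.map (homOfLE h4).op) _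
    rw [← Functor.map_comp]
    rfl
  obtain ⟨m, hm⟩ := exists_pow_mul_eq_zero_of_res_basicOpen_eq_zero_of_isCompact Z' hW.isCompact _ _ h3
  refine ⟨m + n, a ^ m * s, ?_⟩
  rw [mul_sub, sub_eq_zero] at hm
  rw [map_mul, map_pow, hm, pow_add, mul_assoc]

section Geo

variable {k : Type u} [Field k] [IsAlgClosed k] {Z Z' : Scheme.{u}} (f : Z ⟶ Spec (CommRingCat.of k))
  (ν : Z' ⟶ Z) [LocallyOfFiniteType f] [QuasiCompact f] [IsFinite ν]

include f in
/-- **Finite bijective morphisms onto seminormal schemes.** -/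
theorem isIso_of_sn [IsReduced Z] [IsReduced Z'] (U : Z.Opens) (hU : Dense (U : Set Z))
    (hcl : ∀ z, z ∉ U → IsClosed ({z} : Set Z)) (hUr : (U : Set Z) ⊆ Set.range ν)
    (hbij : ∀ V ≤ U, Function.Bijective (ν.app V).hom)
    (hinj : ∀ x x' : Z', ν x ∉ U → ν x = ν x' → x = x')
    (hsn : ∀ V : Z.Opens, IsAffineOpen V → SN Γ(Z, V)) : IsIso ν := by
  have hN : IsNoetherian Z := isNoetherian f
  have hsurj : Function.Surjective ν := by
    have h1 : IsClosed (Set.range ν) := ν.isClosedMap.isClosed_range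
    rw [← Set.range_eq_univ, ← Set.univ_subset_iff, ← hU.closure_eq]
    exact closure_minimal hUr h1
  refine Ega2.Normal.isIso_of_bijective_app ν fun z => ?_
  by_cases hz : z ∈ U
  · obtain ⟨V, hV, hzV, hVU⟩ := exists_isAffineOpen_mem_and_subset (U := U) (x := z) hz
    exact ⟨V, hzV, hV, hbij V hVU⟩
  · have hzc := hcl z hz
    have hfin : ((U : Set Z)ᶜ).Finite := finite_of_isClosed_singleton U.2.isClosed_compl
      (fun s hs => hcl s hs)
    have hclosed : IsClosed ((U : Set Z)ᶜ \ {z}) := by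
      rw [← Set.biUnion_of_singleton ((U : Set Z)ᶜ \ {z})]
      exact (hfin.subset Set.sdiff_subset).isClosed_biUnion
        (fun s hs => hcl s hs.1)
    obtain ⟨V, hV, hzV, hVsub⟩ := exists_isAffineOpen_mem_and_subset
      (U := (⟨((U : Set Z)ᶜ \ {z})ᶜ, hclosed.isOpen_compl⟩ : Z.Opens)) (x := z) (by simp)
    have hVU : ∀ x ∈ V, x ∉ U → x = z := by
      intro x hxV hxU
      by_contra hne
      exact hVsub hxV ⟨hxU, hne⟩
    have hW : IsAffineOpen (ν ⁻¹ᵁ V) := hV.preimage ν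
    have hdom : IsDominant ν := ⟨hU.mono hUr⟩
    have hsd := IsSchemeTheoreticallyDominant.of_isDominant ν
    refine ⟨V, hzV, hV, ν.app_injective V, ?_⟩
    let _ : Algebra Γ(Z, V) Γ(Z', ν ⁻¹ᵁ V) := (ν.app V).hom.toAlgebra
    let _ : Algebra Γ(Z, V) (Z.presheaf.stalk z) := Z.presheaf.algebra_section_stalk ⟨z, hzV⟩
    let _ : Algebra k Γ(Z, V) :=
      ((f.appLE ⊤ V le_top).hom.comp (Scheme.ΓSpecIso (CommRingCat.of k)).inv.hom).toAlgebra
    have _ : Algebra.FiniteType k Γ(Z, V) := finiteType_section f V hV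
    have _ : Module.Finite Γ(Z, V) Γ(Z', ν ⁻¹ᵁ V) := ν.finite_app V hV
    have hloc : IsLocalization.AtPrime (Z.presheaf.stalk z) (hV.primeIdealOf ⟨z, hzV⟩).asIdeal :=
      hV.isLocalization_stalk ⟨z, hzV⟩
    have hpmax := Dix.ClosedAlg.isMaximal_primeIdealOf z hzc V hV hzV
    have hNA : IsNoetherianRing Γ(Z, V) := IsLocallyNoetherian.component_noetherian ⟨V, hV⟩
    have hredB : _root_.IsReduced Γ(Z', ν ⁻¹ᵁ V) := inferInstance
    -- the primes over `p`
    have hq : ∀ q : Ideal Γ(Z', ν ⁻¹ᵁ V), ∀ hq : q.IsPrime,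
        q.comap (algebraMap Γ(Z, V) Γ(Z', ν ⁻¹ᵁ V)) = (hV.primeIdealOf ⟨z, hzV⟩).asIdeal →
        ∃ (x : Z') (hx : x ∈ ν ⁻¹ᵁ V), (hW.primeIdealOf ⟨x, hx⟩).asIdeal = q ∧ ν x = z := by
      intro q hq hqp
      obtain ⟨⟨x, hx⟩, hxq⟩ := Sga67.BlowReg.exists_primeIdealOf_eq hW ⟨q, hq⟩
      have hxq' : (hW.primeIdealOf ⟨x, hx⟩).asIdeal = q := congrArg PrimeSpectrum.asIdeal hxq
      refine ⟨x, hx, hxq', ?_⟩
      have h1 := IsAffineOpen.comap_primeIdealOf_appLE V hV (ν ⁻¹ᵁ V) hW le_rfl hx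
      rw [Scheme.Hom.appLE_eq_app] at h1
      have h2 := congr_arg PrimeSpectrum.asIdeal h1
      have h3 : (hV.primeIdealOf ⟨ν x, hx⟩).asIdeal = (hV.primeIdealOf ⟨z, hzV⟩).asIdeal := by
        rw [← hqp, ← hxq']
        exact h2.symm
      have h4 := PrimeSpectrum.ext h3
      have h5 := congrArg hV.fromSpec h4
      rwa [hV.fromSpec_primeIdealOf, hV.fromSpec_primeIdealOf] at h5
    obtain ⟨x, hxz⟩ := hsurj z
    have hx : x ∈ ν ⁻¹ᵁ V := by
      change ν x ∈ V
      rwa [hxz]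
    set q := (hW.primeIdealOf ⟨x, hx⟩).asIdeal with hqd
    have hqp : q.comap (algebraMap Γ(Z, V) Γ(Z', ν ⁻¹ᵁ V)) = (hV.primeIdealOf ⟨z, hzV⟩).asIdeal := by
      have h1 := IsAffineOpen.comap_primeIdealOf_appLE V hV (ν ⁻¹ᵁ V) hW le_rfl hx
      rw [Scheme.Hom.appLE_eq_app] at h1
      have h2 := congr_arg PrimeSpectrum.asIdeal h1
      refine h2.trans ?_
      subst hxz
      rfl
    have huniq : ∀ q' : Ideal Γ(Z', ν ⁻¹ᵁ V), q'.IsPrime →
        q'.comap (algebraMap Γ(Z, V) Γ(Z', ν ⁻¹ᵁ V)) = (hV.primeIdealOf ⟨z, hzV⟩).asIdeal → q' = q := by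
      intro q' hq' hqp'
      obtain ⟨x', hx', rfl, hxz'⟩ := hq q' hq' hqp'
      have h1 : x = x' := hinj x x' (by rw [hxz]; exact hz) (hxz.trans hxz'.symm)
      subst h1
      rfl
    have hprime : q.IsPrime := (hW.primeIdealOf ⟨x, hx⟩).isPrime
    obtain ⟨N, hNN⟩ := exists_pow_mem (hV.primeIdealOf ⟨z, hzV⟩).asIdeal q huniq (by
      intro a ha b
      have hDU : Z.basicOpen a ≤ U := by
        intro y hy
        by_contra hyU
        have h1 : y = z := hVU y (Z.basicOpen_le a hy) hyU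
        subst h1
        have h2 := (Scheme.mem_basicOpen Z a y hzV).1 hy
        exact (IsLocalRing.mem_maximalIdeal _).1 ((Dix.ClosedAlg.germ_mem_maximalIdeal_iff y V hV hzV a).2 ha) h2
      have hpre : Z'.basicOpen (ν.app V a) = ν ⁻¹ᵁ (Z.basicOpen a) := (Scheme.preimage_basicOpen ν a).symm
      exact exists_pow_mul hV hW a b (hbij _ hDU))
    exact surjective_of_sn (ν.app_injective V) (hsn V hV) q N hNN fun b =>
      exists_const_mod (k := k) (hV.primeIdealOf ⟨z, hzV⟩).asIdeal q hqp b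

end Geo

end K897.UniqSN
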